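import Groth.Agent.FibreDim.Semicontinuity
import Groth.Prelude.Def_Cyc

/-!
# Relative dimension in terms of local fibre dimensions
-/

universe u

open CategoryTheory CategoryTheory.Limits AlgebraicGeometry TopologicalSpace Topology

namespace Groth.FibreDim

variable {Z : Scheme.{u}}

lemma isMax_of_mem_genericPoints {η : Z} (h : closure {η} ∈ irreducibleComponents Z) : IsMax η := by
  intro z (hz : z ⤳ η)
  have hle : closure {η} ⊆ closure {z} :=
    closure_minimal (Set.singleton_subset_iff.2 (specializes_iff_mem_closure.1 hz)) isClosed_closure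
  exact (specializes_iff_mem_closure.2 (h.2 isIrreducible_singleton.closure hle (subset_closure rfl)) :
    η ⤳ z)

/-- Every point has a maximal generalization. -/
lemma exists_genericPoint_specializes (z : Z) :
    ∃ η : Z, η ⤳ z ∧ closure {η} ∈ irreducibleComponents Z := by
  obtain ⟨T, hT, hzT⟩ : ∃ T ∈ irreducibleComponents Z, z ∈ T :=
    ⟨irreducibleComponent z, irreducibleComponent_mem_irreducibleComponents z, mem_irreducibleComponent⟩
  have hg := hT.1.isGenericPoint_genericPoint (isClosed_of_mem_irreducibleComponents T hT)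
  exact ⟨hT.1.genericPoint, hg.specializes hzT, hg.def.symm ▸ hT⟩

variable {k : Type u} [Field k] (q : Z ⟶ Spec (CommRingCat.of k)) [LocallyOfFiniteType q]

include q in
lemma localDim_eq_height_of_isMax {η : Z} (h : IsMax η) :
    FlatMor.localDim Z η = (Order.height η : ℕ∞) := by
  letI : Z.Over (Spec (CommRingCat.of k)) := ⟨q⟩
  haveI : LocallyOfFiniteType (Z ↘ Spec (CommRingCat.of k)) := ‹LocallyOfFiniteType q›
  rw [Groth.VarietyBC.localDim_eq_height_add k η, ringKrullDim_stalk_eq_coheight,
    Order.coheight_eq_zero.2 h]
  simp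

include q in
/-- All components have dimension `r` iff all local dimensions are `r`. -/
theorem forall_component_dim_eq_iff (r : ℕ) :
    (∀ T ∈ irreducibleComponents Z, topologicalKrullDim T = r) ↔
      ∀ z : Z, FlatMor.localDim Z z = r := by
  have hT : ∀ T ∈ irreducibleComponents Z, ∃ η : Z, T = closure {η} ∧ IsMax η := fun T hT => by
    have hg := hT.1.isGenericPoint_genericPoint (isClosed_of_mem_irreducibleComponents T hT)
    exact ⟨_, hg.def.symm, isMax_of_mem_genericPoints (by rw [hg.def]; exact hT)⟩
  constructor
  · intro h z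
    have hη : ∀ η : Z, closure {η} ∈ irreducibleComponents Z →
        ((Order.height η : ℕ∞) : WithBot ℕ∞) = r := fun η hη => by
      rw [← Groth.Variety2.Dim.dim_closure_singleton]; exact h _ hη
    obtain ⟨η, hηz, hηc⟩ := exists_genericPoint_specializes z
    refine le_antisymm ((Groth.SpectralTopology.localDim_le_dim z).trans ?_) ?_
    · rw [Groth.Variety2.Dim.dim_eq_iSup_height]
      refine iSup_le fun w => ?_
      obtain ⟨ξ, hξw, hξc⟩ := exists_genericPoint_specializes w
      rw [← hη ξ hξc]
      exact WithBot.coe_le_coe.2 (Order.height_mono (hξw : w ≤ ξ))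
    · rw [← hη η hηc, ← localDim_eq_height_of_isMax q (isMax_of_mem_genericPoints hηc)]
      obtain ⟨U, hU, hd⟩ := Groth.SpectralTopology.exists_localDim_eq z
      rw [← hd]
      exact Groth.SpectralTopology.localDim_le_of_mem (hηz.mem_open U.isOpen hU)
  · intro h T hT'
    obtain ⟨η, rfl, hmax⟩ := hT T hT'
    rw [Groth.Variety2.Dim.dim_closure_singleton, ← localDim_eq_height_of_isMax q hmax, h]

/-- `f` has relative dimension `r` iff its fibre dimension is `r` at every point. -/
theorem hasRelDim_iff {X Y : Scheme.{u}} (f : X ⟶ Y) [LocallyOfFiniteType f] (r : ℕ) :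
    Cyc.HasRelDim f r ↔ ∀ x : X, FlatMor.fibreDimAt f x = r := by
  constructor
  · intro h x
    exact (forall_component_dim_eq_iff (k := Y.residueField (f.base x))
      (f.fiberToSpecResidueField (f.base x)) r).1 (h (f.base x)) _
  · intro h y
    exact (forall_component_dim_eq_iff (k := Y.residueField y) (f.fiberToSpecResidueField y) r).2
      fun z => by rw [← fibreDimAt_fiberι f y z]; exact h _

end Groth.FibreDim
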