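import Groth.Agent.FibreDim.Constructible
import Groth.Agent.FibreDim.RelDim
import Groth.Agent.GrpschAbsch.GrpDim

/-!
# Dimension of the fibres of a group scheme
-/

universe u

open CategoryTheory CategoryTheory.Limits AlgebraicGeometry TopologicalSpace Topology MonObj
open scoped Topology

namespace Groth.FibreDim

theorem localDim_eq_dim_of_grpObj {k : Type u} [Field k] (G : Over (Spec (CommRingCat.of k))) [GrpObj G]
    [LocallyOfFiniteType G.hom] (g : G.left) :
    FlatMor.localDim G.left g = topologicalKrullDim G.left := by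
  obtain ⟨θ, hθ, hθc⟩ := exists_genericPoint_specializes g
  refine le_antisymm (Groth.SpectralTopology.localDim_le_dim g) ?_
  rw [← Groth.GrpschAbsch.height_eq_dim_of_isMax G (isMax_of_mem_genericPoints hθc),
    ← localDim_eq_height_of_isMax (k := k) G.hom (isMax_of_mem_genericPoints hθc)]
  obtain ⟨U, hU, hd⟩ := Groth.SpectralTopology.exists_localDim_eq g
  rw [← hd]
  exact Groth.SpectralTopology.localDim_le_of_mem (hθ.mem_open U.isOpen hU)

theorem exists_dim_eq_nat {k : Type u} [Field k] (G : Over (Spec (CommRingCat.of k))) [GrpObj G]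
    [LocallyOfFiniteType G.hom] : ∃ n : ℕ, topologicalKrullDim G.left = n := by
  let e : G.left := η[G].left.base (IsLocalRing.closedPoint k)
  obtain ⟨ξ, -, hξ⟩ := exists_height_eq_localDim (k := k) G.hom e
  obtain ⟨n, -, hn⟩ := Groth.Variety2.Dim.exists_trdegAt_eq_height (k := k) G.hom ξ
  refine ⟨n, ?_⟩
  rw [← localDim_eq_dim_of_grpObj G e, ← hξ, hn]
  rfl

variable {S : Scheme.{u}} (G : Over S) [GrpObj G] [LocallyOfFiniteType G.hom]

/-- The unit section. -/
noncomputable def unitSection : S ⟶ G.left := η[G].left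

omit [LocallyOfFiniteType G.hom] in
lemma unitSection_comp : unitSection G ≫ G.hom = 𝟙 S := Over.w η[G]

lemma dim_fiber_eq_unit (s : S) : ∃ n : ℕ, topologicalKrullDim ↥(G.hom.base ⁻¹' {s}) = n ∧
    FlatMor.fibreDimAt G.hom ((unitSection G).base s) = n := by
  let : GrpObj (Over.mk G.hom) := ‹GrpObj G›
  let : GrpObj (Over.mk (pullback.snd G.hom (S.fromSpecResidueField s))) := Over.grpObjMkPullbackSnd
  haveI : LocallyOfFiniteType (Over.mk (pullback.snd G.hom (S.fromSpecResidueField s))).hom :=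
    inferInstanceAs (LocallyOfFiniteType (pullback.snd _ _))
  obtain ⟨n, hn⟩ := exists_dim_eq_nat (k := S.residueField s)
    (Over.mk (pullback.snd G.hom (S.fromSpecResidueField s)))
  have hdim : topologicalKrullDim ↥(G.hom.base ⁻¹' {s}) = n := by
    rw [Groth.Variety2.Dim.dim_preimage_singleton]; exact hn
  refine ⟨n, hdim, ?_⟩
  have hs : G.hom.base ((unitSection G).base s) = s := by
    rw [← Scheme.Hom.comp_apply, unitSection_comp]; rfl
  obtain ⟨z, hz⟩ : (unitSection G).base s ∈ Set.range (G.hom.fiberι s).base :=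
    (G.hom.range_fiberι s).ge hs
  rw [← hz, fibreDimAt_fiberι]
  exact (localDim_eq_dim_of_grpObj (k := S.residueField s)
    (Over.mk (pullback.snd G.hom (S.fromSpecResidueField s))) z).trans hn

lemma dim_fiber_eq_fibreDimAt_unit (s : S) : topologicalKrullDim ↥(G.hom.base ⁻¹' {s}) =
    FlatMor.fibreDimAt G.hom ((unitSection G).base s) := by
  obtain ⟨n, h1, h2⟩ := dim_fiber_eq_unit G s
  rw [h1, h2]

theorem isOpen_dim_le (n : ℕ) : IsOpen {s : S | topologicalKrullDim ↥(G.hom.base ⁻¹' {s}) ≤ n} := by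
  simp_rw [dim_fiber_eq_fibreDimAt_unit]
  exact (isOpen_fibreDimAt_le G.hom n).preimage (unitSection G).continuous

theorem upperSemicontinuous_dim :
    UpperSemicontinuous (fun s : S => topologicalKrullDim ↥(G.hom.base ⁻¹' {s})) := by
  refine upperSemicontinuous_iff_isOpen_preimage.2 fun c => ?_
  have : (fun s : S => topologicalKrullDim ↥(G.hom.base ⁻¹' {s})) ⁻¹' Set.Iio c =
      ⋃ n : {n : ℕ // (n : WithBot ℕ∞) < c}, {s : S | topologicalKrullDim ↥(G.hom.base ⁻¹' {s}) ≤ n.1} := by
    ext s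
    obtain ⟨m, hm, -⟩ := dim_fiber_eq_unit G s
    simp only [Set.mem_preimage, Set.mem_Iio, Set.mem_iUnion, Set.mem_setOf_eq]
    exact ⟨fun h => ⟨⟨m, hm ▸ h⟩, hm.le⟩, fun ⟨⟨n, hn⟩, hle⟩ => hle.trans_lt hn⟩
  rw [this]
  exact isOpen_iUnion fun n => isOpen_dim_le G n.1

theorem isLocallyConstructible_dim_le [LocallyOfFinitePresentation G.hom] (n : ℕ) :
    IsLocallyConstructible {s : S | topologicalKrullDim ↥(G.hom.base ⁻¹' {s}) ≤ n} := by
  simp_rw [dim_fiber_eq_fibreDimAt_unit]
  have hloc : IsLocallyConstructible {x : G.left | FlatMor.fibreDimAt G.hom x ≤ n} :=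
    (isRetrocompact_fibreDimAt_le G.hom n).isLocallyConstructible (isOpen_fibreDimAt_le G.hom n)
  intro s
  obtain ⟨W, hW, hsW, -⟩ := exists_isAffineOpen_mem_and_subset (U := ⊤) (Set.mem_univ ((unitSection G).base s))
  obtain ⟨V, hV, hsV, hVW⟩ := exists_isAffineOpen_mem_and_subset (U := (unitSection G) ⁻¹ᵁ W) hsW
  have hVW' : V ≤ (unitSection G) ⁻¹ᵁ W := hVW
  haveI : IsAffine V := hV
  haveI : IsAffine W := hW
  refine ⟨V, V.isOpen.mem_nhds hsV, V.isOpen, ?_⟩
  have h1 : IsConstructible (W.ι.base ⁻¹' {x : G.left | FlatMor.fibreDimAt G.hom x ≤ n}) :=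
    (hloc.preimage_of_isOpenEmbedding W.ι.isOpenEmbedding).isConstructible
  have h2 := ((unitSection G).resLE W V hVW').isConstructible_preimage h1
  have h3 : (((unitSection G).resLE W V hVW').base ⁻¹' (W.ι.base ⁻¹' {x : G.left | FlatMor.fibreDimAt G.hom x ≤ n})) =
      Subtype.val ⁻¹' {s : S | FlatMor.fibreDimAt G.hom ((unitSection G).base s) ≤ n} := by
    ext v
    show FlatMor.fibreDimAt G.hom (W.ι.base _) ≤ n ↔ FlatMor.fibreDimAt G.hom ((unitSection G).base v.1) ≤ n
    rw [← Scheme.Hom.comp_apply, Scheme.Hom.resLE_comp_ι, Scheme.Hom.comp_apply]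
    rfl
  exact h3 ▸ h2

theorem exists_isConstructible_levels [LocallyOfFinitePresentation G.hom] (s : S) :
    ∃ V : S.Opens, s ∈ V ∧
      ((fun t : S => topologicalKrullDim ↥(G.hom.base ⁻¹' {t})) '' (V : Set S)).Finite ∧
      ∀ d : WithBot ℕ∞, IsConstructible {t : V | topologicalKrullDim ↥(G.hom.base ⁻¹' {(t : S)}) = d} := by
  obtain ⟨V, hV, hsV, -⟩ := exists_isAffineOpen_mem_and_subset (U := ⊤) (Set.mem_univ s)
  haveI : IsAffine V := hV
  have hval : ∀ n : ℕ, IsConstructible
      {t : V | topologicalKrullDim ↥(G.hom.base ⁻¹' {(t : S)}) ≤ (n : WithBot ℕ∞)} := fun n =>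
    ((isLocallyConstructible_dim_le G n).preimage_of_isOpenEmbedding V.ι.isOpenEmbedding).isConstructible
  obtain ⟨N, hN⟩ : ∃ N : ℕ, ∀ t ∈ V, topologicalKrullDim ↥(G.hom.base ⁻¹' {t}) ≤ (N : WithBot ℕ∞) := by
    obtain ⟨T, hT⟩ := hV.isCompact.elim_finite_subcover
      (fun n : ℕ => {t : S | topologicalKrullDim ↥(G.hom.base ⁻¹' {t}) ≤ (n : WithBot ℕ∞)})
      (fun n => isOpen_dim_le G n) fun t _ => by
        obtain ⟨m, hm, -⟩ := dim_fiber_eq_unit G t
        exact Set.mem_iUnion.2 ⟨m, hm.le⟩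
    refine ⟨T.sup id, fun t ht => ?_⟩
    obtain ⟨n, hn, hn'⟩ := Set.mem_iUnion₂.1 (hT ht)
    exact le_trans hn' (by exact_mod_cast Finset.le_sup (f := id) hn)
  refine ⟨V, hsV, ?_, fun d => ?_⟩
  · refine (Finset.range (N + 1)).finite_toSet.image (fun n : ℕ => (n : WithBot ℕ∞)) |>.subset ?_
    rintro _ ⟨t, ht, rfl⟩
    obtain ⟨m, hm, -⟩ := dim_fiber_eq_unit G t
    refine ⟨m, Finset.mem_coe.2 (Finset.mem_range.2 (Nat.lt_succ_of_le ?_)), hm.symm⟩
    exact_mod_cast hm ▸ hN t ht
  · by_cases hd : ∃ m : ℕ, d = m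
    · obtain ⟨m, rfl⟩ := hd
      cases m with
      | zero =>
        convert hval 0 using 1
        ext t
        obtain ⟨j, hj, -⟩ := dim_fiber_eq_unit G t.1
        simp only [Set.mem_setOf_eq, hj]
        norm_cast
        omega
      | succ m =>
        convert (hval (m + 1)).sdiff (hval m) using 1
        ext t
        obtain ⟨j, hj, -⟩ := dim_fiber_eq_unit G t.1
        simp only [Set.mem_setOf_eq, Set.mem_diff, hj]
        norm_cast
        omega
    · suffices he : {t : ↥(V : Set S) | topologicalKrullDim ↥(G.hom.base ⁻¹' {(t : S)}) = d} = ∅ by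
        exact he.symm ▸ (IsConstructible.empty : IsConstructible (∅ : Set ↥(V : Set S)))
      refine Set.eq_empty_iff_forall_notMem.2 fun t => ?_
      obtain ⟨j, hj, -⟩ := dim_fiber_eq_unit G t.1
      simp only [Set.mem_setOf_eq, hj]
      exact fun h => hd ⟨j, h.symm⟩

theorem isLocallyConstant_dim [Flat G.hom] [LocallyOfFinitePresentation G.hom] :
    IsLocallyConstant (fun s : S => topologicalKrullDim ↥(G.hom.base ⁻¹' {s})) := by
  rw [IsLocallyConstant.iff_isOpen_fiber]
  intro c
  by_cases hc : ∃ m : ℕ, c = m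
  · obtain ⟨m, rfl⟩ := hc
    have hopen : ∀ n : ℕ, IsOpen {s : S | ¬ topologicalKrullDim ↥(G.hom.base ⁻¹' {s}) ≤ (n : WithBot ℕ∞)} := fun n => by
      refine isOpen_of_isLocallyConstructible
        (Groth.EGA41Two.isLocallyConstructible_compl (isLocallyConstructible_dim_le G n))
        fun y' y hsp hy h => hy (le_trans ?_ h)
      rw [Groth.Variety2.Dim.dim_preimage_singleton, Groth.Variety2.Dim.dim_preimage_singleton]
      exact dim_fiber_le_of_specializes G.hom hsp
    cases m with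
    | zero =>
      convert isOpen_dim_le G 0 using 1
      ext s
      obtain ⟨j, hj, -⟩ := dim_fiber_eq_unit G s
      simp only [Set.mem_preimage, Set.mem_singleton_iff, Set.mem_setOf_eq, hj]
      norm_cast
      omega
    | succ m =>
      convert (isOpen_dim_le G (m + 1)).inter (hopen m) using 1
      ext s
      obtain ⟨j, hj, -⟩ := dim_fiber_eq_unit G s
      simp only [Set.mem_preimage, Set.mem_singleton_iff, Set.mem_setOf_eq, Set.mem_inter_iff, hj]
      norm_cast
      omega
  · convert isOpen_empty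
    ext s
    obtain ⟨j, hj, -⟩ := dim_fiber_eq_unit G s
    simp only [Set.mem_preimage, Set.mem_singleton_iff, Set.mem_empty_iff_false, iff_false, hj]
    exact fun h => hc ⟨j, h.symm⟩

end Groth.FibreDim
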