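import Groth.Agent.FibreDim.Algebra
import Groth.Agent.Variety2.DimFiber
import Groth.Agent.VarietyBC.Dim
import Groth.Agent.SpectralTopology.Dim
import Groth.Prelude.Def_Flat

/-!
# Upper semicontinuity of fibre dimension (Chevalley, EGA IV 13.1.3)
-/

universe u

open CategoryTheory CategoryTheory.Limits AlgebraicGeometry TopologicalSpace Topology

namespace Groth.FibreDim

section Field

variable {k : Type u} [Field k] {Z : Scheme.{u}} (q : Z ⟶ Spec (CommRingCat.of k))
  [LocallyOfFiniteType q]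

include q in
/-- If all points of an open neighbourhood have height `≤ n`, so is the local dimension. -/
theorem localDim_le_of_height_le (O : Z.Opens) {z : Z} (hz : z ∈ O) {n : ℕ}
    (h : ∀ w ∈ O, Order.height w ≤ (n : ℕ∞)) : FlatMor.localDim Z z ≤ n := by
  letI : Z.Over (Spec (CommRingCat.of k)) := ⟨q⟩
  haveI : LocallyOfFiniteType (Z ↘ Spec (CommRingCat.of k)) := ‹LocallyOfFiniteType q›
  refine (Groth.SpectralTopology.localDim_le_of_mem hz).trans ?_
  rw [Groth.VarietyBC.dim_opens_eq_iSup k O]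
  exact iSup_le fun w => WithBot.coe_le_coe.2 (h _ w.2)

include q in
/-- The height of a point is at most the local dimension there. -/
theorem height_le_localDim (z : Z) :
    ((Order.height z : ℕ∞) : WithBot ℕ∞) ≤ FlatMor.localDim Z z := by
  letI : Z.Over (Spec (CommRingCat.of k)) := ⟨q⟩
  haveI : LocallyOfFiniteType (Z ↘ Spec (CommRingCat.of k)) := ‹LocallyOfFiniteType q›
  rw [Groth.VarietyBC.localDim_eq_height_add k z, ringKrullDim_stalk_eq_coheight, ← WithBot.coe_add]
  exact WithBot.coe_le_coe.2 le_self_add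

include q in
/-- The dimension is the supremum of the local dimensions. -/
theorem dim_eq_iSup_localDim : topologicalKrullDim Z = ⨆ z : Z, FlatMor.localDim Z z := by
  refine le_antisymm ?_ (iSup_le fun z => Groth.SpectralTopology.localDim_le_dim z)
  rw [Groth.Variety2.Dim.dim_eq_iSup_height]
  exact iSup_mono fun z => height_le_localDim q z

end Field

variable {X Y : Scheme.{u}} (f : X ⟶ Y)

instance [LocallyOfFiniteType f] (y : Y) : LocallyOfFiniteType (f.fiberToSpecResidueField y) :=
  inferInstanceAs (LocallyOfFiniteType (pullback.snd f (Y.fromSpecResidueField y)))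

lemma SpecMap_evaluation {Z : Scheme.{u}} {U : Z.Opens} (hU : IsAffineOpen U) (z : Z) (hz : z ∈ U) :
    Spec.map (Z.evaluation U z hz) ≫ hU.fromSpec = Z.fromSpecResidueField z := by
  rw [Scheme.fromSpecResidueField, ← hU.fromSpecStalk_eq_fromSpecStalk hz]
  simp [Scheme.evaluation, IsAffineOpen.fromSpecStalk]

lemma fiberι_comp (y : Y) :
    f.fiberι y ≫ f = f.fiberToSpecResidueField y ≫ Y.fromSpecResidueField y :=
  pullback.condition

lemma apply_fiberι (y : Y) (z : f.fiber y) : f.base ((f.fiberι y).base z) = y :=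
  (f.range_fiberι y).le ⟨z, rfl⟩

variable [LocallyOfFiniteType f]

/-- The preimage of an affine chart in a fibre has the dimension of the fibre ring. -/
theorem ringKrullDim_fiber_le {U : Y.Opens} (hU : IsAffineOpen U) {V : X.Opens}
    (hV : IsAffineOpen V) (e : V ≤ f ⁻¹ᵁ U) (p : PrimeSpectrum Γ(Y, U)) :
    letI := (f.appLE U V e).hom.toAlgebra
    ringKrullDim (p.asIdeal.Fiber Γ(X, V)) ≤
      topologicalKrullDim ↥((f.fiberι (hU.fromSpec.base p)).base ⁻¹' (V : Set X)) := by
  letI := (f.appLE U V e).hom.toAlgebra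
  rw [← PrimeSpectrum.topologicalKrullDim_eq_ringKrullDim,
    ← (PrimeSpectrum.preimageHomeomorphFiber Γ(Y, U) Γ(X, V) p).isHomeomorph.topologicalKrullDim_eq]
  set y := hU.fromSpec.base p
  let S := PrimeSpectrum.comap (algebraMap Γ(Y, U) Γ(X, V)) ⁻¹' {p}
  have hcomm : ∀ q, f.base (hV.fromSpec.base q) =
      hU.fromSpec.base (PrimeSpectrum.comap (algebraMap Γ(Y, U) Γ(X, V)) q) := fun q => by
    rw [← Scheme.Hom.comp_apply, ← hU.SpecMap_appLE_fromSpec f hV e]
    rfl
  have hmem : ∀ q : S, hV.fromSpec.base q.1 ∈ Set.range (f.fiberι y).base := fun q => by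
    rw [f.range_fiberι y, Set.mem_preimage, Set.mem_singleton_iff, hcomm, q.2]
  choose g hg using hmem
  let g' : S → ↥((f.fiberι y).base ⁻¹' (V : Set X)) := fun q =>
    ⟨g q, by rw [Set.mem_preimage, hg]; exact hV.range_fromSpec ▸ ⟨q.1, rfl⟩⟩
  have hind : IsInducing g' := by
    refine (IsInducing.of_comp_iff IsInducing.subtypeVal).1 ?_
    refine ((f.fiberι y).isEmbedding.toIsInducing.of_comp_iff).1 ?_
    rw [show ⇑(f.fiberι y).base ∘ Subtype.val ∘ g' = ⇑hV.fromSpec.base ∘ Subtype.val from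
      funext fun q => hg q]
    exact hV.fromSpec.isEmbedding.toIsInducing.comp IsInducing.subtypeVal
  exact hind.topologicalKrullDim_le

/-- Heights in fibres are bounded by bounds on transcendence degrees at primes of a chart. -/
theorem height_fiber_le {U : Y.Opens} (hU : IsAffineOpen U) {V : X.Opens}
    (hV : IsAffineOpen V) (e : V ≤ f ⁻¹ᵁ U) {y' : Y} {z : f.fiber y'}
    (hzV : (f.fiberι y').base z ∈ V) (n : ℕ)
    (H : ∀ (K L : Type u) [Field K] [Field L] [Algebra K L] (χ : Γ(Y, U) →+* K) (ψ : Γ(X, V) →+* L),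
      (∀ r, algebraMap K L (χ r) = ψ ((f.appLE U V e).hom r)) →
      (∀ w, ∃ a c, ψ c ≠ 0 ∧ w = ψ a / ψ c) →
      RingHom.ker ψ = (hV.primeIdealOf ⟨_, hzV⟩).asIdeal →
      Algebra.trdeg K L ≤ (n : Cardinal.{u})) :
    Order.height z ≤ (n : ℕ∞) := by
  have hy'U : y' ∈ U := apply_fiberι f y' z ▸ e hzV
  haveI : LocallyOfFiniteType (f.fiberToSpecResidueField y') :=
    inferInstanceAs (LocallyOfFiniteType (pullback.snd f (Y.fromSpecResidueField y')))
  let χ := (Y.evaluation U y' hy'U).hom
  let ψc := X.evaluation V _ hzV ≫ (f.fiberι y').residueFieldMap z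
  let res : Y.residueField y' →+* (f.fiber y').residueField z :=
    Groth.Variety2.Dim.resHom (k := Y.residueField y') (f.fiberToSpecResidueField y') z
  letI := res.toAlgebra
  let resC : Y.residueField y' ⟶ (f.fiber y').residueField z := CommRingCat.ofHom res
  have hres : Spec.map resC =
      (f.fiber y').fromSpecResidueField z ≫ f.fiberToSpecResidueField y' :=
    Groth.Variety2.Dim.resHom_spec (k := Y.residueField y') (f.fiberToSpecResidueField y') z
  have hspec : Y.evaluation U y' hy'U ≫ resC = f.appLE U V e ≫ ψc := by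
    apply Spec.map_injective
    rw [← cancel_mono hU.fromSpec, Spec.map_comp, Category.assoc, SpecMap_evaluation,
      hres, Category.assoc, ← fiberι_comp]
    simp only [ψc, Spec.map_comp, Category.assoc]
    rw [hU.SpecMap_appLE_fromSpec f hV e, reassoc_of% (SpecMap_evaluation hV _ hzV),
      Scheme.Hom.SpecMap_residueFieldMap_fromSpecResidueField_assoc]
  have hgen : ∀ w, ∃ a c, ψc.hom c ≠ 0 ∧ w = ψc.hom a / ψc.hom c := by
    intro w
    obtain ⟨t, rfl⟩ := Groth.Variety2.Dim.residueFieldMap_surjective (f.fiberι y') z w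
    obtain ⟨a, c, hc, rfl⟩ := Groth.Variety2.Dim.exists_evaluation_eq_div hV hzV t
    exact ⟨a, c, (map_ne_zero ((f.fiberι y').residueFieldMap z).hom).2 hc,
      map_div₀ ((f.fiberι y').residueFieldMap z).hom _ _⟩
  have hker : RingHom.ker ψc.hom = (hV.primeIdealOf ⟨_, hzV⟩).asIdeal := by
    ext a
    letI := X.presheaf.algebra_section_stalk ⟨_, hzV⟩
    haveI := hV.isLocalization_stalk ⟨_, hzV⟩
    rw [RingHom.mem_ker]
    show ((f.fiberι y').residueFieldMap z).hom ((X.evaluation V _ hzV).hom a) = 0 ↔ _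
    rw [map_eq_zero, ← IsLocalization.AtPrime.to_map_mem_maximal_iff
      (X.presheaf.stalk ((f.fiberι y').base z)) (hV.primeIdealOf ⟨_, hzV⟩).asIdeal a]
    exact Ideal.Quotient.eq_zero_iff_mem
  obtain ⟨m, hm, hm'⟩ := Groth.Variety2.Dim.exists_trdegAt_eq_height
    (k := Y.residueField y') (f.fiberToSpecResidueField y') z
  have hle := H (Y.residueField y') ((f.fiber y').residueField z) χ ψc.hom
    (fun r => congr($(congrArg CommRingCat.Hom.hom hspec) r)) hgen hker
  rw [hm']
  exact Nat.cast_le.2 (Nat.cast_le.1 (hm.symm.trans_le hle))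

/-- **Chevalley.** If the trace of an affine open on the fibre over `y` has dimension `≤ n`, there is
an open subset containing this trace on which the fibres have points of height `≤ n` only. -/
theorem exists_open_height_le {U : Y.Opens} (hU : IsAffineOpen U) {V : X.Opens}
    (hV : IsAffineOpen V) (e : V ≤ f ⁻¹ᵁ U) {y : Y} (hy : y ∈ U) (n : ℕ)
    (hdim : topologicalKrullDim ↥((f.fiberι y).base ⁻¹' (V : Set X)) ≤ n) :
    ∃ W : X.Opens, W ≤ V ∧ (∀ x ∈ V, f.base x = y → x ∈ W) ∧
      ∀ (y' : Y) (z : f.fiber y'), (f.fiberι y').base z ∈ W → Order.height z ≤ (n : ℕ∞) := by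
  letI := (f.appLE U V e).hom.toAlgebra
  haveI : Algebra.FiniteType Γ(Y, U) Γ(X, V) := f.finiteType_appLE hU hV e
  obtain ⟨p, rfl⟩ : y ∈ Set.range hU.fromSpec.base := hU.range_fromSpec ▸ hy
  obtain ⟨W, hWo, hWp, hW⟩ := exists_open_trdeg_le p n
    ((ringKrullDim_fiber_le f hU hV e p).trans hdim)
  refine ⟨⟨hV.fromSpec.base '' W, hV.fromSpec.isOpenEmbedding.isOpenMap _ hWo⟩, ?_, ?_, ?_⟩
  · rintro _ ⟨q, -, rfl⟩
    exact hV.range_fromSpec.le ⟨q, rfl⟩
  · intro x hx hxy
    obtain ⟨q, rfl⟩ : x ∈ Set.range hV.fromSpec.base := hV.range_fromSpec ▸ hx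
    refine ⟨q, hWp q (hU.fromSpec.isOpenEmbedding.injective ?_), rfl⟩
    rw [← hxy, ← Scheme.Hom.comp_apply (hV.fromSpec) f, ← hU.SpecMap_appLE_fromSpec f hV e]
    rfl
  · intro y' z hz
    obtain ⟨q, hqW, hq⟩ := hz
    have hzV : (f.fiberι y').base z ∈ V := hV.range_fromSpec.le ⟨q, hq⟩
    refine height_fiber_le f hU hV e hzV n ?_
    have hq' : hV.primeIdealOf ⟨_, hzV⟩ = q :=
      hV.fromSpec.isOpenEmbedding.injective ((hV.fromSpec_primeIdealOf _).trans hq.symm)
    rw [hq']
    exact hW q hqW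

/-- Near a point with local fibre dimension `≤ n`, all fibres have points of height `≤ n` only. -/
theorem exists_open_nhd_height_le (x : X) (n : ℕ) (hn : FlatMor.fibreDimAt f x ≤ n) :
    ∃ W : X.Opens, x ∈ W ∧
      ∀ (y' : Y) (z : f.fiber y'), (f.fiberι y').base z ∈ W → Order.height z ≤ (n : ℕ∞) := by
  obtain ⟨O, hxO, hO⟩ := Groth.SpectralTopology.exists_localDim_eq (f.asFiber x)
  obtain ⟨O', hO'o, hO'⟩ := (f.fiberι (f.base x)).isEmbedding.toIsInducing.isOpen_iff.1 O.isOpen
  obtain ⟨U, hU, hxU, -⟩ := exists_isAffineOpen_mem_and_subset (U := (⊤ : Y.Opens)) (x := f.base x) trivial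
  obtain ⟨V, hV, hxV, hVle⟩ := exists_isAffineOpen_mem_and_subset
    (U := (⟨O', hO'o⟩ : X.Opens) ⊓ f ⁻¹ᵁ U) (x := x) ⟨by
      show x ∈ O'
      rw [← f.fiberι_asFiber x]
      exact (Set.ext_iff.1 hO' _).2 hxO, hxU⟩
  obtain ⟨W, -, hWf, hW⟩ := exists_open_height_le f hU hV (hVle.trans inf_le_right) hxU n (by
    refine le_trans (Groth.SpectralTopology.dim_le_of_subset (B := (O : Set _)) ?_) (hO.le.trans hn)
    rw [← hO']
    exact fun z hz => (hVle hz).1)
  exact ⟨W, hWf x hxV rfl, hW⟩

theorem fibreDimAt_le_of_height_le {W : X.Opens} {n : ℕ} {x : X} (hx : x ∈ W)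
    (hW : ∀ (z : f.fiber (f.base x)), (f.fiberι (f.base x)).base z ∈ W → Order.height z ≤ (n : ℕ∞)) :
    FlatMor.fibreDimAt f x ≤ n :=
  haveI : LocallyOfFiniteType (f.fiberToSpecResidueField (f.base x)) :=
    inferInstanceAs (LocallyOfFiniteType (pullback.snd f (Y.fromSpecResidueField (f.base x))))
  localDim_le_of_height_le (k := Y.residueField (f.base x)) (f.fiberToSpecResidueField (f.base x))
    (f.fiberι (f.base x) ⁻¹ᵁ W)
    (show (f.fiberι (f.base x)).base (f.asFiber x) ∈ W by rwa [f.fiberι_asFiber]) hW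

/-- **Chevalley's semicontinuity theorem.** -/
theorem isOpen_fibreDimAt_le (n : ℕ) : IsOpen {x : X | FlatMor.fibreDimAt f x ≤ n} := by
  rw [isOpen_iff_forall_mem_open]
  intro x hx
  obtain ⟨W, hxW, hW⟩ := exists_open_nhd_height_le f x n hx
  exact ⟨W, fun x' hx' => fibreDimAt_le_of_height_le f hx' (hW _), W.isOpen, hxW⟩

/-- On an affine chart the heights in fibres are bounded. -/
theorem exists_height_bound_of_affine {U : Y.Opens} (hU : IsAffineOpen U) {V : X.Opens}
    (hV : IsAffineOpen V) (e : V ≤ f ⁻¹ᵁ U) :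
    ∃ n : ℕ, ∀ (y : Y) (z : f.fiber y), (f.fiberι y).base z ∈ V → Order.height z ≤ (n : ℕ∞) := by
  letI := (f.appLE U V e).hom.toAlgebra
  haveI : Algebra.FiniteType Γ(Y, U) Γ(X, V) := f.finiteType_appLE hU hV e
  obtain ⟨n, φ, hφ⟩ := Algebra.FiniteType.iff_quotient_mvPolynomial''.1 ‹_›
  let b : Fin n → Γ(X, V) := fun i => φ (MvPolynomial.X i)
  have hb : Function.Surjective (MvPolynomial.aeval (R := Γ(Y, U)) b) := by
    rw [show MvPolynomial.aeval b = φ from MvPolynomial.algHom_ext fun i => MvPolynomial.aeval_X b i]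
    exact hφ
  refine ⟨n, fun y z hz => height_fiber_le f hU hV e hz n fun K L _ _ _ χ ψ hc hg hk => ?_⟩
  refine trdeg_le_of_quasiFiniteAt b _ ?_ K L χ ψ hc hg hk
  letI := (MvPolynomial.aeval (R := Γ(Y, U)) b).toRingHom.toAlgebra
  haveI : Algebra.QuasiFinite (MvPolynomial (Fin n) Γ(Y, U)) Γ(X, V) :=
    .of_surjective_algHom (Algebra.ofId (MvPolynomial (Fin n) Γ(Y, U)) Γ(X, V)) hb
  infer_instance

/-- Fibre dimensions are bounded for a morphism of finite type to a quasi-compact scheme. -/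
theorem exists_height_bound [CompactSpace Y] [QuasiCompact f] :
    ∃ n : ℕ, ∀ (y : Y) (z : f.fiber y), Order.height z ≤ (n : ℕ∞) := by
  haveI : CompactSpace X := QuasiCompact.compactSpace_of_compactSpace f
  have hloc : ∀ x : X, ∃ W : X.Opens, x ∈ W ∧ ∃ n : ℕ,
      ∀ (y : Y) (z : f.fiber y), (f.fiberι y).base z ∈ W → Order.height z ≤ (n : ℕ∞) := fun x => by
    obtain ⟨U, hU, hxU, -⟩ := exists_isAffineOpen_mem_and_subset (U := (⊤ : Y.Opens)) (x := f.base x) trivial
    obtain ⟨V, hV, hxV, hVU⟩ := exists_isAffineOpen_mem_and_subset (U := f ⁻¹ᵁ U) (x := x) hxU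
    exact ⟨V, hxV, exists_height_bound_of_affine f hU hV hVU⟩
  choose W hxW n hn using hloc
  obtain ⟨t, ht⟩ := isCompact_univ.elim_finite_subcover (fun x => (W x : Set X))
    (fun x => (W x).isOpen) fun x _ => Set.mem_iUnion.2 ⟨x, hxW x⟩
  refine ⟨t.sup n, fun y z => ?_⟩
  obtain ⟨x, hxt, hzx⟩ := Set.mem_iUnion₂.1 (ht (Set.mem_univ ((f.fiberι y).base z)))
  exact (hn x y z hzx).trans (Nat.cast_le.2 (Finset.le_sup hxt))

/-- The dimension of a fibre is the supremum of the fibre dimensions at its points. -/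
theorem dim_fiber_eq_iSup (y : Y) :
    topologicalKrullDim ↥(f.fiber y) = ⨆ z : f.fiber y, FlatMor.localDim _ z :=
  haveI : LocallyOfFiniteType (f.fiberToSpecResidueField y) :=
    inferInstanceAs (LocallyOfFiniteType (pullback.snd f (Y.fromSpecResidueField y)))
  dim_eq_iSup_localDim (k := Y.residueField y) (f.fiberToSpecResidueField y)

omit [LocallyOfFiniteType f] in
/-- The fibre dimension at a point read in any description of its fibre. -/
theorem fibreDimAt_fiberι (y : Y) (z : f.fiber y) :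
    FlatMor.fibreDimAt f ((f.fiberι y).base z) = FlatMor.localDim (f.fiber y) z := by
  suffices key : ∀ (x : X) (y : Y) (_ : f.base x = y) (z : f.fiber y), (f.fiberι y).base z = x →
      FlatMor.fibreDimAt f x = FlatMor.localDim (f.fiber y) z from
    key _ y (apply_fiberι f y z) z rfl
  rintro x _ rfl z hz
  rw [show z = f.asFiber x from
    (f.fiberι _).isEmbedding.injective (hz.trans (f.fiberι_asFiber x).symm)]
  rfl

theorem setOf_lt_dim_fiber (n : ℕ) :
    {y : Y | ¬ topologicalKrullDim ↥(f.fiber y) ≤ (n : WithBot ℕ∞)} =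
      f.base '' {x : X | ¬ FlatMor.fibreDimAt f x ≤ n} := by
  ext y
  rw [Set.mem_setOf_eq, dim_fiber_eq_iSup, iSup_le_iff, not_forall]
  constructor
  · rintro ⟨z, hz⟩
    exact ⟨_, fun h => hz ((fibreDimAt_fiberι f y z).symm.trans_le h), apply_fiberι f y z⟩
  · rintro ⟨x, hx, rfl⟩
    exact ⟨f.asFiber x, hx⟩

omit [LocallyOfFiniteType f] in
theorem isEmpty_fiber_iff (y : Y) :
    topologicalKrullDim ↥(f.fiber y) ≤ ⊥ ↔ y ∉ Set.range f.base := by
  constructor
  · rintro h ⟨x, rfl⟩
    haveI : Nonempty (f.fiber (f.base x)) := ⟨f.asFiber x⟩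
    exact absurd ((Groth.SpectralTopology.topologicalKrullDim_nonneg
      (X := ↥(f.fiber (f.base x)))).trans h) (not_le.2 (WithBot.bot_lt_coe _))
  · intro h
    haveI : IsEmpty (f.fiber y) := ⟨fun z => h ⟨_, apply_fiberι f y z⟩⟩
    rw [Groth.Variety2.Dim.dim_eq_iSup_height]
    exact iSup_le fun z => isEmptyElim z

/-- For a closed morphism the dimension of fibres is upper semicontinuous on the target. -/
theorem isOpen_dim_fiber_le (hf : IsClosedMap f.base) (c : WithBot ℕ∞) :
    IsOpen {y : Y | topologicalKrullDim ↥(f.fiber y) ≤ c} := by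
  induction c with
  | bot =>
    simp_rw [isEmpty_fiber_iff f]
    exact hf.isClosed_range.isOpen_compl
  | coe c =>
    induction c using ENat.recTopCoe with
    | top => convert isOpen_univ; ext; simp
    | coe n =>
      have h := hf _ (isOpen_fibreDimAt_le f n).isClosed_compl
      rw [Set.compl_setOf, ← setOf_lt_dim_fiber f n, ← Set.compl_setOf, isClosed_compl_iff] at h
      exact h

/-- On an irreducible source the generic fibre has the smallest dimension. -/
theorem dim_generic_fiber_le [IrreducibleSpace X] [IrreducibleSpace Y] [IsDominant f] (x : X) :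
    topologicalKrullDim ↥(f.fiber (genericPoint Y)) ≤ FlatMor.fibreDimAt f x := by
  suffices key : ∀ n : ℕ, FlatMor.fibreDimAt f x ≤ n →
      topologicalKrullDim ↥(f.fiber (genericPoint Y)) ≤ n by
    have h0 : 0 ≤ FlatMor.fibreDimAt f x := Groth.SpectralTopology.localDim_nonneg _
    obtain ⟨d, hd⟩ : ∃ d : ℕ∞, FlatMor.fibreDimAt f x = d := by
      cases hd : FlatMor.fibreDimAt f x with
      | bot => rw [hd] at h0; exact absurd h0 (not_le.2 (WithBot.bot_lt_coe _))
      | coe d => exact ⟨d, rfl⟩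
    rw [hd]
    induction d using ENat.recTopCoe with
    | top => exact le_top
    | coe n => exact key n hd.le
  intro n hn
  obtain ⟨W, hxW, hW⟩ := exists_open_nhd_height_le f x n hn
  have hξ : f.base (genericPoint X) = genericPoint Y := by
    refine (genericPoint_spec Y).eq ?_ |>.symm
    have h2 := (genericPoint_spec X).image f.continuous
    rwa [Set.image_univ, f.denseRange.closure_range] at h2
  obtain ⟨z₀, hz₀⟩ : genericPoint X ∈ Set.range (f.fiberι (genericPoint Y)).base :=
    (f.range_fiberι _).ge hξ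
  rw [Groth.Variety2.Dim.dim_eq_iSup_height]
  refine iSup_le fun z => WithBot.coe_le_coe.2 (le_trans (Order.height_mono ?_) (hW _ z₀ ?_))
  · exact Scheme.le_iff_specializes.2 ((f.fiberι _).isEmbedding.toIsInducing.specializes_iff.1
      (hz₀ ▸ genericPoint_specializes _))
  · rw [hz₀]
    exact (genericPoint_specializes x).mem_open W.isOpen hxW

end Groth.FibreDim
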