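import Groth.Agent.FibreDim.LocalRing
import Groth.Agent.FibreDim.Semicontinuity
import Groth.Agent.EGA43Topo.DVRCriterion
import Groth.Agent.S9501

/-!
# `dim O_x` against `dim O_y` and the dimension of the fibre
-/

universe u

open CategoryTheory CategoryTheory.Limits AlgebraicGeometry TopologicalSpace Topology IsLocalRing

namespace Groth.FibreDim

variable {X Y : Scheme.{u}} (f : X ⟶ Y)

lemma ringKrullDim_fiber_stalk (y : Y) (z : f.fiber y) :
    ringKrullDim ((f.fiber y).presheaf.stalk z) =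
      ringKrullDim (X.presheaf.stalk ((f.fiberι y).base z) ⧸
        (maximalIdeal (Y.presheaf.stalk (f.base ((f.fiberι y).base z)))).map
          (f.stalkMap ((f.fiberι y).base z)).hom) := by
  obtain ⟨hs, hk⟩ := Groth.Agent.S9501.result f y z
  exact ringKrullDim_eq_of_ringEquiv
    ((Ideal.quotEquivOfEq hk.symm).trans (RingHom.quotientKerEquivOfSurjective hs)).symm

theorem ringKrullDim_stalk_le_add [IsLocallyNoetherian X] [IsLocallyNoetherian Y] (x : X) :
    ringKrullDim (X.presheaf.stalk x) ≤ ringKrullDim (Y.presheaf.stalk (f.base x)) +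
      ringKrullDim ((f.fiber (f.base x)).presheaf.stalk (f.asFiber x)) := by
  rw [ringKrullDim_fiber_stalk f, f.fiberι_asFiber]
  letI := (f.stalkMap x).hom.toAlgebra
  haveI : IsLocalHom (algebraMap (Y.presheaf.stalk (f.base x)) (X.presheaf.stalk x)) :=
    inferInstanceAs (IsLocalHom (f.stalkMap x).hom)
  exact ringKrullDim_le_add_fibre _ _

/-- Equality as soon as `f` is open at the generic points of the components of the fibre through
`x`. -/
theorem ringKrullDim_stalk_eq_add [IsLocallyNoetherian X] [IsLocallyNoetherian Y] (x : X)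
    (h : ∀ z : ↥(f.fiber (f.base x)), f.asFiber x ∈ closure {z} →
      (∀ z' : ↥(f.fiber (f.base x)), z ∈ closure {z'} → z' = z) →
      EGA43.IsOpenAt f.base ((f.fiberι (f.base x)).base z)) :
    ringKrullDim (X.presheaf.stalk x) = ringKrullDim (Y.presheaf.stalk (f.base x)) +
      ringKrullDim ((f.fiber (f.base x)).presheaf.stalk (f.asFiber x)) := by
  refine le_antisymm (ringKrullDim_stalk_le_add f x) ?_
  rw [ringKrullDim_fiber_stalk f, f.fiberι_asFiber]
  haveI : IsLocalHom (f.stalkMap x).hom := inferInstance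
  refine ringKrullDim_add_fibre_le _ _ (f.stalkMap x).hom fun P hP a ha => ?_
  let sX := X.fromSpecStalk x
  let sY := Y.fromSpecStalk (f.base x)
  have hcomm : ∀ Q : PrimeSpectrum (X.presheaf.stalk x), f.base (sX.base Q) =
      sY.base (PrimeSpectrum.comap (f.stalkMap x).hom Q) := fun Q => by
    rw [← Scheme.Hom.comp_apply, ← Scheme.SpecMap_stalkMap_fromSpecStalk f (x := x)]
    rfl
  have hclosed : sY.base (closedPoint _) = f.base x := Scheme.fromSpecStalk_closedPoint
  haveI := hP.1.1
  have hPm : PrimeSpectrum.comap (f.stalkMap x).hom ⟨P, hP.1.1⟩ = closedPoint _ :=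
    PrimeSpectrum.ext ((maximalIdeal.isMaximal _).eq_of_le (Ideal.comap_ne_top _ hP.1.1.ne_top)
      (Ideal.map_le_iff_le_comap.1 hP.1.2)).symm
  obtain ⟨z, hz⟩ : sX.base ⟨P, hP.1.1⟩ ∈ Set.range (f.fiberι (f.base x)).base := by
    rw [f.range_fiberι]
    show f.base _ = f.base x
    rw [hcomm, hPm, hclosed]
  have hemb := (f.fiberι (f.base x)).isEmbedding.toIsInducing
  have hgenx : ∀ Q : PrimeSpectrum (X.presheaf.stalk x), sX.base Q ⤳ x := fun Q =>
    Scheme.range_fromSpecStalk.le ⟨Q, rfl⟩
  have hopen := h z (specializes_iff_mem_closure.1 (hemb.specializes_iff.1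
    (by rw [hz, f.fiberι_asFiber]; exact hgenx _))) fun z' hz' => by
      have h1 : (f.fiberι (f.base x)).base z' ⤳ sX.base ⟨P, hP.1.1⟩ := by
        rw [← hz]; exact hemb.specializes_iff.2 (specializes_iff_mem_closure.2 hz')
      obtain ⟨Q, hQ⟩ : (f.fiberι (f.base x)).base z' ∈ Set.range sX.base :=
        Scheme.range_fromSpecStalk.ge (h1.trans (hgenx _))
      rw [← hQ] at h1
      have hQP : Q.asIdeal ≤ P := (PrimeSpectrum.le_iff_specializes Q ⟨P, hP.1.1⟩).2
        (sX.isEmbedding.toIsInducing.specializes_iff.1 h1)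
      have hQm : PrimeSpectrum.comap (f.stalkMap x).hom Q = closedPoint _ :=
        sY.isEmbedding.injective (by rw [← hcomm, hQ, apply_fiberι, hclosed])
      have hPQ : Q = ⟨P, hP.1.1⟩ := PrimeSpectrum.ext (le_antisymm hQP (hP.2 ⟨Q.isPrime,
        Ideal.map_le_iff_le_comap.2 (congrArg PrimeSpectrum.asIdeal hQm).ge⟩ hQP))
      exact (f.fiberι (f.base x)).isEmbedding.injective (hQ.symm.trans (hPQ ▸ hz.symm))
  obtain ⟨w, hw, hwe⟩ := Groth.EGA43Topo.exists_specializes_of_isOpenAt hopen
    (z := sY.base ⟨a, ha⟩) (by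
      refine (((IsLocalRing.specializes_closedPoint _).map sY.continuous).trans ?_)
      rw [apply_fiberι]
      exact specializes_of_eq hclosed)
  rw [hz] at hw
  obtain ⟨Q, rfl⟩ : w ∈ Set.range sX.base := Scheme.range_fromSpecStalk.ge (hw.trans (hgenx _))
  refine ⟨Q.asIdeal, Q.isPrime, (PrimeSpectrum.le_iff_specializes Q ⟨P, hP.1.1⟩).2
    (sX.isEmbedding.toIsInducing.specializes_iff.1 hw), ?_⟩
  rw [hcomm] at hwe
  exact congrArg PrimeSpectrum.asIdeal (sY.isEmbedding.injective hwe)

end Groth.FibreDim
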