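import Groth.Agent.FibreDim.Retrocompact
import Groth.Agent.DescentBase.DimEtale
import Mathlib.RingTheory.RingHom.StandardSmooth
import Mathlib.AlgebraicGeometry.Morphisms.Smooth
import Mathlib.AlgebraicGeometry.Morphisms.QuasiFinite

/-!
# Fibre dimension of smooth morphisms
-/

universe u

open CategoryTheory CategoryTheory.Limits AlgebraicGeometry TopologicalSpace Topology
open scoped TensorProduct

namespace Groth.FibreDim

theorem localDim_mvPolynomial (k : Type u) [Field k] (n : ℕ)
    (q : PrimeSpectrum (MvPolynomial (Fin n) k)) :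
    FlatMor.localDim (PrimeSpectrum (MvPolynomial (Fin n) k)) q = n := by
  have hdim : ringKrullDim (MvPolynomial (Fin n) k) = n := by
    rw [MvPolynomial.ringKrullDim_of_isNoetherianRing, ringKrullDim_eq_zero_of_field]; simp
  refine le_antisymm ?_ ?_
  · exact ((Groth.SpectralTopology.localDim_le_dim q).trans_eq
      (PrimeSpectrum.topologicalKrullDim_eq_ringKrullDim _)).trans_eq hdim
  · refine le_trans ?_ (ringKrullDim_quotient_le_localDim k q (p := ⟨⊥, Ideal.isPrime_bot⟩) bot_le)
    rw [ringKrullDim_eq_of_ringEquiv (RingEquiv.quotientBot (MvPolynomial (Fin n) k)), hdim]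

theorem fibreDimAt_spec_mvPolynomial (R : CommRingCat.{u}) (n : ℕ)
    (q : Spec (CommRingCat.of (MvPolynomial (Fin n) R))) :
    FlatMor.fibreDimAt (Spec.map (CommRingCat.ofHom (algebraMap R (MvPolynomial (Fin n) R)))) q = n := by
  let p : PrimeSpectrum R := PrimeSpectrum.comap (algebraMap R (MvPolynomial (Fin n) R)) q
  let E := PrimeSpectrum.preimageHomeomorphFiber R (MvPolynomial (Fin n) R) p
  have hd := fibreDimAt_eq_of_range (Spec.map (CommRingCat.ofHom (algebraMap R (MvPolynomial (Fin n) R)))) p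
    (A := PrimeSpectrum (p.asIdeal.Fiber (MvPolynomial (Fin n) R)))
    (e := fun Q => ((E.symm Q).1 : PrimeSpectrum (MvPolynomial (Fin n) R)))
    (IsEmbedding.subtypeVal.comp E.symm.isEmbedding)
    ((E.symm.surjective.range_comp Subtype.val).trans Subtype.range_coe) (E ⟨q, rfl⟩)
  rw [E.symm_apply_apply] at hd
  refine hd.trans ?_
  rw [localDim_eq_of_homeomorph (PrimeSpectrum.homeomorphOfRingEquiv
    (MvPolynomial.algebraTensorAlgEquiv R p.asIdeal.ResidueField (σ := Fin n)).toRingEquiv)]
  exact localDim_mvPolynomial _ _ _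

theorem fibreDimAt_eq_zero_of_locallyQuasiFinite {X Y : Scheme.{u}} (f : X ⟶ Y) [LocallyQuasiFinite f]
    (x : X) : FlatMor.fibreDimAt f x = 0 := by
  refine le_antisymm ?_ (Groth.SpectralTopology.localDim_nonneg _)
  haveI : DiscreteTopology ↥(f.fiber (f.base x)) := inferInstance
  refine (Groth.SpectralTopology.localDim_le_of_mem (U := ⟨{f.asFiber x}, isOpen_discrete _⟩) rfl).trans ?_
  haveI : Subsingleton ↥({f.asFiber x} : Set ↥(f.fiber (f.base x))) :=
    ⟨fun a b => Subtype.ext (a.2.trans b.2.symm)⟩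
  haveI : Subsingleton (IrreducibleCloseds ↥({f.asFiber x} : Set ↥(f.fiber (f.base x)))) :=
    ⟨fun a b => IrreducibleCloseds.ext ((a.isIrreducible.nonempty.eq_univ).trans
      b.isIrreducible.nonempty.eq_univ.symm)⟩
  exact Order.krullDim_nonpos_of_subsingleton

theorem fibreDimAt_eq_of_smoothOfRelativeDimension (n : ℕ) {X Y : Scheme.{u}} (f : X ⟶ Y)
    [SmoothOfRelativeDimension n f] (x : X) : FlatMor.fibreDimAt f x = n := by
  obtain ⟨U, hU, V, hV, hxV, e, hf⟩ :=
    SmoothOfRelativeDimension.exists_isStandardSmoothOfRelativeDimension (n := n) (f := f) x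
  obtain ⟨g, hg, het⟩ := hf.exists_etale_mvPolynomial
  obtain ⟨p, rfl⟩ : x ∈ Set.range hV.fromSpec.base := hV.range_fromSpec.ge hxV
  rw [← fibreDimAt_openImmersion_comp hV.fromSpec f p, ← hU.SpecMap_appLE_fromSpec f hV e,
    fibreDimAt_comp_injective _ _ hU.fromSpec.isOpenEmbedding.injective]
  let g' : CommRingCat.of (MvPolynomial (Fin n) Γ(Y, U)) ⟶ Γ(X, V) := CommRingCat.ofHom g
  let C' : Γ(Y, U) ⟶ CommRingCat.of (MvPolynomial (Fin n) Γ(Y, U)) :=
    CommRingCat.ofHom (algebraMap Γ(Y, U) (MvPolynomial (Fin n) Γ(Y, U)))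
  have hcomp : f.appLE U V e = C' ≫ g' := CommRingCat.hom_ext hg.symm
  haveI : Etale (Spec.map g') := (HasRingHomProperty.Spec_iff (P := @Etale)).mpr het
  haveI : LocallyQuasiFinite (Spec.map g') := Groth.DescentBase.locallyQuasiFinite_of_etale _
  haveI : LocallyOfFiniteType (Spec.map C') :=
    (HasRingHomProperty.Spec_iff (P := @LocallyOfFiniteType)).mpr
      (RingHom.finiteType_algebraMap.mpr inferInstance)
  rw [hcomp, Spec.map_comp, (fibreDimAt_comp (Spec.map g') (Spec.map C') p).2
    (generalizing_of_flat_stalkMap _ p (Flat.stalkMap _ p)),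
    fibreDimAt_eq_zero_of_locallyQuasiFinite, fibreDimAt_spec_mvPolynomial, zero_add]

end Groth.FibreDim
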