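import Groth.Agent.FibreDim.LowerSemicont
import Groth.Agent.EGA41Two.ConsTop
import Groth.Agent.EGA43Topo.OpenAt

/-!
# Constructibility and lower semicontinuity of the dimension of fibres
-/

universe u

open CategoryTheory CategoryTheory.Limits AlgebraicGeometry TopologicalSpace Topology

namespace Groth.FibreDim

theorem isOpen_of_isLocallyConstructible {Y : Scheme.{u}} {E : Set Y} (hE : IsLocallyConstructible E)
    (h : ∀ y' y : Y, y' ⤳ y → y ∈ E → y' ∈ E) : IsOpen E := by
  rw [isOpen_iff_mem_nhds]
  intro y hy
  obtain ⟨W, hW, hyW, -⟩ := exists_isAffineOpen_mem_and_subset (U := ⊤) (Set.mem_univ y)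
  obtain ⟨p, rfl⟩ : y ∈ Set.range hW.fromSpec.base := hW.range_fromSpec.ge hyW
  have hc : IsConstructible (X := PrimeSpectrum Γ(Y, W)) (hW.fromSpec.base ⁻¹' E) :=
    (hE.preimage_of_isOpenEmbedding hW.fromSpec.isOpenEmbedding).isConstructible
  have := Groth.EGA43Topo.mem_nhds_of_isConstructible hc (p := p) fun q hq =>
    h _ _ (hq.map hW.fromSpec.continuous) hy
  exact Filter.mem_of_superset (hW.fromSpec.isOpenEmbedding.isOpenMap.image_mem_nhds this)
    (Set.image_preimage_subset _ _)

variable {X Y : Scheme.{u}} (f : X ⟶ Y)

theorem dim_fiber_ne_top [LocallyOfFiniteType f] [QuasiCompact f] (y : Y) :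
    topologicalKrullDim ↥(f.fiber y) ≠ ⊤ := by
  haveI : LocallyOfFiniteType (f.fiberToSpecResidueField y) :=
    inferInstanceAs (LocallyOfFiniteType (pullback.snd f (Y.fromSpecResidueField y)))
  haveI : QuasiCompact (f.fiberToSpecResidueField y) :=
    MorphismProperty.pullback_snd _ _ inferInstance
  obtain ⟨n, hn⟩ := exists_height_bound (f.fiberToSpecResidueField y)
  suffices h : topologicalKrullDim ↥(f.fiber y) ≤ (n : WithBot ℕ∞) from
    (h.trans_lt (WithBot.coe_lt_coe.2 (ENat.coe_lt_top n))).ne
  let q := f.fiberToSpecResidueField y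
  let p : Spec (Y.residueField y) := IsLocalRing.closedPoint (Y.residueField y)
  haveI : Subsingleton ↥(Spec (Y.residueField y)) :=
    inferInstanceAs (Subsingleton (PrimeSpectrum (Y.residueField y)))
  have hs : Function.Surjective (q.fiberι p).base := fun v =>
    (q.range_fiberι p).ge (Subsingleton.elim _ _)
  rw [← ((q.fiberι p).isEmbedding.toHomeomorphOfSurjective hs).isHomeomorph.topologicalKrullDim_eq,
    Groth.Variety2.Dim.dim_eq_iSup_height]
  exact iSup_le fun z => WithBot.coe_le_coe.2 (hn p z)

theorem isLocallyConstructible_dim_fiber_le [LocallyOfFinitePresentation f] [QuasiCompact f]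
    (n : ℕ) : IsLocallyConstructible {y : Y | topologicalKrullDim ↥(f.fiber y) ≤ (n : WithBot ℕ∞)} := by
  have h1 : IsLocallyConstructible {x : X | FlatMor.fibreDimAt f x ≤ n} :=
    (isRetrocompact_fibreDimAt_le f n).isLocallyConstructible (isOpen_fibreDimAt_le f n)
  have h2 := Groth.EGA41Two.isLocallyConstructible_compl
    (f.isLocallyConstructible_image (Groth.EGA41Two.isLocallyConstructible_compl h1))
  convert h2 using 1
  have := setOf_lt_dim_fiber f n
  ext y
  have hy := Set.ext_iff.1 this y
  rw [Set.mem_compl_iff, Set.compl_setOf, ← hy]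
  exact not_not.symm

theorem isLocallyConstructible_dim_fiber_bot [LocallyOfFinitePresentation f] [QuasiCompact f] :
    IsLocallyConstructible {y : Y | topologicalKrullDim ↥(f.fiber y) ≤ ⊥} := by
  simp_rw [isEmpty_fiber_iff f]
  rw [← Set.compl_setOf, Set.setOf_mem_eq, ← Set.image_univ]
  exact Groth.EGA41Two.isLocallyConstructible_compl
    (f.isLocallyConstructible_image .univ)

theorem isLocallyConstructible_dim_fiber_eq [LocallyOfFinitePresentation f] [QuasiCompact f]
    (c : WithBot ℕ∞) : IsLocallyConstructible {y : Y | topologicalKrullDim ↥(f.fiber y) = c} := by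
  induction c with
  | bot =>
    simpa [le_bot_iff] using isLocallyConstructible_dim_fiber_bot f
  | coe c =>
    induction c with
    | top =>
      convert IsLocallyConstructible.empty (X := Y)
      ext y
      simpa using dim_fiber_ne_top f y
    | coe n =>
      have hlt : IsLocallyConstructible {y : Y | ¬ (((n : ℕ∞) : WithBot ℕ∞) ≤ topologicalKrullDim ↥(f.fiber y))} := by
        cases n with
        | zero =>
          convert isLocallyConstructible_dim_fiber_bot f using 1
          ext y
          simp only [Set.mem_setOf_eq]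
          generalize topologicalKrullDim ↥(f.fiber y) = d
          cases d with
          | bot => simp
          | coe d =>
            show (¬ (((0 : ℕ) : ℕ∞) : WithBot ℕ∞) ≤ (d : WithBot ℕ∞)) ↔ (d : WithBot ℕ∞) ≤ ⊥
            simp
        | succ m =>
          convert isLocallyConstructible_dim_fiber_le f m using 1
          ext y
          simp only [Set.mem_setOf_eq]
          generalize topologicalKrullDim ↥(f.fiber y) = d
          cases d with
          | bot => exact ⟨fun _ => bot_le, fun _ h => by simp at h⟩
          | coe d =>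
            show (¬ (((m + 1 : ℕ) : ℕ∞) : WithBot ℕ∞) ≤ (d : WithBot ℕ∞)) ↔
              (d : WithBot ℕ∞) ≤ (((m : ℕ) : ℕ∞) : WithBot ℕ∞)
            rw [WithBot.coe_le_coe, WithBot.coe_le_coe, not_le, Nat.cast_add, Nat.cast_one]
            exact ENat.lt_coe_add_one_iff
      convert (isLocallyConstructible_dim_fiber_le f n).inter
        (Groth.EGA41Two.isLocallyConstructible_compl hlt) using 1
      ext y
      simp only [Set.mem_setOf_eq, Set.mem_inter_iff, Set.mem_compl_iff, not_not]
      exact le_antisymm_iff

/-- **Lower semicontinuity** of the dimension of fibres of flat morphisms. -/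
theorem isOpen_lt_dim_fiber [Flat f] [LocallyOfFinitePresentation f] [QuasiCompact f]
    (c : WithBot ℕ∞) : IsOpen {y : Y | c < topologicalKrullDim ↥(f.fiber y)} := by
  refine isOpen_of_isLocallyConstructible ?_
    fun y' y hsp hy => lt_of_lt_of_le hy (dim_fiber_le_of_specializes f hsp)
  induction c with
  | bot =>
    convert Groth.EGA41Two.isLocallyConstructible_compl (isLocallyConstructible_dim_fiber_bot f) using 1
    ext y; simp [bot_lt_iff_ne_bot]
  | coe c =>
    induction c with
    | top =>
      convert IsLocallyConstructible.empty (X := Y)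
      ext y
      simp [not_lt.2 (le_top : topologicalKrullDim ↥(f.fiber y) ≤ ⊤)]
    | coe n =>
      convert Groth.EGA41Two.isLocallyConstructible_compl (isLocallyConstructible_dim_fiber_le f n) using 1
      ext y
      exact (not_le (α := WithBot ℕ∞)).symm

end Groth.FibreDim
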