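import Groth.Agent.FibreDim.Composition
import Groth.Agent.FibreDim.Constructible
import Groth.Agent.FibreDim.RelDim

/-!
# Dimension of schemes through local rings, and the dimension of the source of a morphism
-/

universe u

open CategoryTheory CategoryTheory.Limits AlgebraicGeometry TopologicalSpace Topology

namespace Groth.FibreDim

theorem dim_eq_iSup_stalk (X : Scheme.{u}) :
    topologicalKrullDim X = ⨆ x : X, ringKrullDim (X.presheaf.stalk x) := by
  simp_rw [ringKrullDim_stalk_eq_coheight]
  letI := specializationOrder (X := X)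
  rw [topologicalKrullDim, Order.krullDim_eq_of_orderIso irreducibleSetEquivPoints]
  cases isEmpty_or_nonempty X
  · rw [Order.krullDim_eq_bot, iSup_of_empty]
  · rw [Order.krullDim_eq_iSup_coheight_of_nonempty, WithBot.coe_iSup (OrderTop.bddAbove _)]

theorem dim_opens_eq_iSup_stalk {X : Scheme.{u}} (U : X.Opens) :
    topologicalKrullDim (U : Set X) = ⨆ x : U, ringKrullDim (X.presheaf.stalk x.1) := by
  refine (dim_eq_iSup_stalk U.toScheme).trans (iSup_congr fun x => ?_)
  exact ringKrullDim_eq_of_ringEquiv (asIso (U.ι.stalkMap x)).commRingCatIsoToRingEquiv.symm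

variable {X Y : Scheme.{u}} (f : X ⟶ Y) [LocallyOfFiniteType f]

theorem ringKrullDim_fiber_stalk_le (x : X) :
    ringKrullDim ((f.fiber (f.base x)).presheaf.stalk (f.asFiber x)) ≤ FlatMor.fibreDimAt f x := by
  letI : (f.fiber (f.base x)).Over (Spec (CommRingCat.of (Y.residueField (f.base x)))) :=
    ⟨f.fiberToSpecResidueField _⟩
  haveI : LocallyOfFiniteType ((f.fiber (f.base x)) ↘ Spec (CommRingCat.of (Y.residueField (f.base x)))) :=
    inferInstanceAs (LocallyOfFiniteType (f.fiberToSpecResidueField _))
  unfold FlatMor.fibreDimAt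
  rw [Groth.VarietyBC.localDim_eq_height_add (Y.residueField (f.base x))]
  exact le_add_of_nonneg_left (WithBot.coe_le_coe.2 bot_le)

/-- `dim X ≤ dim Y + n` when the fibres have dimension at most `n`. -/
theorem dim_le_add [IsLocallyNoetherian Y] (n : ℕ)
    (h : ∀ y : Y, topologicalKrullDim (f.fiber y) ≤ n) :
    topologicalKrullDim X ≤ topologicalKrullDim Y + n := by
  haveI : IsLocallyNoetherian X := LocallyOfFiniteType.isLocallyNoetherian f
  rw [dim_eq_iSup_stalk X, dim_eq_iSup_stalk Y]
  refine iSup_le fun x => (ringKrullDim_stalk_le_add f x).trans (add_le_add ?_ ?_)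
  · exact le_iSup (fun y => ringKrullDim (Y.presheaf.stalk y)) (f.base x)
  · exact (ringKrullDim_fiber_stalk_le f x).trans
      ((Groth.SpectralTopology.localDim_le_dim _).trans (h _))

/-- A closed point of a fibre over a point of the image of an open set. -/
theorem exists_mem_ringKrullDim_fiber_stalk_eq (U : X.Opens) {y : Y} (hy : y ∈ f.base '' (U : Set X)) :
    ∃ x ∈ U, f.base x = y ∧
      ringKrullDim ((f.fiber (f.base x)).presheaf.stalk (f.asFiber x)) = FlatMor.fibreDimAt f x := by
  obtain ⟨x₀, hx₀, rfl⟩ := hy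
  let q := f.fiberToSpecResidueField (f.base x₀)
  haveI : LocallyOfFiniteType q := inferInstance
  obtain ⟨z, hzU, hzc⟩ := Groth.Variety2.Dim.exists_isClosed_singleton_mem (k := Y.residueField (f.base x₀)) q
    (T := (f.fiberι (f.base x₀)).base ⁻¹' (U : Set X))
    (U.isOpen.preimage (f.fiberι _).continuous).isLocallyClosed
    ⟨f.asFiber x₀, by rw [Set.mem_preimage, f.fiberι_asFiber]; exact hx₀⟩
  refine ⟨_, hzU, apply_fiberι f _ z, ?_⟩
  have hkey : ∀ (y : Y) (w : f.fiber y), IsClosed ({w} : Set (f.fiber y)) →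
      ringKrullDim ((f.fiber y).presheaf.stalk w) = FlatMor.localDim (f.fiber y) w := fun y w hw => by
    letI : (f.fiber y).Over (Spec (CommRingCat.of (Y.residueField y))) := ⟨f.fiberToSpecResidueField y⟩
    haveI : LocallyOfFiniteType ((f.fiber y) ↘ Spec (CommRingCat.of (Y.residueField y))) :=
      inferInstanceAs (LocallyOfFiniteType (f.fiberToSpecResidueField y))
    haveI : LocallyOfFiniteType (f.fiberToSpecResidueField y) := inferInstance
    have h0 : Order.height w = 0 :=
      (Groth.Variety2.Dim.height_eq_zero_iff w).2 hw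
    rw [Groth.VarietyBC.localDim_eq_height_add (Y.residueField y), h0]
    exact (zero_add _).symm
  refine hkey _ _ ?_
  have hkey2 : ∀ (y : Y) (w : f.fiber y) (x : X), (f.fiberι y).base w = x →
      IsClosed ({w} : Set (f.fiber y)) → IsClosed ({f.asFiber x} : Set (f.fiber (f.base x))) := by
    intro y w x hwx hw
    obtain rfl : f.base x = y := hwx ▸ apply_fiberι f y w
    have he : f.asFiber x = w := (f.fiberι (f.base x)).isEmbedding.injective ((f.fiberι_asFiber x).trans hwx.symm)
    rw [he]
    exact hw
  exact hkey2 _ z _ rfl hzc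

/-- Flat morphisms of relative dimension `d` add `d` to the local dimension. -/
theorem localDim_eq_add_of_flat [IsLocallyNoetherian Y] [Flat f] (d : ℕ)
    (hd : ∀ x : X, FlatMor.fibreDimAt f x = d) (x : X) :
    FlatMor.localDim X x = FlatMor.localDim Y (f.base x) + d := by
  haveI : IsLocallyNoetherian X := LocallyOfFiniteType.isLocallyNoetherian f
  haveI : LocallyOfFinitePresentation f :=
    LocallyOfFinitePresentation.iff_locallyOfFiniteType.mpr inferInstance
  have heq : ∀ z, ringKrullDim (X.presheaf.stalk z) = ringKrullDim (Y.presheaf.stalk (f.base z)) +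
      ringKrullDim ((f.fiber (f.base z)).presheaf.stalk (f.asFiber z)) := fun z =>
    ringKrullDim_stalk_eq_add_of_generalizing f z (generalizing_of_flat_stalkMap f z (Flat.stalkMap f z))
  refine le_antisymm ?_ ?_
  · obtain ⟨V, hV, hVd⟩ := Groth.SpectralTopology.exists_localDim_eq (f.base x)
    refine (Groth.SpectralTopology.localDim_le_of_mem (U := (f ⁻¹ᵁ V)) hV).trans ?_
    rw [← hVd, dim_opens_eq_iSup_stalk, dim_opens_eq_iSup_stalk]
    refine iSup_le fun z => ?_
    rw [heq]
    refine add_le_add (le_iSup (fun y : V => ringKrullDim (Y.presheaf.stalk y.1)) ⟨f.base z.1, z.2⟩) ?_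
    exact (ringKrullDim_fiber_stalk_le f z.1).trans (hd _).le
  · obtain ⟨U, hU, hUd⟩ := Groth.SpectralTopology.exists_localDim_eq x
    rw [← hUd]
    let W : Y.Opens := ⟨f.base '' (U : Set X), f.isOpenMap _ U.isOpen⟩
    refine (add_le_add (Groth.SpectralTopology.localDim_le_of_mem (U := W) ⟨x, hU, rfl⟩) le_rfl).trans ?_
    rw [dim_opens_eq_iSup_stalk, dim_opens_eq_iSup_stalk]
    have hpt : ∀ y : W, ringKrullDim (Y.presheaf.stalk y.1) + d ≤
        ⨆ z : U, ringKrullDim (X.presheaf.stalk z.1) := fun y => by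
      obtain ⟨z, hzU, hz, hzd⟩ := exists_mem_ringKrullDim_fiber_stalk_eq f U y.2
      refine le_trans (le_of_eq ?_) (le_iSup (fun z : U => ringKrullDim (X.presheaf.stalk z.1)) ⟨z, hzU⟩)
      rw [heq z, hzd, hd, hz]
    haveI : Nonempty W := ⟨⟨_, x, hU, rfl⟩⟩
    obtain ⟨a, ha⟩ | h := em (∃ a : W, ∀ b : W,
        ringKrullDim (Y.presheaf.stalk b.1) ≤ ringKrullDim (Y.presheaf.stalk a.1))
    · exact (add_le_add (iSup_le ha) le_rfl).trans (hpt a)
    · simp only [not_exists, not_forall, not_le] at h
      have hlarge : ∀ m : ℕ, ∃ a : W, (m : WithBot ℕ∞) ≤ ringKrullDim (Y.presheaf.stalk a.1) := by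
        intro m
        induction m with
        | zero => exact ⟨Classical.arbitrary W, ringKrullDim_nonneg_of_nontrivial⟩
        | succ m ih =>
          obtain ⟨a, ha⟩ := ih
          obtain ⟨b, hb⟩ := h a
          refine ⟨b, ?_⟩
          have hmb := ha.trans_lt hb
          revert hmb
          generalize ringKrullDim (Y.presheaf.stalk b.1) = e
          intro hmb
          cases e with
          | bot => simp at hmb
          | coe e =>
            have : (m : ℕ∞) < e := WithBot.coe_lt_coe.1 hmb
            show (((m + 1 : ℕ) : ℕ∞) : WithBot ℕ∞) ≤ (e : WithBot ℕ∞)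
            rw [WithBot.coe_le_coe, Nat.cast_add, Nat.cast_one]
            exact Order.add_one_le_of_lt this
      have htop : (⨆ z : U, ringKrullDim (X.presheaf.stalk z.1)) = ⊤ := by
        refine eq_top_iff.2 (le_of_forall_lt fun c hc => ?_)
        obtain ⟨m, hm⟩ : ∃ m : ℕ, c < (m : WithBot ℕ∞) := by
          cases c with
          | bot => exact ⟨0, WithBot.bot_lt_coe _⟩
          | coe c =>
            obtain ⟨c, rfl⟩ := ENat.ne_top_iff_exists.1 (WithBot.coe_lt_coe.1 hc).ne
            exact ⟨c + 1, WithBot.coe_lt_coe.2 (Nat.cast_lt.2 (Nat.lt_succ_self c))⟩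
        obtain ⟨a, ha⟩ := hlarge m
        refine hm.trans_le (ha.trans (le_trans ?_ (hpt a)))
        exact le_add_of_nonneg_right (by exact_mod_cast Nat.zero_le d)
      rw [htop]; exact le_top

end Groth.FibreDim
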