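import Groth.Agent.FibreDim.StalkFormula
import Groth.Agent.Variety2.DimScheme
import Mathlib.RingTheory.Ideal.GoingDown

/-!
# Fibre dimension of a composite
-/

universe u

open CategoryTheory CategoryTheory.Limits AlgebraicGeometry TopologicalSpace Topology IsLocalRing

namespace Groth.FibreDim

section Top

variable {A B X : Type*} [TopologicalSpace A] [TopologicalSpace B] [TopologicalSpace X]

theorem localDim_le_of_homeomorph (h : A ≃ₜ B) (a : A) :
    FlatMor.localDim A a ≤ FlatMor.localDim B (h a) := by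
  obtain ⟨U, hU, hd⟩ := Groth.SpectralTopology.exists_localDim_eq (h a)
  rw [← hd]
  refine (Groth.SpectralTopology.localDim_le_of_mem (U := U.comap ⟨h, h.continuous⟩) hU).trans
    (le_of_eq ?_)
  exact (h.subtype (p := fun x => h x ∈ (U : Set B)) (q := fun x => x ∈ (U : Set B))
    (fun x => Iff.rfl)).isHomeomorph.topologicalKrullDim_eq _

theorem localDim_eq_of_homeomorph (h : A ≃ₜ B) (a : A) :
    FlatMor.localDim A a = FlatMor.localDim B (h a) :=
  le_antisymm (localDim_le_of_homeomorph h a)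
    (by simpa using localDim_le_of_homeomorph h.symm (h a))

theorem localDim_eq_of_range {e : A → X} (he : IsEmbedding e) {e' : B → X} (he' : IsEmbedding e')
    (hr : Set.range e = Set.range e') {a : A} {b : B} (hab : e a = e' b) :
    FlatMor.localDim A a = FlatMor.localDim B b := by
  let h : A ≃ₜ B := he.toHomeomorph.trans ((Homeomorph.setCongr hr).trans he'.toHomeomorph.symm)
  rw [localDim_eq_of_homeomorph h a]
  congr 1
  apply he'.injective
  have : he'.toHomeomorph (h a) = Homeomorph.setCongr hr (he.toHomeomorph a) := by simp [h]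
  exact (congrArg Subtype.val this).trans hab

end Top

/-- Fibre dimension read on any embedding with image the fibre. -/
theorem fibreDimAt_eq_of_range {X Y : Scheme.{u}} (f : X ⟶ Y) (y : Y) {A : Type*} [TopologicalSpace A]
    {e : A → X} (he : IsEmbedding e) (hr : Set.range e = f.base ⁻¹' {y}) (a : A) :
    FlatMor.fibreDimAt f (e a) = FlatMor.localDim A a := by
  have hy : f.base (e a) = y := hr.le ⟨a, rfl⟩
  subst hy
  exact (localDim_eq_of_range he (f.fiberι _).isEmbedding (hr.trans (f.range_fiberι _).symm)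
    (f.fiberι_asFiber (e a)).symm).symm

/-- Equality in the dimension formula when generalizations lift. -/
theorem ringKrullDim_stalk_eq_add_of_generalizing {X Y : Scheme.{u}} (f : X ⟶ Y)
    [IsLocallyNoetherian X] [IsLocallyNoetherian Y] (x : X)
    (h : ∀ z, z ⤳ x → ∀ y', y' ⤳ f.base z → ∃ w, w ⤳ z ∧ f.base w = y') :
    ringKrullDim (X.presheaf.stalk x) = ringKrullDim (Y.presheaf.stalk (f.base x)) +
      ringKrullDim ((f.fiber (f.base x)).presheaf.stalk (f.asFiber x)) := by
  rw [ringKrullDim_fiber_stalk f, f.fiberι_asFiber]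
  letI := (f.stalkMap x).hom.toAlgebra
  haveI : IsLocalHom (algebraMap (Y.presheaf.stalk (f.base x)) (X.presheaf.stalk x)) :=
    inferInstanceAs (IsLocalHom (f.stalkMap x).hom)
  let sX := X.fromSpecStalk x
  let sY := Y.fromSpecStalk (f.base x)
  have hcomm : ∀ Q : PrimeSpectrum (X.presheaf.stalk x), f.base (sX.base Q) =
      sY.base (PrimeSpectrum.comap (f.stalkMap x).hom Q) := fun Q => by
    rw [← Scheme.Hom.comp_apply, ← Scheme.SpecMap_stalkMap_fromSpecStalk f (x := x)]
    rfl
  have hgenx : ∀ Q : PrimeSpectrum (X.presheaf.stalk x), sX.base Q ⤳ x := fun Q =>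
    Scheme.range_fromSpecStalk.le ⟨Q, rfl⟩
  haveI : Algebra.HasGoingDown (Y.presheaf.stalk (f.base x)) (X.presheaf.stalk x) := by
    rw [Algebra.HasGoingDown.iff_generalizingMap_primeSpectrumComap]
    intro Q q hq
    obtain ⟨w, hw, hwe⟩ := h (sX.base Q) (hgenx Q) (sY.base q) (by
      rw [hcomm]; exact hq.map sY.continuous)
    obtain ⟨Q', rfl⟩ : w ∈ Set.range sX.base := Scheme.range_fromSpecStalk.ge (hw.trans (hgenx _))
    refine ⟨Q', sX.isEmbedding.toIsInducing.specializes_iff.1 hw, sY.isEmbedding.injective ?_⟩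
    exact (hcomm Q').symm.trans hwe
  haveI : (maximalIdeal (X.presheaf.stalk x)).LiesOver (maximalIdeal (Y.presheaf.stalk (f.base x))) :=
    ⟨(IsLocalRing.maximalIdeal_comap (algebraMap _ (X.presheaf.stalk x))).symm⟩
  have heq := Ideal.height_eq_height_add_of_liesOver_of_hasGoingDown
    (maximalIdeal (Y.presheaf.stalk (f.base x))) (maximalIdeal (X.presheaf.stalk x))
  have hne : (maximalIdeal (Y.presheaf.stalk (f.base x))).map (algebraMap _ (X.presheaf.stalk x)) ≠ ⊤ :=
    ne_top_of_le_ne_top (maximalIdeal.isMaximal _).ne_top (IsLocalRing.map_maximalIdeal_le _)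
  haveI := Ideal.Quotient.nontrivial_iff.2 hne
  haveI : IsLocalRing (X.presheaf.stalk x ⧸
      (maximalIdeal (Y.presheaf.stalk (f.base x))).map (algebraMap _ (X.presheaf.stalk x))) :=
    .of_surjective' _ Ideal.Quotient.mk_surjective
  rw [IsLocalRing.map_maximalIdeal_of_surjective _ Ideal.Quotient.mk_surjective] at heq
  rw [← maximalIdeal_height_eq_ringKrullDim, ← maximalIdeal_height_eq_ringKrullDim, heq]
  exact (WithBot.coe_add _ _).trans (congrArg _ maximalIdeal_height_eq_ringKrullDim)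

/-- A flat local ring map makes generalizations lift near the point. -/
theorem generalizing_of_flat_stalkMap {X Y : Scheme.{u}} (f : X ⟶ Y) (x : X)
    (hflat : (f.stalkMap x).hom.Flat) :
    ∀ z, z ⤳ x → ∀ y', y' ⤳ f.base z → ∃ w, w ⤳ z ∧ f.base w = y' := by
  intro z hz y' hy'
  let sX := X.fromSpecStalk x
  let sY := Y.fromSpecStalk (f.base x)
  have hcomm : ∀ Q : PrimeSpectrum (X.presheaf.stalk x), f.base (sX.base Q) =
      sY.base (PrimeSpectrum.comap (f.stalkMap x).hom Q) := fun Q => by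
    rw [← Scheme.Hom.comp_apply, ← Scheme.SpecMap_stalkMap_fromSpecStalk f (x := x)]
    rfl
  obtain ⟨Q, rfl⟩ : z ∈ Set.range sX.base := Scheme.range_fromSpecStalk.ge hz
  obtain ⟨q, rfl⟩ : y' ∈ Set.range sY.base :=
    Scheme.range_fromSpecStalk.ge (hy'.trans (hz.map f.continuous))
  rw [hcomm] at hy'
  letI := (f.stalkMap x).hom.toAlgebra
  haveI : Module.Flat (Y.presheaf.stalk (f.base x)) (X.presheaf.stalk x) := hflat
  have hg : GeneralizingMap (PrimeSpectrum.comap
      (algebraMap (Y.presheaf.stalk (f.base x)) (X.presheaf.stalk x))) :=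
    Algebra.HasGoingDown.iff_generalizingMap_primeSpectrumComap.1 Algebra.HasGoingDown.of_flat
  obtain ⟨Q', hQ', hQe⟩ := hg (sY.isEmbedding.toIsInducing.specializes_iff.1 hy' : q ⤳ PrimeSpectrum.comap _ Q)
  exact ⟨sX.base Q', hQ'.map sX.continuous, (hcomm Q').trans (congrArg sY.base hQe)⟩

section Field

variable {k : Type u} [Field k] {A B : Scheme.{u}} (fA : A ⟶ Spec (CommRingCat.of k))
  [LocallyOfFiniteType fA] (fB : B ⟶ Spec (CommRingCat.of k)) [LocallyOfFiniteType fB]
  (φ : A ⟶ B) (hφ : φ ≫ fB = fA)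

include fA fB hφ in
theorem localDim_add (a : A) :
    FlatMor.localDim A a ≤ FlatMor.fibreDimAt φ a + FlatMor.localDim B (φ.base a) ∧
      ((∀ z, z ⤳ a → ∀ y', y' ⤳ φ.base z → ∃ w, w ⤳ z ∧ φ.base w = y') →
        FlatMor.localDim A a = FlatMor.fibreDimAt φ a + FlatMor.localDim B (φ.base a)) := by
  haveI : LocallyOfFiniteType (φ ≫ fB) := hφ ▸ inferInstance
  haveI : LocallyOfFiniteType φ := locallyOfFiniteType_of_comp φ fB
  haveI : IsLocallyNoetherian A := LocallyOfFiniteType.isLocallyNoetherian fA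
  haveI : IsLocallyNoetherian B := LocallyOfFiniteType.isLocallyNoetherian fB
  letI : A.Over (Spec (CommRingCat.of k)) := ⟨fA⟩
  haveI : LocallyOfFiniteType (A ↘ Spec (CommRingCat.of k)) := ‹LocallyOfFiniteType fA›
  letI : B.Over (Spec (CommRingCat.of k)) := ⟨fB⟩
  haveI : LocallyOfFiniteType (B ↘ Spec (CommRingCat.of k)) := ‹LocallyOfFiniteType fB›
  letI : (φ.fiber (φ.base a)).Over (Spec (CommRingCat.of (B.residueField (φ.base a)))) :=
    ⟨φ.fiberToSpecResidueField _⟩
  haveI : LocallyOfFiniteType ((φ.fiber (φ.base a)) ↘ Spec (CommRingCat.of (B.residueField (φ.base a)))) :=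
    inferInstanceAs (LocallyOfFiniteType (φ.fiberToSpecResidueField (φ.base a)))
  have h1 := Groth.Variety2.Dim.height_fiber_add fA fB φ hφ (φ.base a) (φ.asFiber a)
  rw [φ.fiberι_asFiber] at h1
  unfold FlatMor.fibreDimAt
  rw [Groth.VarietyBC.localDim_eq_height_add k a, Groth.VarietyBC.localDim_eq_height_add k (φ.base a),
    Groth.VarietyBC.localDim_eq_height_add (B.residueField (φ.base a)) (φ.asFiber a), ← h1, WithBot.coe_add]
  refine ⟨?_, fun hg => ?_⟩
  · rw [add_add_add_comm]
    exact add_le_add le_rfl ((ringKrullDim_stalk_le_add φ a).trans_eq (add_comm _ _))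
  · rw [add_add_add_comm, ringKrullDim_stalk_eq_add_of_generalizing φ a hg,
      add_comm (ringKrullDim (B.presheaf.stalk (φ.base a)))]

end Field

variable {X Y S : Scheme.{u}} (f : X ⟶ Y) (g : Y ⟶ S) [LocallyOfFiniteType f] [LocallyOfFiniteType g]

/-- The morphism between fibres over a point of the base. -/
noncomputable def fiberMap (s : S) : (f ≫ g).fiber s ⟶ g.fiber s :=
  pullback.lift ((f ≫ g).fiberι s ≫ f) ((f ≫ g).fiberToSpecResidueField s)
    (by rw [Category.assoc]; exact pullback.condition)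

omit [LocallyOfFiniteType f] [LocallyOfFiniteType g] in
lemma fiberMap_fiberι (s : S) : fiberMap f g s ≫ g.fiberι s = (f ≫ g).fiberι s ≫ f :=
  pullback.lift_fst ..

omit [LocallyOfFiniteType f] [LocallyOfFiniteType g] in
lemma fiberMap_toSpec (s : S) :
    fiberMap f g s ≫ g.fiberToSpecResidueField s = (f ≫ g).fiberToSpecResidueField s :=
  pullback.lift_snd ..

/-- `dim_x (X_s) ≤ dim_x (X_y) + dim_y (Y_s)`. -/
theorem fibreDimAt_comp (x : X) :
    FlatMor.fibreDimAt (f ≫ g) x ≤ FlatMor.fibreDimAt f x + FlatMor.fibreDimAt g (f.base x) ∧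
      ((∀ z, z ⤳ x → ∀ y', y' ⤳ f.base z → ∃ w, w ⤳ z ∧ f.base w = y') →
        FlatMor.fibreDimAt (f ≫ g) x = FlatMor.fibreDimAt f x + FlatMor.fibreDimAt g (f.base x)) := by
  obtain ⟨s, a, rfl⟩ : ∃ (s : S) (a : (f ≫ g).fiber s), ((f ≫ g).fiberι s).base a = x :=
    ⟨_, _, (f ≫ g).fiberι_asFiber x⟩
  let φ := fiberMap f g s
  haveI : LocallyOfFiniteType ((f ≫ g).fiberToSpecResidueField s) := inferInstance
  haveI : LocallyOfFiniteType (g.fiberToSpecResidueField s) := inferInstance
  have hφ : ∀ b, (g.fiberι s).base (φ.base b) = f.base (((f ≫ g).fiberι s).base b) := fun b => by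
    rw [← Scheme.Hom.comp_apply, fiberMap_fiberι]; rfl
  have hg0 := localDim_add (k := S.residueField s) ((f ≫ g).fiberToSpecResidueField s)
    (g.fiberToSpecResidueField s) φ (fiberMap_toSpec f g s) a
  have e1 := fibreDimAt_fiberι (f ≫ g) s a
  have e2 := fibreDimAt_fiberι g s (φ.base a)
  rw [hφ] at e2
  have e3 : FlatMor.fibreDimAt f (((f ≫ g).fiberι s).base a) = FlatMor.fibreDimAt φ a := by
    have := fibreDimAt_eq_of_range f (f.base (((f ≫ g).fiberι s).base a))
      (e := fun b => ((f ≫ g).fiberι s).base ((φ.fiberι (φ.base a)).base b))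
      (((f ≫ g).fiberι s).isEmbedding.comp (φ.fiberι (φ.base a)).isEmbedding) ?_ (φ.asFiber a)
    · simp only [φ.fiberι_asFiber] at this
      exact this
    ext x'
    constructor
    · rintro ⟨b, rfl⟩
      show f.base _ = _
      rw [← hφ, apply_fiberι φ, hφ]
    · intro hx'
      have hx'' : f.base x' = f.base (((f ≫ g).fiberι s).base a) := hx'
      obtain ⟨c, rfl⟩ : x' ∈ Set.range ((f ≫ g).fiberι s).base := by
        rw [(f ≫ g).range_fiberι]
        show g.base (f.base x') = s
        rw [hx'', ← hφ, apply_fiberι g]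
      obtain ⟨b, rfl⟩ : c ∈ Set.range (φ.fiberι (φ.base a)).base := by
        rw [φ.range_fiberι]
        exact (g.fiberι s).isEmbedding.injective ((hφ c).trans (hx''.trans (hφ a).symm))
      exact ⟨b, rfl⟩
  rw [e1, e2, e3]
  refine ⟨hg0.1, fun h => hg0.2 fun z hz y' hy' => ?_⟩
  obtain ⟨w, hw, hwe⟩ := h _ (hz.map ((f ≫ g).fiberι s).continuous) ((g.fiberι s).base y') (by
    rw [← hφ]; exact hy'.map (g.fiberι s).continuous)
  obtain ⟨c, rfl⟩ : w ∈ Set.range ((f ≫ g).fiberι s).base := by
    rw [(f ≫ g).range_fiberι]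
    show g.base (f.base w) = s
    rw [hwe, apply_fiberι g]
  exact ⟨c, ((f ≫ g).fiberι s).isEmbedding.toIsInducing.specializes_iff.1 hw,
    (g.fiberι s).isEmbedding.injective ((hφ c).trans hwe)⟩

end Groth.FibreDim
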