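import Groth.Agent.FibreDim.FieldExt
import Groth.Agent.FibreDim.Composition
import Groth.Agent.FibreDim.RelDim

/-!
# Invariance of local and fibre dimension under base change
-/

universe u

open CategoryTheory CategoryTheory.Limits AlgebraicGeometry TopologicalSpace Topology
open scoped TensorProduct

namespace Groth.FibreDim

theorem localDim_eq_of_isOpenEmbedding {A B : Type*} [TopologicalSpace A] [TopologicalSpace B]
    {e : A → B} (he : IsOpenEmbedding e) (a : A) :
    FlatMor.localDim A a = FlatMor.localDim B (e a) := by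
  refine le_antisymm (le_iInf fun U => ?_) (le_iInf fun U => ?_)
  · refine (Groth.SpectralTopology.localDim_le_of_mem (U := U.1.comap ⟨e, he.continuous⟩) U.2).trans ?_
    exact IsInducing.topologicalKrullDim_le
      (f := fun w : (e ⁻¹' (U.1 : Set B) : Set A) => (⟨e w.1, w.2⟩ : (U.1 : Set B)))
      ((he.toIsInducing.comp IsInducing.subtypeVal).codRestrict _)
  · refine (Groth.SpectralTopology.localDim_le_of_mem
      (U := (⟨e '' (U.1 : Set A), he.isOpenMap _ U.1.isOpen⟩ : Opens B)) ⟨a, U.2, rfl⟩).trans (le_of_eq ?_)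
    exact ((he.isEmbedding.homeomorphImage (U.1 : Set A)).isHomeomorph.topologicalKrullDim_eq _).symm

section Sober

variable {k : Type u} [Field k] {Z : Scheme.{u}} (q : Z ⟶ Spec (CommRingCat.of k))
  [LocallyOfFiniteType q]

include q in
/-- The local dimension is the height of a generalization. -/
theorem exists_height_eq_localDim (z : Z) :
    ∃ η : Z, η ⤳ z ∧ ((Order.height η : ℕ∞) : WithBot ℕ∞) = FlatMor.localDim Z z := by
  letI : Z.Over (Spec (CommRingCat.of k)) := ⟨q⟩
  haveI : LocallyOfFiniteType (Z ↘ Spec (CommRingCat.of k)) := ‹LocallyOfFiniteType q›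
  haveI : IsLocallyNoetherian Z := LocallyOfFiniteType.isLocallyNoetherian q
  have h := Groth.VarietyBC.localDim_eq_height_add k z
  rw [ringKrullDim_stalk_eq_coheight, ← WithBot.coe_add] at h
  obtain ⟨c, hc⟩ : ∃ c : ℕ, (c : ℕ∞) = Order.coheight z := by
    have hfin : ringKrullDim (Z.presheaf.stalk z) < ⊤ := ringKrullDim_lt_top
    rw [ringKrullDim_stalk_eq_coheight] at hfin
    exact ENat.ne_top_iff_exists.1 (WithBot.coe_lt_coe.1 hfin).ne
  obtain ⟨s, hs, hlen⟩ := Order.exists_series_of_le_coheight z hc.le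
  have hle : z ≤ s.last := hs ▸ LTSeries.head_le_last s
  refine ⟨s.last, hle, le_antisymm ?_ ?_⟩
  · obtain ⟨U, hU, hd⟩ := Groth.SpectralTopology.exists_localDim_eq z
    refine (height_le_localDim q s.last).trans ?_
    rw [← hd]
    exact Groth.SpectralTopology.localDim_le_of_mem ((hle : s.last ⤳ z).mem_open U.isOpen hU)
  · have key : ∀ i : Fin (s.length + 1), Order.height z + (i : ℕ) ≤ Order.height (s i) := by
      intro i
      induction i using Fin.induction with
      | zero => simp [← hs, RelSeries.head]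
      | succ i ih =>
        rw [Fin.val_succ, Nat.cast_add, Nat.cast_one, ← add_assoc]
        exact (add_le_add ih le_rfl).trans (Order.height_add_one_le (s.step i))
    rw [h, WithBot.coe_le_coe, ← hc, ← hlen]
    exact key (Fin.last _)

end Sober

section Ring

variable {k S : Type u} [Field k] [CommRing S] [Algebra k S] [Algebra.FiniteType k S]

lemma height_spec_eq (p : PrimeSpectrum S) :
    ((Order.height (α := ↥(Spec (CommRingCat.of S))) p : ℕ∞) : WithBot ℕ∞) =
      ringKrullDim (S ⧸ p.asIdeal) := by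
  rw [← Groth.Variety2.Dim.dim_closure_singleton (X := Spec (CommRingCat.of S)) p]
  show topologicalKrullDim ↥(closure ({p} : Set (PrimeSpectrum S))) = _
  have he := (PrimeSpectrum.isClosedEmbedding_comap_of_surjective (S ⧸ p.asIdeal)
    (Ideal.Quotient.mk p.asIdeal) Ideal.Quotient.mk_surjective).isEmbedding
  have hr : Set.range (PrimeSpectrum.comap (Ideal.Quotient.mk p.asIdeal)) = closure ({p} : Set _) := by
    rw [range_comap_of_surjective _ _ Ideal.Quotient.mk_surjective, Ideal.mk_ker,
      PrimeSpectrum.closure_singleton]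
  rw [← PrimeSpectrum.topologicalKrullDim_eq_ringKrullDim]
  exact ((he.toHomeomorph.trans (Homeomorph.setCongr hr)).isHomeomorph.topologicalKrullDim_eq _).symm

variable (k) in
include k in
theorem ringKrullDim_quotient_le_localDim (q : PrimeSpectrum S) {p : PrimeSpectrum S}
    (hpq : p.asIdeal ≤ q.asIdeal) :
    ringKrullDim (S ⧸ p.asIdeal) ≤ FlatMor.localDim (PrimeSpectrum S) q := by
  haveI : LocallyOfFiniteType (Spec.map (CommRingCat.ofHom (algebraMap k S))) :=
    (HasRingHomProperty.Spec_iff (P := @LocallyOfFiniteType)).mpr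
      (RingHom.finiteType_algebraMap.mpr ‹_›)
  rw [← height_spec_eq]
  refine (height_le_localDim (Spec.map (CommRingCat.ofHom (algebraMap k S))) (Z := Spec (CommRingCat.of S)) p).trans ?_
  obtain ⟨U, hU, hd⟩ := Groth.SpectralTopology.exists_localDim_eq q
  rw [← hd]
  exact Groth.SpectralTopology.localDim_le_of_mem
    (((PrimeSpectrum.le_iff_specializes p q).1 hpq).mem_open U.isOpen hU)

variable (k) in
include k in
theorem exists_ringKrullDim_quotient_eq_localDim (q : PrimeSpectrum S) :
    ∃ p : PrimeSpectrum S, p.asIdeal ≤ q.asIdeal ∧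
      ringKrullDim (S ⧸ p.asIdeal) = FlatMor.localDim (PrimeSpectrum S) q := by
  haveI : LocallyOfFiniteType (Spec.map (CommRingCat.ofHom (algebraMap k S))) :=
    (HasRingHomProperty.Spec_iff (P := @LocallyOfFiniteType)).mpr
      (RingHom.finiteType_algebraMap.mpr ‹_›)
  obtain ⟨η, hη, he⟩ := exists_height_eq_localDim (Spec.map (CommRingCat.ofHom (algebraMap k S)))
    (Z := Spec (CommRingCat.of S)) q
  refine ⟨η, (PrimeSpectrum.le_iff_specializes η q).2 hη, ?_⟩
  rw [← height_spec_eq]
  exact he

/-- Local dimension is invariant under field extensions. -/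
theorem localDim_tensor_eq (K : Type u) [Field K] [Algebra k K] (qK : PrimeSpectrum (K ⊗[k] S)) :
    FlatMor.localDim (PrimeSpectrum (K ⊗[k] S)) qK = FlatMor.localDim (PrimeSpectrum S)
      (PrimeSpectrum.comap (Algebra.TensorProduct.includeRight.toRingHom : S →+* K ⊗[k] S) qK) := by
  set q := PrimeSpectrum.comap (Algebra.TensorProduct.includeRight.toRingHom : S →+* K ⊗[k] S) qK
  refine le_antisymm ?_ ?_
  · obtain ⟨P, hP, he⟩ := exists_ringKrullDim_quotient_eq_localDim K qK
    rw [← he]
    let p := PrimeSpectrum.comap (Algebra.TensorProduct.includeRight.toRingHom : S →+* K ⊗[k] S) P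
    refine le_trans ?_ (ringKrullDim_quotient_le_localDim k q (p := p) (Ideal.comap_mono hP))
    refine le_trans ?_ (ringKrullDim_tensor_le (k := k) K (A := S ⧸ p.asIdeal))
    let π := Algebra.TensorProduct.map (AlgHom.id k K) (Ideal.Quotient.mkₐ k p.asIdeal)
    have hπ : Function.Surjective π :=
      TensorProduct.map_surjective (g := LinearMap.id (R := k) (M := K))
        (g' := (Ideal.Quotient.mkₐ k p.asIdeal).toLinearMap) Function.surjective_id
        Ideal.Quotient.mk_surjective
    have hker : RingHom.ker π ≤ P.asIdeal := by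
      rw [Algebra.TensorProduct.lTensor_ker _ Ideal.Quotient.mk_surjective,
        Ideal.map_le_iff_le_comap]
      intro x hx
      exact (Ideal.mk_ker.le hx : x ∈ p.asIdeal)
    exact ringKrullDim_le_of_surjective
      (((Ideal.Quotient.factor hker).comp (RingHom.quotientKerEquivOfSurjective
        (f := π.toRingHom) hπ).symm.toRingHom))
      ((Ideal.Quotient.factor_surjective hker).comp
        (RingHom.quotientKerEquivOfSurjective (f := π.toRingHom) hπ).symm.surjective)
  · obtain ⟨p, hp, he⟩ := exists_ringKrullDim_quotient_eq_localDim k q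
    rw [← he]
    let π := Algebra.TensorProduct.map (AlgHom.id k K) (Ideal.Quotient.mkₐ k p.asIdeal)
    have hπ : Function.Surjective π :=
      TensorProduct.map_surjective (g := LinearMap.id (R := k) (M := K))
        (g' := (Ideal.Quotient.mkₐ k p.asIdeal).toLinearMap) Function.surjective_id
        Ideal.Quotient.mk_surjective
    have hker : RingHom.ker π ≤ qK.asIdeal := by
      rw [Algebra.TensorProduct.lTensor_ker _ Ideal.Quotient.mk_surjective,
        Ideal.map_le_iff_le_comap]
      intro x hx
      exact hp (Ideal.mk_ker.le hx : x ∈ p.asIdeal)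
    haveI : (qK.asIdeal.map π.toRingHom).IsPrime := Ideal.map_isPrime_of_surjective hπ hker
    obtain ⟨P, hP, hPle⟩ := Ideal.exists_minimalPrimes_le (I := (⊥ : Ideal (K ⊗[k] (S ⧸ p.asIdeal))))
      (J := qK.asIdeal.map π.toRingHom) bot_le
    haveI := hP.1.1
    refine (le_ringKrullDim_quotient K P hP).trans ?_
    have hle : P.comap π.toRingHom ≤ qK.asIdeal := by
      refine (Ideal.comap_mono hPle).trans ?_
      exact (Ideal.comap_map_of_surjective π.toRingHom hπ qK.asIdeal).le.trans (sup_le le_rfl
        ((RingHom.ker_eq_comap_bot π.toRingHom).ge.trans hker))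
    refine le_trans ?_ (ringKrullDim_quotient_le_localDim K qK
      (p := ⟨P.comap π.toRingHom, inferInstance⟩) hle)
    exact ringKrullDim_le_of_surjective (Ideal.quotientMap P π.toRingHom le_rfl)
      (Ideal.quotientMap_surjective hπ)

end Ring

section Scheme

/-- Local dimension is invariant under extensions of the ground field. -/
theorem localDim_eq_of_isPullback {k K : Type u} [Field k] [Field K] (φ : CommRingCat.of k ⟶ CommRingCat.of K)
    {Z Z' : Scheme.{u}} (sZ : Z ⟶ Spec (CommRingCat.of k)) [LocallyOfFiniteType sZ]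
    (sZ' : Z' ⟶ Spec (CommRingCat.of K)) (q : Z' ⟶ Z)
    (h : IsPullback q sZ' sZ (Spec.map φ)) (z' : Z') :
    FlatMor.localDim Z' z' = FlatMor.localDim Z (q.base z') := by
  obtain ⟨W, hW, hzW, -⟩ := exists_isAffineOpen_mem_and_subset (U := ⊤) (Set.mem_univ (q.base z'))
  obtain ⟨ψ, hψ⟩ := Spec.map_surjective (hW.fromSpec ≫ sZ)
  haveI : LocallyOfFiniteType (Spec.map ψ) := hψ ▸ inferInstance
  letI := ψ.hom.toAlgebra
  letI := φ.hom.toAlgebra
  haveI : Algebra.FiniteType k Γ(Z, W) :=
    RingHom.finiteType_algebraMap.mp ((HasRingHomProperty.Spec_iff (P := @LocallyOfFiniteType)).mp ‹_›)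
  let incl : CommRingCat.of Γ(Z, W) ⟶ CommRingCat.of (K ⊗[k] Γ(Z, W)) :=
    CommRingCat.ofHom Algebra.TensorProduct.includeRight.toRingHom
  have hsq : IsPullback (Spec.map incl)
      (Spec.map (CommRingCat.ofHom (algebraMap K (K ⊗[k] Γ(Z, W))))) (Spec.map ψ) (Spec.map φ) :=
    (isPullback_SpecMap_of_isPushout _ _ _ _
      (CommRingCat.isPushout_tensorProduct k K Γ(Z, W))).flip
  let l : Spec (CommRingCat.of (K ⊗[k] Γ(Z, W))) ⟶ Z' := h.lift (Spec.map incl ≫ hW.fromSpec)
    (Spec.map (CommRingCat.ofHom (algebraMap K (K ⊗[k] Γ(Z, W)))))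
    (by rw [Category.assoc, ← hψ, hsq.w])
  have hl : l ≫ q = Spec.map incl ≫ hW.fromSpec := h.lift_fst _ _ _
  have htop : IsPullback (Spec.map incl) l hW.fromSpec q :=
    IsPullback.of_bot (by rw [h.lift_snd, ← hψ]; exact hsq) hl.symm h
  haveI : IsOpenImmersion l := MorphismProperty.of_isPullback htop inferInstance
  obtain ⟨P, rfl⟩ : z' ∈ Set.range l.base := by
    obtain ⟨w, hw⟩ : q.base z' ∈ Set.range hW.fromSpec.base := hW.range_fromSpec.ge hzW
    obtain ⟨x', -, hx2⟩ := Scheme.Pullback.exists_preimage_pullback w z' hw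
    exact ⟨htop.isoPullback.inv.base x', by
      rw [← Scheme.Hom.comp_apply, htop.isoPullback_inv_snd]; exact hx2⟩
  rw [← localDim_eq_of_isOpenEmbedding l.isOpenEmbedding P, ← Scheme.Hom.comp_apply, hl,
    Scheme.Hom.comp_apply, ← localDim_eq_of_isOpenEmbedding hW.fromSpec.isOpenEmbedding]
  exact localDim_tensor_eq (k := k) (S := Γ(Z, W)) K P

variable {X Y X' Y' : Scheme.{u}} (f : X ⟶ Y) [LocallyOfFiniteType f] (g : Y' ⟶ Y) (f' : X' ⟶ Y')
  (g' : X' ⟶ X) (hc : IsPullback g' f' f g)

include hc in
/-- **Invariance of the fibre dimension under base change.** -/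
theorem fibreDimAt_baseChange (x' : X') :
    FlatMor.fibreDimAt f' x' = FlatMor.fibreDimAt f (g'.base x') := by
  obtain ⟨y', z', rfl⟩ : ∃ (y' : Y') (z' : f'.fiber y'), (f'.fiberι y').base z' = x' :=
    ⟨_, _, f'.fiberι_asFiber x'⟩
  let σ := g.residueFieldMap y'
  let q : f'.fiber y' ⟶ f.fiber (g.base y') := pullback.lift (f'.fiberι y' ≫ g')
    (f'.fiberToSpecResidueField y' ≫ Spec.map σ) (by
      rw [Category.assoc, hc.w, reassoc_of% (fiberι_comp f' y'), Category.assoc,
        Scheme.Hom.SpecMap_residueFieldMap_fromSpecResidueField])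
  have hq1 : q ≫ f.fiberι (g.base y') = f'.fiberι y' ≫ g' := pullback.lift_fst ..
  have hq2 : q ≫ f.fiberToSpecResidueField (g.base y') = f'.fiberToSpecResidueField y' ≫ Spec.map σ :=
    pullback.lift_snd ..
  have hbig : IsPullback (f'.fiberι y' ≫ g') (f'.fiberToSpecResidueField y') f
      (Y'.fromSpecResidueField y' ≫ g) :=
    IsPullback.paste_horiz (IsPullback.of_hasPullback f' (Y'.fromSpecResidueField y')) hc
  rw [← Scheme.Hom.SpecMap_residueFieldMap_fromSpecResidueField] at hbig
  rw [← hq1] at hbig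
  have hsq : IsPullback q (f'.fiberToSpecResidueField y') (f.fiberToSpecResidueField (g.base y')) (Spec.map σ) :=
    hbig.of_right hq2 (IsPullback.of_hasPullback f (Y.fromSpecResidueField (g.base y')))
  haveI : LocallyOfFiniteType f' := MorphismProperty.of_isPullback hc inferInstance
  rw [fibreDimAt_fiberι f' y' z', ← Scheme.Hom.comp_apply, ← hq1, Scheme.Hom.comp_apply,
    fibreDimAt_fiberι f (g.base y') (q.base z')]
  exact localDim_eq_of_isPullback (k := Y.residueField (g.base y')) (K := Y'.residueField y') σ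
    (f.fiberToSpecResidueField _) (f'.fiberToSpecResidueField y') q hsq z'

include hc in
theorem dim_fiber_baseChange (y' : Y') :
    topologicalKrullDim ↥(f'.fiber y') = topologicalKrullDim ↥(f.fiber (g.base y')) := by
  haveI : LocallyOfFiniteType f' := MorphismProperty.of_isPullback hc inferInstance
  rw [dim_fiber_eq_iSup, dim_fiber_eq_iSup]
  refine le_antisymm (iSup_le fun z' => ?_) (iSup_le fun z => ?_)
  · rw [← fibreDimAt_fiberι f' y' z', fibreDimAt_baseChange f g f' g' hc]
    have hy : f.base (g'.base ((f'.fiberι y').base z')) = g.base y' := by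
      rw [← Scheme.Hom.comp_apply, hc.w, Scheme.Hom.comp_apply, apply_fiberι]
    obtain ⟨z, hz⟩ : g'.base ((f'.fiberι y').base z') ∈ Set.range (f.fiberι (g.base y')).base :=
      (f.range_fiberι _).ge hy
    rw [← hz, fibreDimAt_fiberι]
    exact le_iSup (fun z => FlatMor.localDim (f.fiber (g.base y')) z) z
  · obtain ⟨x', hx1, hx2⟩ := Scheme.Pullback.exists_preimage_pullback
      ((f.fiberι (g.base y')).base z) y' (apply_fiberι f _ z)
    have e1 : g'.base (hc.isoPullback.inv.base x') = (f.fiberι (g.base y')).base z := by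
      rw [← Scheme.Hom.comp_apply, hc.isoPullback_inv_fst]; exact hx1
    have e2 : f'.base (hc.isoPullback.inv.base x') = y' := by
      rw [← Scheme.Hom.comp_apply, hc.isoPullback_inv_snd]; exact hx2
    obtain ⟨z', hz'⟩ : hc.isoPullback.inv.base x' ∈ Set.range (f'.fiberι y').base :=
      (f'.range_fiberι _).ge e2
    rw [← fibreDimAt_fiberι f _ z, ← e1, ← fibreDimAt_baseChange f g f' g' hc, ← hz', fibreDimAt_fiberι]
    exact le_iSup (fun z => FlatMor.localDim (f'.fiber y') z) z'

end Scheme

end Groth.FibreDim
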