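import Groth.Agent.Ega4Algebra1.CatenaryDim
import Mathlib.RingTheory.Ideal.KrullsHeightTheorem

/-!
# The dimension formula for local homomorphisms (EGA IV 14.2.1)
-/

universe u v

open IsLocalRing

namespace Groth.FibreDim

variable (A : Type u) (C : Type v) [CommRing A] [CommRing C] [IsLocalRing A] [IsLocalRing C]
  [IsNoetherianRing C] [Algebra A C] [IsLocalHom (algebraMap A C)]

omit [IsNoetherianRing C] in
lemma map_maximalIdeal_le' : (maximalIdeal A).map (algebraMap A C) ≤ maximalIdeal C :=
  IsLocalRing.map_maximalIdeal_le _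

/-- `dim C ≤ dim A + dim C / mC`. -/
theorem ringKrullDim_le_add_fibre [IsNoetherianRing A] :
    ringKrullDim C ≤ ringKrullDim A + ringKrullDim (C ⧸ (maximalIdeal A).map (algebraMap A C)) := by
  haveI : (maximalIdeal C).LiesOver (maximalIdeal A) :=
    ⟨((IsLocalRing.maximalIdeal_comap (algebraMap A C))).symm⟩
  have hne : (maximalIdeal A).map (algebraMap A C) ≠ ⊤ :=
    ne_top_of_le_ne_top (maximalIdeal.isMaximal C).ne_top (map_maximalIdeal_le' A C)
  haveI := Ideal.Quotient.nontrivial_iff.2 hne
  haveI : IsLocalRing (C ⧸ (maximalIdeal A).map (algebraMap A C)) :=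
    .of_surjective' _ Ideal.Quotient.mk_surjective
  have h := Ideal.height_le_height_add_of_liesOver (maximalIdeal A) (maximalIdeal C)
  rw [IsLocalRing.map_maximalIdeal_of_surjective _ Ideal.Quotient.mk_surjective] at h
  rw [← maximalIdeal_height_eq_ringKrullDim, ← maximalIdeal_height_eq_ringKrullDim,
    ← maximalIdeal_height_eq_ringKrullDim, ← WithBot.coe_add]
  exact WithBot.coe_le_coe.2 h

lemma ringKrullDim_quotient_add_one_le {S : Type*} [CommRing S] (J : Ideal S) (hJ : J ≠ ⊤)
    (h : ∀ P ∈ minimalPrimes S, ¬ J ≤ P) : ringKrullDim (S ⧸ J) + 1 ≤ ringKrullDim S := by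
  haveI := Ideal.Quotient.nontrivial_iff.2 hJ
  haveI : Nontrivial S := (Ideal.Quotient.mk J).domain_nontrivial
  rw [ringKrullDim_quotient, ringKrullDim]
  have hne : (PrimeSpectrum.zeroLocus (J : Set S)).Nonempty := by
    rwa [Set.nonempty_iff_ne_empty, ne_eq, PrimeSpectrum.zeroLocus_empty_iff_eq_top]
  haveI := hne.to_subtype
  rw [Order.krullDim_eq_iSup_length, Order.krullDim_eq_iSup_length,
    ← WithBot.coe_one, ← WithBot.coe_add, WithBot.coe_le_coe, ENat.iSup_add]
  refine iSup_le fun l => ?_
  obtain ⟨P, hP, hPle⟩ := Ideal.exists_minimalPrimes_le (I := (⊥ : Ideal S)) (J := l.head.1.asIdeal) bot_le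
  haveI := hP.1.1
  have hlt : (⟨P, hP.1.1⟩ : PrimeSpectrum S) < (l.map Subtype.val (fun _ _ h => h)).head :=
    lt_of_le_of_ne hPle fun he => h P hP (by
      rw [show P = l.head.1.asIdeal from congrArg PrimeSpectrum.asIdeal he]
      exact l.head.2)
  exact le_of_eq_of_le (by simp) (le_iSup (fun l : LTSeries (PrimeSpectrum S) => (l.length : ℕ∞))
    ((l.map Subtype.val (fun _ _ h => h)).cons ⟨P, hP.1.1⟩ hlt))

section Surjective

variable {A C}
variable [IsNoetherianRing A]

omit A C in
/-- A local homomorphism of Noetherian local rings which is surjective on spectra, with only the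
closed point over the closed point, does not decrease the dimension. -/
theorem natCast_le_ringKrullDim_of_surjective (n : ℕ) :
    ∀ (A : Type u) (C : Type v) [CommRing A] [CommRing C] [IsLocalRing A] [IsLocalRing C]
      [IsNoetherianRing A] [IsNoetherianRing C] (f : A →+* C),
      (∀ a : Ideal A, a.IsPrime → ∃ Q : Ideal C, Q.IsPrime ∧ Q.comap f = a) →
      (∀ Q : Ideal C, Q.IsPrime → Q.comap f = maximalIdeal A → Q = maximalIdeal C) →
      (n : WithBot ℕ∞) ≤ ringKrullDim A → (n : WithBot ℕ∞) ≤ ringKrullDim C := by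
  induction n with
  | zero => intros; simpa using ringKrullDim_nonneg_of_nontrivial
  | succ n ih =>
    intro A C _ _ _ _ _ _ f hsurj hfib hn
    classical
    let M : Finset (Ideal C) := (minimalPrimes.finite_of_isNoetherianRing C).toFinset
    have hM : ∀ P, P ∈ M ↔ P ∈ minimalPrimes C := fun P => Set.Finite.mem_toFinset _
    obtain ⟨t, htm, ht⟩ : ∃ t ∈ maximalIdeal A, ∀ P ∈ M, f t ∉ P := by
      by_contra hne
      simp only [not_exists, not_and, not_forall, not_not] at hne
      obtain ⟨P, hP, hle⟩ := (Ideal.subset_union_prime (f := fun P : Ideal C => P.comap f)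
        (I := maximalIdeal A) (s := M) ⊥ ⊥
        (fun i hi _ _ => haveI := Ideal.minimalPrimes_isPrime ((hM i).1 hi); Ideal.IsPrime.comap f)).1
        (fun z hz => by
          obtain ⟨P, hP, hzP⟩ := hne z hz
          exact Set.mem_biUnion hP hzP)
      have hPm := (hM P).1 hP
      haveI := Ideal.minimalPrimes_isPrime hPm
      have hPC : P = maximalIdeal C := hfib P inferInstance
        ((maximalIdeal.isMaximal A).eq_of_le (Ideal.comap_ne_top f (Ideal.IsPrime.ne_top ‹_›)) hle).symm
      -- `C` has a single prime, hence so has `A`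
      have hA : ∀ a : Ideal A, a.IsPrime → a = maximalIdeal A := fun a ha => by
        obtain ⟨Q, hQ, rfl⟩ := hsurj a ha
        have : Q = maximalIdeal C := by
          refine le_antisymm (IsLocalRing.le_maximalIdeal hQ.ne_top) ?_
          rw [← hPC]
          exact hPm.2 ⟨hQ, bot_le⟩ (hPC ▸ IsLocalRing.le_maximalIdeal hQ.ne_top)
        rw [this, ← hPC]
        exact ((maximalIdeal.isMaximal A).eq_of_le (Ideal.comap_ne_top f (Ideal.IsPrime.ne_top ‹P.IsPrime›)) hle).symm
      haveI : Subsingleton (PrimeSpectrum A) :=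
        ⟨fun a b => PrimeSpectrum.ext ((hA _ a.2).trans (hA _ b.2).symm)⟩
      have h0 : ringKrullDim A ≤ 0 := Order.krullDim_nonpos_of_subsingleton
      have h1 := hn.trans h0
      norm_cast at h1
    let A' := A ⧸ Ideal.span {t}
    let C' := C ⧸ (Ideal.span {t}).map f
    have hfC : (Ideal.span {t}).map f ≤ maximalIdeal C := by
      obtain ⟨Q, hQ, hQA⟩ := hsurj _ (maximalIdeal.isMaximal A).isPrime
      rw [← hfib Q hQ hQA, Ideal.map_le_iff_le_comap, hQA, Ideal.span_singleton_le_iff_mem]
      exact htm
    haveI : Nontrivial A' := Ideal.Quotient.nontrivial_iff.2 (ne_top_of_le_ne_top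
      (maximalIdeal.isMaximal A).ne_top ((Ideal.span_singleton_le_iff_mem _).2 htm))
    haveI : Nontrivial C' := Ideal.Quotient.nontrivial_iff.2 (ne_top_of_le_ne_top
      (maximalIdeal.isMaximal C).ne_top hfC)
    haveI : IsLocalRing A' := .of_surjective' _ Ideal.Quotient.mk_surjective
    haveI : IsLocalRing C' := .of_surjective' _ Ideal.Quotient.mk_surjective
    haveI := IsLocalHom.of_surjective (Ideal.Quotient.mk (Ideal.span {t})) Ideal.Quotient.mk_surjective
    haveI := IsLocalHom.of_surjective (Ideal.Quotient.mk ((Ideal.span {t}).map f))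
      Ideal.Quotient.mk_surjective
    let f' : A' →+* C' := Ideal.quotientMap _ f Ideal.le_comap_map
    have hA' : (n : WithBot ℕ∞) ≤ ringKrullDim A' := by
      have h1 : ringKrullDim A ≤ ringKrullDim A' + 1 := by
        rw [← maximalIdeal_height_eq_ringKrullDim]
        exact Ideal.height_le_ringKrullDim_quotient_add_one htm
      have h2 := hn.trans h1
      revert h2
      generalize ringKrullDim A' = d
      intro h2
      cases d with
      | bot => simp at h2
      | coe d =>
        have h3 : (n : ℕ∞) + 1 ≤ d + 1 := by exact_mod_cast h2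
        exact_mod_cast (ENat.add_le_add_iff_right ENat.one_ne_top).1 h3
    have hC' : (n : WithBot ℕ∞) ≤ ringKrullDim C' := by
      refine ih A' C' f' (fun a ha => ?_) (fun Q hQ he => ?_) hA'
      · haveI := ha
        obtain ⟨Q, hQ, hQa⟩ := hsurj (a.comap (Ideal.Quotient.mk _)) inferInstance
        have hle : (Ideal.span {t}).map f ≤ Q := by
          rw [Ideal.map_le_iff_le_comap, hQa]
          intro x hx
          rw [Ideal.mem_comap, Ideal.Quotient.eq_zero_iff_mem.2 hx]
          exact a.zero_mem
        refine ⟨Q.map (Ideal.Quotient.mk _), Ideal.map_isPrime_of_surjective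
          Ideal.Quotient.mk_surjective (by rwa [Ideal.mk_ker]),
          Ideal.comap_injective_of_surjective _ Ideal.Quotient.mk_surjective ?_⟩
        rw [Ideal.comap_comap, Ideal.quotientMap_comp_mk, ← Ideal.comap_comap,
          Ideal.comap_map_of_surjective _ Ideal.Quotient.mk_surjective, ← RingHom.ker_eq_comap_bot,
          Ideal.mk_ker, sup_of_le_left hle, hQa]
      · haveI := hQ
        refine Ideal.comap_injective_of_surjective _ Ideal.Quotient.mk_surjective
          ((hfib _ inferInstance ?_).trans ?_)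
        · rw [Ideal.comap_comap, ← Ideal.quotientMap_comp_mk (H := Ideal.le_comap_map),
            ← Ideal.comap_comap, he]
          exact IsLocalRing.maximalIdeal_comap _
        · exact (IsLocalRing.maximalIdeal_comap _).symm
    -- `f t` avoids the minimal primes of `C`
    have hdim : ringKrullDim C' + 1 ≤ ringKrullDim C :=
      ringKrullDim_quotient_add_one_le _ (ne_top_of_le_ne_top (maximalIdeal.isMaximal C).ne_top hfC)
        fun P hP hle => ht P ((hM P).2 hP) (hle (Ideal.mem_map_of_mem f (Ideal.mem_span_singleton_self t)))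
    calc ((n + 1 : ℕ) : WithBot ℕ∞) = (n : WithBot ℕ∞) + 1 := by push_cast; ring
      _ ≤ ringKrullDim C' + 1 := by gcongr
      _ ≤ ringKrullDim C := hdim

omit A C in
/-- If every prime of `A` has a lift below each minimal prime of `mC`, then
`dim A + dim C / mC ≤ dim C`. -/
theorem ringKrullDim_add_fibre_le (A : Type u) (C : Type v) [CommRing A] [CommRing C]
    [IsLocalRing A] [IsLocalRing C] [IsNoetherianRing A] [IsNoetherianRing C] (f : A →+* C)
    [IsLocalHom f]
    (h : ∀ P : Ideal C, P ∈ ((maximalIdeal A).map f).minimalPrimes → ∀ a : Ideal A, a.IsPrime →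
      ∃ Q : Ideal C, Q.IsPrime ∧ Q ≤ P ∧ Q.comap f = a) :
    ringKrullDim A + ringKrullDim (C ⧸ (maximalIdeal A).map f) ≤ ringKrullDim C := by
  let J := (maximalIdeal A).map f
  have hJ : J ≠ ⊤ := ne_top_of_le_ne_top (maximalIdeal.isMaximal C).ne_top
    (IsLocalRing.map_maximalIdeal_le f)
  haveI := Ideal.Quotient.nontrivial_iff.2 hJ
  obtain ⟨l, hl⟩ : ∃ l : LTSeries (PrimeSpectrum.zeroLocus (J : Set C)),
      (l.length : WithBot ℕ∞) = ringKrullDim (C ⧸ J) := by
    haveI : IsLocalRing (C ⧸ J) := .of_surjective' _ Ideal.Quotient.mk_surjective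
    rw [ringKrullDim_quotient]
    haveI : Nonempty (PrimeSpectrum.zeroLocus (J : Set C)) := by
      rwa [Set.nonempty_coe_sort, Set.nonempty_iff_ne_empty, ne_eq, PrimeSpectrum.zeroLocus_empty_iff_eq_top]
    haveI : FiniteDimensionalOrder (PrimeSpectrum.zeroLocus (J : Set C)) :=
      Order.finiteDimensionalOrder_iff_krullDim_ne_bot_and_top.2 ⟨Order.krullDim_ne_bot_iff.2 ‹_›, by
        rw [← ringKrullDim_quotient]
        exact ringKrullDim_ne_top⟩
    exact ⟨LTSeries.longestOf _, (Order.krullDim_eq_length_of_finiteDimensionalOrder).symm⟩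
  obtain ⟨P, hP, hPle⟩ := Ideal.exists_minimalPrimes_le (I := J) (J := l.head.1.asIdeal) l.head.2
  haveI := hP.1.1
  let L := Localization.AtPrime P
  let g : A →+* L := (algebraMap C L).comp f
  have hPA : P.comap f = maximalIdeal A :=
    ((maximalIdeal.isMaximal A).eq_of_le (Ideal.comap_ne_top f hP.1.1.ne_top)
      (Ideal.map_le_iff_le_comap.1 hP.1.2)).symm
  have hkey : ringKrullDim A ≤ ringKrullDim L := by
    obtain ⟨d, hd⟩ : ∃ d : ℕ, ringKrullDim A = d := by
      refine ⟨(maximalIdeal A).height.toNat, ?_⟩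
      rw [← maximalIdeal_height_eq_ringKrullDim]
      exact_mod_cast (ENat.coe_toNat (Ideal.height_ne_top (maximalIdeal.isMaximal A).ne_top)).symm
    rw [hd]
    refine natCast_le_ringKrullDim_of_surjective d A L g ?_ ?_ hd.ge
    · intro a ha
      obtain ⟨Q, hQ, hQP, hQa⟩ := h P hP a ha
      refine ⟨Q.map (algebraMap C L), ?_, ?_⟩
      · exact P.isPrime_map_of_isLocalizationAtPrime hQP (S := L)
      · rw [← Ideal.comap_comap]
        rw [show (Q.map (algebraMap C L)).comap (algebraMap C L) = Q from
          P.under_map_of_isLocalizationAtPrime hQP, hQa]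
    · intro Q hQ hQA
      haveI := hQ
      have h1 : Q.comap (algebraMap C L) ≤ P := by
        exact (Ideal.comap_mono (IsLocalRing.le_maximalIdeal hQ.ne_top)).trans
          (IsLocalization.AtPrime.comap_maximalIdeal L P).le
      have h2 : Q.comap (algebraMap C L) = P := by
        refine le_antisymm h1 (hP.2 ⟨Ideal.IsPrime.comap _, ?_⟩ h1)
        rw [Ideal.map_le_iff_le_comap, Ideal.comap_comap]
        exact hQA.ge
      rw [← IsLocalization.map_comap P.primeCompl L Q]
      show (Q.comap (algebraMap C L)).map (algebraMap C L) = _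
      rw [h2, IsLocalization.AtPrime.map_eq_maximalIdeal P L]
  rw [IsLocalization.AtPrime.ringKrullDim_eq_height P L] at hkey
  refine (add_le_add hkey hl.ge).trans ?_
  let p : PrimeSpectrum C := ⟨P, hP.1.1⟩
  rw [show P.height = Order.height p from PrimeSpectrum.height_eq_orderHeight p, ringKrullDim]
  have hhead : p ≤ (l.map Subtype.val (fun _ _ h => h)).head := hPle
  calc ((Order.height p : ℕ∞) : WithBot ℕ∞) + (l.length : WithBot ℕ∞)
      ≤ ((Order.height p : ℕ∞) : WithBot ℕ∞) + ((Order.coheight p : ℕ∞) : WithBot ℕ∞) := by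
        gcongr
        exact_mod_cast Order.length_le_coheight (p := l.map Subtype.val (fun _ _ h => h)) hhead
    _ ≤ Order.krullDim (PrimeSpectrum C) := by
        rw [Order.krullDim_eq_iSup_height_add_coheight_of_nonempty, ← WithBot.coe_add]
        exact WithBot.coe_le_coe.2 (le_iSup (fun q : PrimeSpectrum C => Order.height q + Order.coheight q) p)

end Surjective

end Groth.FibreDim
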