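import Groth.Agent.Variety2.DimAffine
import Mathlib.RingTheory.ZariskisMainTheorem
import Mathlib.RingTheory.NoetherNormalization
import Mathlib.RingTheory.LocalRing.ResidueField.Fiber

/-!
# Chevalley's semicontinuity of fibre dimension, affine form

`exists_open_trdeg_le`: if the fibre of `R → B` over `p` has dimension `≤ n`, then an open set
containing that fibre consists of primes with residue field of transcendence degree `≤ n` over the
residue field of their image.
-/

universe u

open Ideal

namespace Groth.FibreDim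

/-- The quasi-finite locus is open. -/
theorem isOpen_setOf_quasiFiniteAt (R S : Type u) [CommRing R] [CommRing S] [Algebra R S]
    [Algebra.FiniteType R S] :
    IsOpen {q : PrimeSpectrum S | Algebra.QuasiFiniteAt R q.asIdeal} := by
  rw [isOpen_iff_forall_mem_open]
  intro q hq
  haveI : Algebra.QuasiFiniteAt R q.asIdeal := hq
  obtain ⟨r, hr, H⟩ := Algebra.zariskisMainProperty_iff'.1
    (Algebra.ZariskisMainProperty.of_finiteType (R := R) q.asIdeal)
  exact ⟨PrimeSpectrum.basicOpen r, fun q' hq' =>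
    (Algebra.zariskisMainProperty_iff'.2 ⟨r, hq', H⟩).quasiFiniteAt q'.asIdeal,
    (PrimeSpectrum.basicOpen r).isOpen, hr⟩

/-- A field generated by an algebra over the image of `s` elements has transcendence degree `≤ s`. -/
theorem trdeg_le_of_quasiFiniteAt {R B : Type u} [CommRing R] [CommRing B] [Algebra R B] {s : ℕ}
    (b : Fin s → B) (q : Ideal B) [q.IsPrime]
    (hq : letI := (MvPolynomial.aeval (R := R) b).toRingHom.toAlgebra
      Algebra.QuasiFiniteAt (MvPolynomial (Fin s) R) q)
    (K L : Type u) [Field K] [Field L] [Algebra K L] (χ : R →+* K) (ψ : B →+* L)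
    (hcomp : ∀ r, algebraMap K L (χ r) = ψ (algebraMap R B r))
    (hgen : ∀ z, ∃ a c, ψ c ≠ 0 ∧ z = ψ a / ψ c) (hker : RingHom.ker ψ = q) :
    Algebra.trdeg K L ≤ (s : Cardinal.{u}) := by
  letI := (MvPolynomial.aeval (R := R) b).toRingHom.toAlgebra
  haveI : Algebra.QuasiFiniteAt (MvPolynomial (Fin s) R) q := hq
  let P : Ideal (MvPolynomial (Fin s) R) := q.under _
  haveI : P.IsPrime := Ideal.IsPrime.comap _
  haveI : q.LiesOver P := ⟨rfl⟩
  letI := Localization.AtPrime.algebraOfLiesOver P q
  haveI : Module.Finite P.ResidueField q.ResidueField := inferInstance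
  have hunit : q.primeCompl ≤ (IsUnit.submonoid L).comap ψ := fun c hc => by
    refine isUnit_iff_ne_zero.2 fun h0 => hc ?_
    rw [← hker]
    exact h0
  let Θ : q.ResidueField →+* L := Ideal.ResidueField.lift q ψ hker.ge hunit
  have hΘ : ∀ c, Θ (algebraMap B q.ResidueField c) = ψ c := fun c =>
    Ideal.ResidueField.lift_algebraMap q ψ _ _ c
  let S : Set L := Set.range fun i => ψ (b i)
  let F := IntermediateField.adjoin K S
  have hA : ∀ f : MvPolynomial (Fin s) R, ψ (algebraMap _ B f) ∈ F := by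
    intro f
    induction f using MvPolynomial.induction_on with
    | C r =>
      rw [RingHom.algebraMap_toAlgebra]
      show ψ (MvPolynomial.aeval b (MvPolynomial.C r)) ∈ F
      rw [MvPolynomial.aeval_C, ← hcomp]
      exact F.algebraMap_mem _
    | add f g hf hg => rw [map_add, map_add]; exact F.add_mem hf hg
    | mul_X f i hf =>
      rw [map_mul, map_mul]
      refine F.mul_mem hf ?_
      rw [RingHom.algebraMap_toAlgebra]
      show ψ (MvPolynomial.aeval b (MvPolynomial.X i)) ∈ F
      rw [MvPolynomial.aeval_X]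
      exact IntermediateField.subset_adjoin K S ⟨i, rfl⟩
  have hP : ∀ z : P.ResidueField, Θ (algebraMap P.ResidueField q.ResidueField z) ∈ F := by
    intro z
    obtain ⟨x, y, -, rfl⟩ := IsFractionRing.div_surjective (MvPolynomial (Fin s) R ⧸ P) z
    obtain ⟨x, rfl⟩ := Ideal.Quotient.mk_surjective x
    obtain ⟨y, rfl⟩ := Ideal.Quotient.mk_surjective y
    have key : ∀ w, Θ (algebraMap P.ResidueField q.ResidueField
        (algebraMap (MvPolynomial (Fin s) R ⧸ P) P.ResidueField (Ideal.Quotient.mk P w))) =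
        ψ (algebraMap _ B w) := fun w => by
      rw [← hΘ, ← IsScalarTower.algebraMap_apply (MvPolynomial (Fin s) R) B q.ResidueField,
        IsScalarTower.algebraMap_apply (MvPolynomial (Fin s) R) P.ResidueField q.ResidueField,
        IsScalarTower.algebraMap_apply (MvPolynomial (Fin s) R) (MvPolynomial (Fin s) R ⧸ P)
          P.ResidueField]
      rfl
    rw [map_div₀, map_div₀, key, key]
    exact F.div_mem (hA x) (hA y)
  let g : P.ResidueField →+* F :=
    (Θ.comp (algebraMap P.ResidueField q.ResidueField)).codRestrict F.toSubfield hP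
  have halgF : ∀ c, IsAlgebraic F (ψ c) := by
    intro c
    obtain ⟨f, hf0, hf⟩ := (Algebra.IsAlgebraic.isAlgebraic (R := P.ResidueField)
      (algebraMap B q.ResidueField c))
    refine ⟨f.map g, (Polynomial.map_ne_zero_iff g.injective).2 hf0, ?_⟩
    rw [Polynomial.aeval_def, Polynomial.eval₂_map, ← hΘ]
    rw [Polynomial.aeval_def] at hf
    have := congrArg Θ hf
    rw [Polynomial.hom_eval₂, map_zero] at this
    exact this
  haveI : Algebra.IsAlgebraic (Algebra.adjoin K S) L := ⟨fun z => by
    rw [← IntermediateField.isAlgebraic_adjoin_iff]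
    obtain ⟨x, y, -, rfl⟩ := hgen z
    rw [div_eq_mul_inv]
    exact (halgF x).mul (halgF y).inv⟩
  refine (Algebra.IsAlgebraic.trdeg_le_cardinalMk K S).trans ?_
  calc Cardinal.mk S ≤ Cardinal.mk (ULift.{u} (Fin s)) :=
        Cardinal.mk_le_of_surjective
          (f := fun i : ULift.{u} (Fin s) => (⟨ψ (b i.down), ⟨i.down, rfl⟩⟩ : S))
          (by rintro ⟨_, i, rfl⟩; exact ⟨⟨i⟩, rfl⟩)
    _ = s := by simp

section Fibre

variable {R B : Type u} [CommRing R] [CommRing B] [Algebra R B] [Algebra.FiniteType R B]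

/-- If the fibre over `p` has dimension `≤ n`, some `s ≤ n` elements make `B` quasi-finite along the
whole fibre. -/
theorem exists_quasiFiniteAt_fibre (p : PrimeSpectrum R) (n : ℕ)
    (h : ringKrullDim (p.asIdeal.Fiber B) ≤ n) [Nontrivial (p.asIdeal.Fiber B)] :
    ∃ (s : ℕ) (b : Fin s → B), s ≤ n ∧
      ∀ q : PrimeSpectrum B, q.comap (algebraMap R B) = p →
        letI := (MvPolynomial.aeval (R := R) b).toRingHom.toAlgebra
        Algebra.QuasiFiniteAt (MvPolynomial (Fin s) R) q.asIdeal := by
  let κ := p.asIdeal.ResidueField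
  let T := p.asIdeal.Fiber B
  obtain ⟨s, g, hginj, hgfin⟩ := exists_finite_inj_algHom_of_fg κ T
  have hs : s ≤ n := by
    letI := g.toRingHom.toAlgebra
    haveI : Module.Finite (MvPolynomial (Fin s) κ) T := hgfin
    have h1 := Groth.Variety2.Dim.ringKrullDim_eq_of_isIntegral (MvPolynomial (Fin s) κ) T hginj
    rw [h1, MvPolynomial.ringKrullDim_of_isNoetherianRing, ringKrullDim_eq_zero_of_field,
      zero_add, Nat.card_fin] at h
    exact_mod_cast h
  choose r hr b hb using fun i : Fin s =>
    Ideal.Fiber.exists_smul_eq_one_tmul p.asIdeal (g (MvPolynomial.X i))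
  let c : Fin s → κ := fun i => algebraMap R κ (r i)
  have hc : ∀ i, c i ≠ 0 := fun i h0 =>
    hr i (Ideal.algebraMap_residueField_eq_zero.1 h0)
  let σ : MvPolynomial (Fin s) κ →ₐ[κ] MvPolynomial (Fin s) κ :=
    MvPolynomial.aeval fun i => MvPolynomial.C (c i) * MvPolynomial.X i
  have hσ : Function.Surjective σ := by
    intro f
    refine ⟨MvPolynomial.aeval (fun i => MvPolynomial.C (c i)⁻¹ * MvPolynomial.X i) f, ?_⟩
    induction f using MvPolynomial.induction_on with
    | C a => simp [σ]
    | add f g hf hg => rw [map_add, map_add, hf, hg]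
    | mul_X f i hf =>
      rw [map_mul, map_mul, hf, MvPolynomial.aeval_X, map_mul]
      congr 1
      simp only [σ, MvPolynomial.aeval_C, MvPolynomial.algebraMap_eq, MvPolynomial.aeval_X]
      rw [← mul_assoc, ← map_mul, inv_mul_cancel₀ (hc i), map_one, one_mul]
  let g' : MvPolynomial (Fin s) κ →ₐ[κ] T := g.comp σ
  have hg' : g'.toRingHom.Finite :=
    RingHom.Finite.comp hgfin (RingHom.Finite.of_surjective _ hσ)
  refine ⟨s, b, hs, fun q hq => ?_⟩
  letI := (MvPolynomial.aeval (R := R) b).toRingHom.toAlgebra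
  haveI : IsScalarTower R (MvPolynomial (Fin s) R) B :=
    IsScalarTower.of_algebraMap_eq fun x => ((MvPolynomial.aeval b).commutes x).symm
  haveI : Algebra.FiniteType (MvPolynomial (Fin s) R) B := .of_restrictScalars_finiteType R _ _
  let m : MvPolynomial (Fin s) R →+* MvPolynomial (Fin s) κ :=
    MvPolynomial.map (algebraMap R κ)
  let ι : B →+* T := Algebra.TensorProduct.includeRight.toRingHom
  have hsq : g'.toRingHom.comp m = ι.comp (algebraMap (MvPolynomial (Fin s) R) B) := by
    refine MvPolynomial.ringHom_ext (fun a => ?_) fun i => ?_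
    · show g' (MvPolynomial.map (algebraMap R κ) (MvPolynomial.C a)) = ι (MvPolynomial.aeval b (MvPolynomial.C a))
      rw [MvPolynomial.map_C, MvPolynomial.aeval_C, ← MvPolynomial.algebraMap_eq, AlgHom.commutes,
        ← IsScalarTower.algebraMap_apply R κ T]
      exact (Algebra.TensorProduct.includeRight.commutes a).symm
    · show g' (MvPolynomial.map (algebraMap R κ) (MvPolynomial.X i)) = ι (MvPolynomial.aeval b (MvPolynomial.X i))
      rw [MvPolynomial.map_X, MvPolynomial.aeval_X]
      show g (σ (MvPolynomial.X i)) = (1 : κ) ⊗ₜ[R] b i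
      rw [MvPolynomial.aeval_X, map_mul, ← MvPolynomial.algebraMap_eq, AlgHom.commutes, ← hb i,
        ← IsScalarTower.algebraMap_apply R κ T, Algebra.smul_def]
  -- primes of `κ[X]` are determined by their traces on `R[X]`
  have hm : ∀ f : MvPolynomial (Fin s) κ, ∃ a : R, algebraMap R κ a ≠ 0 ∧
      ∃ f₀, MvPolynomial.C (algebraMap R κ a) * f = m f₀ := by
    intro f
    induction f using MvPolynomial.induction_on with
    | C z =>
      obtain ⟨x, y, hy, rfl⟩ := IsFractionRing.div_surjective (R ⧸ p.asIdeal) z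
      obtain ⟨x, rfl⟩ := Ideal.Quotient.mk_surjective x
      obtain ⟨y, rfl⟩ := Ideal.Quotient.mk_surjective y
      have hy0 : algebraMap R κ y ≠ 0 := fun h0 => nonZeroDivisors.ne_zero hy
        (Ideal.Quotient.eq_zero_iff_mem.2 (Ideal.algebraMap_residueField_eq_zero.1 h0))
      refine ⟨y, hy0, MvPolynomial.C x, ?_⟩
      rw [MvPolynomial.map_C, ← map_mul]
      congr 1
      exact mul_div_cancel₀ _ hy0
    | add f g hf hg =>
      obtain ⟨a, ha, f₀, hf⟩ := hf
      obtain ⟨a', ha', g₀, hg⟩ := hg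
      refine ⟨a * a', by rw [map_mul]; exact mul_ne_zero ha ha',
        MvPolynomial.C a' * f₀ + MvPolynomial.C a * g₀, ?_⟩
      rw [map_add, map_mul m, map_mul m, ← hf, ← hg]
      simp only [m, MvPolynomial.map_C, map_mul]
      ring
    | mul_X f i hf =>
      obtain ⟨a, ha, f₀, hf⟩ := hf
      exact ⟨a, ha, f₀ * MvPolynomial.X i, by rw [map_mul m, ← hf, ← mul_assoc]; simp [m]⟩
  have hminj : ∀ P₁ P₂ : Ideal (MvPolynomial (Fin s) κ), P₁.IsPrime → P₂.IsPrime →
      P₁.comap m = P₂.comap m → P₁ ≤ P₂ := by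
    intro P₁ P₂ _ hP₂ he f hf
    obtain ⟨a, ha, f₀, hf₀⟩ := hm f
    have h2 : f₀ ∈ P₂.comap m := by
      rw [← he, Ideal.mem_comap, ← hf₀]
      exact P₁.mul_mem_left _ hf
    rw [Ideal.mem_comap, ← hf₀] at h2
    exact (hP₂.mem_or_mem h2).resolve_left fun hC => hP₂.ne_top
      (Ideal.eq_top_of_isUnit_mem _ hC ((isUnit_iff_ne_zero.2 ha).map MvPolynomial.C))
  rw [Algebra.quasiFiniteAt_iff_isOpen_singleton_fiber]
  let A' := MvPolynomial (Fin s) R
  let F := (PrimeSpectrum.comap (algebraMap A' B)) ⁻¹' {q.comap (algebraMap A' B)}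
  have hover : ∀ x : F, x.1 ∈ PrimeSpectrum.comap (algebraMap R B) ⁻¹' {p} := by
    rintro ⟨x, hx⟩
    show x.comap (algebraMap R B) = p
    rw [← hq, IsScalarTower.algebraMap_eq R A' B, PrimeSpectrum.comap_comp, Function.comp_apply,
      Function.comp_apply]
    exact congrArg _ hx
  let Φ := PrimeSpectrum.preimageOrderIsoFiber R B p
  let Q : F → PrimeSpectrum T := fun x => Φ ⟨x.1, hover x⟩
  have hQ : ∀ x : F, (Q x).asIdeal.comap ι = x.1.asIdeal := fun x =>
    congrArg (fun z => z.1.asIdeal) (Φ.symm_apply_apply ⟨x.1, hover x⟩)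
  have hQinj : Function.Injective Q := fun x y hxy =>
    Subtype.ext (congrArg Subtype.val (Φ.injective hxy) :)
  letI := g'.toRingHom.toAlgebra
  haveI : Module.Finite (MvPolynomial (Fin s) κ) T := hg'
  have hP : ∀ x y : F, (Q x).asIdeal.comap g'.toRingHom = (Q y).asIdeal.comap g'.toRingHom := by
    have : ∀ x : F, ((Q x).asIdeal.comap g'.toRingHom).comap m = q.asIdeal.comap (algebraMap A' B) := by
      intro x
      rw [Ideal.comap_comap, hsq, ← Ideal.comap_comap, hQ]
      exact congrArg PrimeSpectrum.asIdeal x.2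
    intro x y
    exact le_antisymm (hminj _ _ inferInstance inferInstance ((this x).trans (this y).symm))
      (hminj _ _ inferInstance inferInstance ((this y).trans (this x).symm))
  let x₀ : F := ⟨q, rfl⟩
  haveI : Finite F := by
    let P0 := (Q x₀).asIdeal.comap g'.toRingHom
    haveI := (Algebra.QuasiFinite.finite_primesOver (R := MvPolynomial (Fin s) κ) (S := T) P0).to_subtype
    refine Finite.of_injective (fun x : F => (⟨(Q x).asIdeal, (Q x).isPrime, ⟨hP x₀ x⟩⟩ :
      P0.primesOver T)) fun x y hxy => hQinj (PrimeSpectrum.ext ?_)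
    exact congrArg Subtype.val hxy
  haveI : T1Space F := ⟨fun x => by
    refine isClosed_of_closure_subset fun y hy => ?_
    have hle : x.1 ≤ y.1 := (PrimeSpectrum.le_iff_specializes _ _).2
      ((subtype_specializes_iff x y).1 (specializes_iff_mem_closure.2 hy))
    have hQle : Q x ≤ Q y := Φ.monotone (a := ⟨x.1, hover x⟩) (b := ⟨y.1, hover y⟩) hle
    exact (hQinj (PrimeSpectrum.ext (Algebra.QuasiFinite.eq_of_le_of_under_eq
      (R := MvPolynomial (Fin s) κ) _ _ hQle (hP x y)))).symm⟩
  exact isOpen_discrete _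

/-- **Chevalley's semicontinuity, affine form.** -/
theorem exists_open_trdeg_le (p : PrimeSpectrum R) (n : ℕ)
    (h : ringKrullDim (p.asIdeal.Fiber B) ≤ n) :
    ∃ W : Set (PrimeSpectrum B), IsOpen W ∧ (∀ q, q.comap (algebraMap R B) = p → q ∈ W) ∧
      ∀ q ∈ W, ∀ (K L : Type u) [Field K] [Field L] [Algebra K L] (χ : R →+* K) (ψ : B →+* L),
        (∀ r, algebraMap K L (χ r) = ψ (algebraMap R B r)) →
        (∀ z, ∃ a c, ψ c ≠ 0 ∧ z = ψ a / ψ c) → RingHom.ker ψ = q.asIdeal →
        Algebra.trdeg K L ≤ (n : Cardinal.{u}) := by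
  cases subsingleton_or_nontrivial (p.asIdeal.Fiber B) with
  | inl hT =>
    refine ⟨∅, isOpen_empty, fun q hq => ?_, fun q hq => hq.elim⟩
    exact ((PrimeSpectrum.preimageEquivFiber R B p ⟨q, hq⟩).isPrime.ne_top
      (Subsingleton.elim _ _)).elim
  | inr hT =>
    obtain ⟨s, b, hs, hqf⟩ := exists_quasiFiniteAt_fibre p n h
    letI := (MvPolynomial.aeval (R := R) b).toRingHom.toAlgebra
    haveI : IsScalarTower R (MvPolynomial (Fin s) R) B :=
      IsScalarTower.of_algebraMap_eq fun x => ((MvPolynomial.aeval b).commutes x).symm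
    haveI : Algebra.FiniteType (MvPolynomial (Fin s) R) B := .of_restrictScalars_finiteType R _ _
    refine ⟨_, isOpen_setOf_quasiFiniteAt (MvPolynomial (Fin s) R) B, hqf, ?_⟩
    intro q hq K L _ _ _ χ ψ hcomp hgen hker
    exact (trdeg_le_of_quasiFiniteAt b q.asIdeal hq K L χ ψ hcomp hgen hker).trans
      (Nat.cast_le.2 hs)

end Fibre

end Groth.FibreDim
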