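import Groth.Agent.FibreDim.BaseChange
import Mathlib.RingTheory.Extension.Presentation.Core

/-!
# Retrocompactness of the loci of bounded fibre dimension
-/

universe u

open CategoryTheory CategoryTheory.Limits AlgebraicGeometry TopologicalSpace Topology

namespace Groth.FibreDim

theorem fibreDimAt_openImmersion_comp {V X Y : Scheme.{u}} (j : V ⟶ X) [IsOpenImmersion j]
    (f : X ⟶ Y) (v : V) : FlatMor.fibreDimAt (j ≫ f) v = FlatMor.fibreDimAt f (j.base v) := by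
  let y := f.base (j.base v)
  have h1 := fibreDimAt_eq_of_range (j ≫ f) y (A := ↥(j.base ⁻¹' (f.base ⁻¹' {y}))) (e := Subtype.val)
    IsEmbedding.subtypeVal (by rw [Subtype.range_coe]; rfl) ⟨v, rfl⟩
  have h2 := fibreDimAt_eq_of_range f y (A := ↥(f.base ⁻¹' {y})) (e := Subtype.val)
    IsEmbedding.subtypeVal Subtype.range_coe ⟨j.base v, rfl⟩
  rw [h1, h2]
  exact localDim_eq_of_isOpenEmbedding (j.isOpenEmbedding.restrictPreimage (f.base ⁻¹' {y})) ⟨v, rfl⟩

theorem fibreDimAt_comp_injective {X Y S : Scheme.{u}} (f : X ⟶ Y) (i : Y ⟶ S)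
    (hi : Function.Injective i.base) (x : X) :
    FlatMor.fibreDimAt (f ≫ i) x = FlatMor.fibreDimAt f x := by
  have h1 := fibreDimAt_eq_of_range (f ≫ i) (i.base (f.base x)) (A := ↥(f.base ⁻¹' {f.base x}))
    (e := Subtype.val) IsEmbedding.subtypeVal (by
      rw [Subtype.range_coe]
      ext x'
      simp only [Set.mem_preimage, Set.mem_singleton_iff, Scheme.Hom.comp_apply]
      exact ⟨congrArg _, fun h => hi h⟩) ⟨x, rfl⟩
  have h2 := fibreDimAt_eq_of_range f (f.base x) (A := ↥(f.base ⁻¹' {f.base x})) (e := Subtype.val)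
    IsEmbedding.subtypeVal Subtype.range_coe ⟨x, rfl⟩
  exact h1.trans h2.symm

/-- Noetherian models of finitely presented ring maps. -/
theorem exists_model_isPullback {R A : CommRingCat.{u}} (φ : R ⟶ A) (hφ : φ.hom.FinitePresentation) :
    ∃ (R₀ A₀ : CommRingCat.{u}) (φ₀ : R₀ ⟶ A₀) (g : R₀ ⟶ R) (g' : A₀ ⟶ A), IsNoetherianRing R₀ ∧
      IsNoetherianRing A₀ ∧ φ₀.hom.FiniteType ∧
      IsPullback (Spec.map g') (Spec.map φ) (Spec.map φ₀) (Spec.map g) := by
  algebraize [φ.hom]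
  let P := Algebra.Presentation.ofFinitePresentation R A
  haveI : IsNoetherianRing P.Core := Algebra.FiniteType.isNoetherianRing ℤ _
  let R₀ : CommRingCat.{u} := CommRingCat.of P.Core
  let A₀ : CommRingCat.{u} := CommRingCat.of (P.ModelOfHasCoeffs P.Core)
  haveI : IsNoetherianRing (P.ModelOfHasCoeffs P.Core) := Algebra.FiniteType.isNoetherianRing P.Core _
  let e := P.tensorModelOfHasCoeffsEquiv P.Core
  let φ₀ : R₀ ⟶ A₀ := CommRingCat.ofHom (algebraMap P.Core (P.ModelOfHasCoeffs P.Core))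
  let g : R₀ ⟶ R := CommRingCat.ofHom (algebraMap P.Core R)
  let g' : A₀ ⟶ A :=
    CommRingCat.ofHom (e.toRingHom.comp Algebra.TensorProduct.includeRight.toRingHom)
  have hft : φ₀.hom.FiniteType := RingHom.finiteType_algebraMap.mpr inferInstance
  have hpo : IsPushout g φ₀ φ g' :=
    (CommRingCat.isPushout_tensorProduct P.Core R (P.ModelOfHasCoeffs P.Core)).of_iso
      (Iso.refl _) (Iso.refl _) (Iso.refl _) e.toRingEquiv.toCommRingCatIso (by simp [g, R₀]) (by simp [φ₀, R₀, A₀])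
      (by ext r; exact e.commutes r) (CommRingCat.hom_ext rfl)
  exact ⟨R₀, A₀, φ₀, g, g', ‹_›, ‹_›, hft, (isPullback_SpecMap_of_isPushout _ _ _ _ hpo).flip⟩

theorem isCompact_fibreDimAt_le_spec {R A : CommRingCat.{u}} (φ : R ⟶ A)
    (hφ : φ.hom.FinitePresentation) (n : ℕ) :
    IsCompact {x | FlatMor.fibreDimAt (Spec.map φ) x ≤ n} := by
  obtain ⟨R₀, A₀, φ₀, g, g', hR, hA, hft, hsq⟩ := exists_model_isPullback φ hφ
  haveI : LocallyOfFiniteType (Spec.map φ₀) :=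
    (HasRingHomProperty.Spec_iff (P := @LocallyOfFiniteType)).mpr hft
  have hset : {x | FlatMor.fibreDimAt (Spec.map φ) x ≤ (n : WithBot ℕ∞)} =
      (Spec.map g').base ⁻¹' {x | FlatMor.fibreDimAt (Spec.map φ₀) x ≤ n} := by
    ext x
    simp only [Set.mem_setOf_eq, Set.mem_preimage,
      fibreDimAt_baseChange (Spec.map φ₀) (Spec.map g) (Spec.map φ) (Spec.map g') hsq]
  rw [hset]
  have hopen := isOpen_fibreDimAt_le (Spec.map φ₀) n
  haveI : IsNoetherianRing A₀ := hA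
  exact (Spec.map g').isCompact_preimage (U := ⟨_, hopen⟩) (NoetherianSpace.isCompact _)

theorem isRetrocompact_fibreDimAt_le {X S : Scheme.{u}} (f : X ⟶ S) [LocallyOfFinitePresentation f]
    (n : ℕ) : IsRetrocompact {x : X | FlatMor.fibreDimAt f x ≤ n} := by
  intro O hOc hO
  have hloc : ∀ x ∈ O, ∃ V : X.Opens, IsAffineOpen V ∧ x ∈ V ∧ (V : Set X) ⊆ O ∧
      IsCompact ((V : Set X) ∩ {x : X | FlatMor.fibreDimAt f x ≤ n}) := by
    intro x hx
    obtain ⟨U, hU, hxU, -⟩ := exists_isAffineOpen_mem_and_subset (U := ⊤) (Set.mem_univ (f.base x))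
    obtain ⟨V, hV, hxV, hVU'⟩ := exists_isAffineOpen_mem_and_subset (U := f ⁻¹ᵁ U ⊓ ⟨O, hO⟩)
      (show x ∈ f ⁻¹ᵁ U ⊓ ⟨O, hO⟩ from ⟨hxU, hx⟩)
    have hVU : V ≤ f ⁻¹ᵁ U := fun v hv => (hVU' hv).1
    refine ⟨V, hV, hxV, fun v hv => (hVU' hv).2, ?_⟩
    have hc := isCompact_fibreDimAt_le_spec (f.appLE U V hVU)
      (f.finitePresentation_appLE hU hV hVU) n
    convert hc.image hV.fromSpec.continuous using 1
    have heq : ∀ p, FlatMor.fibreDimAt (Spec.map (f.appLE U V hVU)) p =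
        FlatMor.fibreDimAt f (hV.fromSpec.base p) := fun p => by
      rw [← fibreDimAt_openImmersion_comp hV.fromSpec f p, ← hU.SpecMap_appLE_fromSpec f hV hVU,
        fibreDimAt_comp_injective _ _ hU.fromSpec.isOpenEmbedding.injective]
    ext v
    constructor
    · rintro ⟨hv, hd⟩
      obtain ⟨p, rfl⟩ : v ∈ Set.range hV.fromSpec.base := hV.range_fromSpec.ge hv
      exact ⟨p, (heq p).trans_le hd, rfl⟩
    · rintro ⟨p, hp, rfl⟩
      exact ⟨hV.range_fromSpec.le ⟨p, rfl⟩, (heq p).ge.trans hp⟩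
  choose V hVa hxV hVO hVc using hloc
  obtain ⟨t, ht⟩ := hOc.elim_finite_subcover (fun x : O => (V x.1 x.2 : Set X))
    (fun x => (V x.1 x.2).isOpen) fun x hx => Set.mem_iUnion.2 ⟨⟨x, hx⟩, hxV x hx⟩
  have : {x : X | FlatMor.fibreDimAt f x ≤ n} ∩ O =
      ⋃ x ∈ t, ((V x.1 x.2 : Set X) ∩ {x : X | FlatMor.fibreDimAt f x ≤ n}) := by
    ext v
    constructor
    · rintro ⟨hd, hv⟩
      obtain ⟨x, hx, hvx⟩ := Set.mem_iUnion₂.1 (ht hv)
      exact Set.mem_iUnion₂.2 ⟨x, hx, hvx, hd⟩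
    · intro h
      obtain ⟨x, -, hv, hd⟩ := Set.mem_iUnion₂.1 h
      exact ⟨hd, hVO _ _ hv⟩
  rw [this]
  exact t.finite_toSet.isCompact_biUnion fun x _ => hVc _ _

end Groth.FibreDim
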