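import Groth.Agent.FibreDim.OpenFibre
import Groth.Agent.FibreDim.Retrocompact
import Groth.Prelude.Def_EGA4b

/-!
# Equidimensional morphisms and local rings
-/

universe u

open CategoryTheory CategoryTheory.Limits AlgebraicGeometry TopologicalSpace Topology

namespace Groth.FibreDim

variable {X Y : Scheme.{u}} (f : X ⟶ Y)

/-- In an equidimensional local ring there are chains of maximal length to every minimal prime. -/
theorem exists_series_of_isEquidim [IsLocallyNoetherian X] {x ξ : X}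
    (hX : EGA4.IsEquidim (X.presheaf.stalk x)) (hξ : ξ ⤳ x) (hmax : IsMax ξ) :
    ∃ s : LTSeries X, x ≤ s.head ∧ s.last ≤ ξ ∧ (s.length : ℕ∞) = Order.coheight x := by
  obtain ⟨n, hn⟩ := exists_ringKrullDim_eq_natCast (X.presheaf.stalk x)
  let c := X.fromSpecStalk x
  obtain ⟨p, hp⟩ : ξ ∈ Set.range c.base := Scheme.range_fromSpecStalk.ge hξ
  have hanti : ∀ a b : PrimeSpectrum (X.presheaf.stalk x), a ≤ b ↔ c.base b ≤ c.base a := fun a b =>
    (PrimeSpectrum.le_iff_specializes a b).trans c.isEmbedding.toIsInducing.specializes_iff.symm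
  have hmin : p.asIdeal ∈ minimalPrimes (X.presheaf.stalk x) := by
    refine ⟨⟨p.2, bot_le⟩, fun q hq hle => ?_⟩
    have h1 : c.base p ≤ c.base ⟨q, hq.1⟩ := (hanti ⟨q, hq.1⟩ p).1 hle
    rw [hp] at h1
    have h2 := hmax h1
    rw [← hp] at h2
    exact (hanti p ⟨q, hq.1⟩).2 h2
  have hd := (hX _ hmin).trans hn
  obtain ⟨l, hl⟩ := (Order.le_krullDim_iff (n := n)).1 (show (n : WithBot ℕ∞) ≤ _ from hd.ge)
  let φ : PrimeSpectrum ((X.presheaf.stalk x) ⧸ p.asIdeal) → X := fun r =>
    c.base (PrimeSpectrum.comap (Ideal.Quotient.mk p.asIdeal) r)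
  have hφ : ∀ a b, a ≤ b ↔ φ b ≤ φ a := fun a b => by
    rw [← hanti]
    exact (Ideal.comap_le_comap_iff_of_surjective (Ideal.Quotient.mk p.asIdeal)
      Ideal.Quotient.mk_surjective _ _).symm
  let s : LTSeries X := LTSeries.mk l.length (fun k => φ (l.toFun k.rev)) fun a b hab => by
    have := l.strictMono (Fin.rev_lt_rev.2 hab)
    exact lt_of_le_not_ge ((hφ _ _).1 this.le) fun h' => this.not_ge ((hφ _ _).2 h')
  refine ⟨s, ?_, ?_, ?_⟩
  · exact Scheme.range_fromSpecStalk.le ⟨_, rfl⟩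
  · show φ _ ≤ ξ
    rw [← hp]
    refine (hanti p _).1 ?_
    show p.asIdeal ≤ Ideal.comap _ _
    exact (Ideal.mk_ker (I := p.asIdeal)).ge.trans (Ideal.ker_le_comap _)
  · rw [ringKrullDim_stalk_eq_coheight] at hn
    have : Order.coheight x = (n : ℕ∞) := by exact_mod_cast hn
    rw [this]
    exact_mod_cast hl

variable [LocallyOfFiniteType f]

theorem fibreDimAt_ne_top (x : X) : ∃ n : ℕ, FlatMor.fibreDimAt f x = n :=
  let ⟨t, e, _, _, _, h⟩ := exists_fibre_quantities f x
  ⟨t + e, h⟩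

theorem fibreDimAt_le_of_specializes {ξ x : X} (h : ξ ⤳ x) :
    FlatMor.fibreDimAt f ξ ≤ FlatMor.fibreDimAt f x := by
  obtain ⟨n, hn⟩ := fibreDimAt_ne_top f x
  exact hn ▸ h.mem_open (isOpen_fibreDimAt_le f n) hn.le

lemma exists_max_specializes (x : X) : ∃ ξ : X, IsMax ξ ∧ ξ ⤳ x := by
  have hT := irreducibleComponent_mem_irreducibleComponents x
  have hg := hT.1.isGenericPoint_genericPoint (isClosed_of_mem_irreducibleComponents _ hT)
  refine ⟨_, isMax_of_mem_genericPoints ?_, hg.specializes mem_irreducibleComponent⟩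
  rw [hg.def]
  exact hT

omit [LocallyOfFiniteType f] in
lemma isMax_iff_of_openImmersion (U : X.Opens) (η : U.toScheme) : IsMax η ↔ IsMax (U.ι.base η) := by
  constructor
  · intro h w hw
    obtain ⟨v, rfl⟩ : w ∈ Set.range U.ι.base := by
      rw [Scheme.Opens.range_ι]
      exact (show w ⤳ U.ι.base η from hw).mem_open U.isOpen η.2
    exact (le_iff_of_isEmbedding U.ι U.ι.isEmbedding _ _).2
      (h ((le_iff_of_isEmbedding U.ι U.ι.isEmbedding _ _).1 hw))
  · intro h w hw
    exact (le_iff_of_isEmbedding U.ι U.ι.isEmbedding _ _).1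
      (h ((le_iff_of_isEmbedding U.ι U.ι.isEmbedding _ _).2 hw))

/-- Pointwise form of equidimensionality. -/
theorem isEquidimAt_iff (x : X) : EGA43.IsEquidimAt f x ↔ ∃ (e : ℕ) (U : X.Opens), x ∈ U ∧
    (∀ η ∈ U, IsMax η → IsMax (f.base η) ∧ f.base η ⤳ f.base x) ∧
    ∀ x' ∈ U, FlatMor.fibreDimAt f x' = e := by
  refine exists_congr fun e => exists_congr fun U => and_congr_right fun _ => and_congr ?_ ?_
  · have hmapcl : ∀ η : U.toScheme,
        closure ((U.ι ≫ f).base '' closure {η}) = closure {f.base (U.ι.base η)} := fun η => by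
      refine le_antisymm (closure_minimal ?_ isClosed_closure) (closure_mono (Set.singleton_subset_iff.2 ?_))
      · refine (image_closure_subset_closure_image (U.ι ≫ f).continuous).trans ?_
        rw [Set.image_singleton]
        rfl
      · exact ⟨η, subset_closure rfl, rfl⟩
    constructor
    · intro h η hη hmax
      let η' : U.toScheme := ⟨η, hη⟩
      have hm := (isMax_iff_of_openImmersion U η').2 hmax
      obtain ⟨W, hW, hyW, hWeq⟩ := h (closure ({η'} : Set U.toScheme)) (mem_irreducibleComponents_of_isMax (Z := U.toScheme) hm)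
      replace hWeq : closure {f.base (U.ι.base η')} = W := (hmapcl η').symm.trans hWeq
      exact ⟨isMax_of_mem_genericPoints (by rw [← hWeq] at hW; exact hW),
        specializes_iff_mem_closure.2 (by rw [← hWeq] at hyW; exact hyW)⟩
    · intro h Z₀ hZ₀
      let Z : Set U.toScheme := Z₀
      have hZ : Z ∈ irreducibleComponents U.toScheme := hZ₀
      show ∃ W ∈ irreducibleComponents (Y : Type u), f.base x ∈ W ∧ closure ((U.ι ≫ f).base '' Z) = W
      have hg := hZ.1.isGenericPoint_genericPoint (isClosed_of_mem_irreducibleComponents Z hZ)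
      have hm : IsMax hZ.1.genericPoint := isMax_of_mem_genericPoints (by rw [hg.def]; exact hZ)
      obtain ⟨h1, h2⟩ := h _ hZ.1.genericPoint.2 ((isMax_iff_of_openImmersion U _).1 hm)
      exact ⟨_, mem_irreducibleComponents_of_isMax h1, specializes_iff_mem_closure.1 h2,
        (congrArg (fun A => closure ((U.ι ≫ f).base '' A)) hg.def.symm).trans (hmapcl _)⟩
  · let g := U.ι ≫ f
    constructor
    · intro h x' hx'
      haveI : LocallyOfFiniteType (g.fiberToSpecResidueField (g.base ⟨x', hx'⟩)) :=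
        inferInstanceAs (LocallyOfFiniteType (pullback.snd g (Y.fromSpecResidueField (g.base ⟨x', hx'⟩))))
      have h1 : FlatMor.fibreDimAt g ⟨x', hx'⟩ = e :=
        (forall_component_dim_eq_iff (k := Y.residueField (g.base ⟨x', hx'⟩))
          (g.fiberToSpecResidueField _) e).1 (h ⟨x', hx'⟩) _
      rw [fibreDimAt_openImmersion_comp] at h1
      exact h1
    · intro h x' Z hZ
      haveI : LocallyOfFiniteType (g.fiberToSpecResidueField (g.base x')) :=
        inferInstanceAs (LocallyOfFiniteType (pullback.snd g (Y.fromSpecResidueField (g.base x'))))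
      refine (forall_component_dim_eq_iff (k := Y.residueField (g.base x'))
        (g.fiberToSpecResidueField _) e).2 (fun w => ?_) Z hZ
      rw [← fibreDimAt_fiberι, fibreDimAt_openImmersion_comp]
      exact h _ ((g.fiberι _).base w).2

omit [LocallyOfFiniteType f] in
theorem exists_open_forall_max_specializes [IsLocallyNoetherian X] (x : X) :
    ∃ U : X.Opens, x ∈ U ∧ ∀ η ∈ U, IsMax η → η ⤳ x := by
  obtain ⟨W, hW, hxW, -⟩ := exists_isAffineOpen_mem_and_subset (U := ⊤) (Set.mem_univ x)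
  haveI : IsNoetherianRing Γ(X, W) := IsLocallyNoetherian.component_noetherian ⟨W, hW⟩
  haveI : NoetherianSpace W.toScheme := noetherianSpace_of_isAffineOpen W hW
  let M : Set X := {η | η ∈ W ∧ IsMax η ∧ ¬ η ⤳ x}
  have hfin : {η : W.toScheme | IsMax η}.Finite := by
    refine Set.Finite.of_finite_image (f := fun η => closure {η}) ?_ fun a _ b _ hab =>
      ((specializes_iff_mem_closure.2 (hab.ge (subset_closure rfl))).antisymm
        (specializes_iff_mem_closure.2 (hab.le (subset_closure rfl)))).eq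
    refine (NoetherianSpace.finite_irreducibleComponents (α := W.toScheme)).subset ?_
    rintro _ ⟨η, hη, rfl⟩
    exact mem_irreducibleComponents_of_isMax hη
  have hM : M.Finite := (hfin.image W.ι.base).subset fun η hη =>
    ⟨⟨η, hη.1⟩, (isMax_iff_of_openImmersion W _).2 hη.2.1, rfl⟩
  have hC : IsClosed (⋃ η ∈ M, closure ({η} : Set X)) := hM.isClosed_biUnion fun _ _ => isClosed_closure
  refine ⟨W ⊓ ⟨_, hC.isOpen_compl⟩, ⟨hxW, ?_⟩, fun η hη hmax => ?_⟩
  · intro h
    obtain ⟨η, hη, hx⟩ := Set.mem_iUnion₂.1 h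
    exact hη.2.2 (specializes_iff_mem_closure.2 hx)
  · by_contra hc
    exact hη.2 (Set.mem_iUnion₂.2 ⟨η, ⟨hη.1, hmax, hc⟩, subset_closure rfl⟩)

end Groth.FibreDim

namespace Groth.FibreDim

/-- `dim (O_x / p)` is the length of the longest chain between `x` and the point of `p`. -/
theorem natCast_le_ringKrullDim_quotient_iff {X : Scheme.{u}} {x ξ : X}
    (p : PrimeSpectrum (X.presheaf.stalk x)) (hp : (X.fromSpecStalk x).base p = ξ) (n : ℕ) :
    (n : WithBot ℕ∞) ≤ ringKrullDim ((X.presheaf.stalk x) ⧸ p.asIdeal) ↔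
      ∃ s : LTSeries X, x ≤ s.head ∧ s.last ≤ ξ ∧ s.length = n := by
  let c := X.fromSpecStalk x
  have hanti : ∀ a b : PrimeSpectrum (X.presheaf.stalk x), a ≤ b ↔ c.base b ≤ c.base a := fun a b =>
    (PrimeSpectrum.le_iff_specializes a b).trans c.isEmbedding.toIsInducing.specializes_iff.symm
  let φ : PrimeSpectrum ((X.presheaf.stalk x) ⧸ p.asIdeal) → X := fun r =>
    c.base (PrimeSpectrum.comap (Ideal.Quotient.mk p.asIdeal) r)
  have hφ : ∀ a b, a ≤ b ↔ φ b ≤ φ a := fun a b => by
    rw [← hanti]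
    exact (Ideal.comap_le_comap_iff_of_surjective (Ideal.Quotient.mk p.asIdeal)
      Ideal.Quotient.mk_surjective _ _).symm
  rw [ringKrullDim, Order.le_krullDim_iff]
  constructor
  · rintro ⟨l, hl⟩
    let s : LTSeries X := LTSeries.mk l.length (fun k => φ (l.toFun k.rev)) fun a b hab => by
      have := l.strictMono (Fin.rev_lt_rev.2 hab)
      exact lt_of_le_not_ge ((hφ _ _).1 this.le) fun h' => this.not_ge ((hφ _ _).2 h')
    refine ⟨s, Scheme.range_fromSpecStalk.le ⟨_, rfl⟩, ?_, hl⟩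
    show φ _ ≤ ξ
    rw [← hp]
    refine (hanti p _).1 ?_
    show p.asIdeal ≤ Ideal.comap _ _
    exact (Ideal.mk_ker (I := p.asIdeal)).ge.trans (Ideal.ker_le_comap _)
  · rintro ⟨s, hs, hsl, hlen⟩
    have hr : ∀ k, s.toFun k ∈ Set.range φ := fun k => by
      obtain ⟨q, hq⟩ : s.toFun k ∈ Set.range c.base :=
        Scheme.range_fromSpecStalk.ge (hs.trans (s.monotone (Fin.zero_le k)) : x ≤ s.toFun k)
      have hpq : p.asIdeal ≤ q.asIdeal := (hanti p q).2 (by
        rw [hq, hp]; exact (s.monotone (Fin.le_last k)).trans hsl)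
      haveI : (q.asIdeal.map (Ideal.Quotient.mk p.asIdeal)).IsPrime :=
        Ideal.map_isPrime_of_surjective Ideal.Quotient.mk_surjective (by rwa [Ideal.mk_ker])
      refine ⟨⟨q.asIdeal.map (Ideal.Quotient.mk p.asIdeal), inferInstance⟩, ?_⟩
      rw [← hq]
      refine congrArg c.base (PrimeSpectrum.ext ?_)
      show Ideal.comap _ (Ideal.map _ _) = _
      rw [Ideal.comap_map_of_surjective _ Ideal.Quotient.mk_surjective, ← RingHom.ker_eq_comap_bot, Ideal.mk_ker]
      exact sup_of_le_left hpq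
    choose q hq using hr
    refine ⟨LTSeries.mk s.length (fun k => q k.rev) fun a b hab => ?_, hlen⟩
    have := s.strictMono (Fin.rev_lt_rev.2 hab)
    rw [← hq a.rev, ← hq b.rev] at this
    exact lt_of_le_not_ge ((hφ _ _).2 this.le) fun h' => this.not_ge ((hφ _ _).1 h')

theorem ringKrullDim_quotient_eq_of_series {X : Scheme.{u}} {x ξ : X}
    (p : PrimeSpectrum (X.presheaf.stalk x)) (hp : (X.fromSpecStalk x).base p = ξ) (n : ℕ)
    (h1 : ∀ s : LTSeries X, x ≤ s.head → s.last ≤ ξ → s.length ≤ n)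
    (h2 : ∃ s : LTSeries X, x ≤ s.head ∧ s.last ≤ ξ ∧ s.length = n) :
    ringKrullDim ((X.presheaf.stalk x) ⧸ p.asIdeal) = n := by
  refine le_antisymm ?_ ((natCast_le_ringKrullDim_quotient_iff p hp n).2 h2)
  rw [ringKrullDim]
  refine iSup_le fun l => ?_
  obtain ⟨s, hs1, hs2, hs3⟩ := (natCast_le_ringKrullDim_quotient_iff p hp l.length).1 (by
    rw [ringKrullDim]; exact Order.LTSeries.length_le_krullDim l)
  exact_mod_cast hs3 ▸ h1 s hs1 hs2

theorem isMax_fromSpecStalk_iff {X : Scheme.{u}} {x : X} (p : PrimeSpectrum (X.presheaf.stalk x)) :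
    IsMax ((X.fromSpecStalk x).base p) ↔ p.asIdeal ∈ minimalPrimes (X.presheaf.stalk x) := by
  let c := X.fromSpecStalk x
  have hanti : ∀ a b : PrimeSpectrum (X.presheaf.stalk x), a ≤ b ↔ c.base b ≤ c.base a := fun a b =>
    (PrimeSpectrum.le_iff_specializes a b).trans c.isEmbedding.toIsInducing.specializes_iff.symm
  constructor
  · intro hmax
    refine ⟨⟨p.2, bot_le⟩, fun q hq hle => ?_⟩
    exact (hanti p ⟨q, hq.1⟩).2 (hmax ((hanti ⟨q, hq.1⟩ p).1 hle))
  · intro hmin w hw
    obtain ⟨q, rfl⟩ : w ∈ Set.range c.base := by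
      rw [Scheme.range_fromSpecStalk]
      exact (show w ⤳ c.base p from hw).trans (Scheme.range_fromSpecStalk.le ⟨p, rfl⟩)
    exact (hanti p q).1 (hmin.2 ⟨q.2, bot_le⟩ ((hanti q p).2 hw))

end Groth.FibreDim
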