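import Groth.Agent.FibreDim.ComponentCor
import Groth.Agent.FibreDim.StalkFormula
import Groth.Agent.FibreDim.RelDim

/-!
# Fibre dimensions of open morphisms (EGA IV 14.2)
-/

universe u

open CategoryTheory CategoryTheory.Limits AlgebraicGeometry TopologicalSpace Topology

namespace Groth.FibreDim

variable {X Y : Scheme.{u}} (f : X ⟶ Y)

lemma isMax_asFiber_iff (z : X) :
    IsMax (f.asFiber z) ↔ ∀ z', f.base z' = f.base z → z' ⤳ z → z' = z := by
  constructor
  · intro h z' hz' hsp
    obtain ⟨w, rfl⟩ : z' ∈ Set.range (f.fiberι (f.base z)).base := by rw [f.range_fiberι]; exact hz'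
    have hle : f.asFiber z ≤ w := by
      rw [← le_iff_of_isEmbedding _ (f.fiberι _).isEmbedding, f.fiberι_asFiber]; exact hsp
    have := h hle
    rw [← le_iff_of_isEmbedding _ (f.fiberι _).isEmbedding, f.fiberι_asFiber] at this
    exact (hsp.antisymm (this : z ⤳ _)).eq
  · intro h w hw
    rw [← le_iff_of_isEmbedding _ (f.fiberι _).isEmbedding, f.fiberι_asFiber] at hw ⊢
    exact le_of_eq (h _ (apply_fiberι f _ w) hw)

variable [LocallyOfFiniteType f]

lemma fibreDimAt_eq_height_of_max {z : X} (h : ∀ z', f.base z' = f.base z → z' ⤳ z → z' = z) :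
    FlatMor.fibreDimAt f z = (Order.height (f.asFiber z) : ℕ∞) ∧
      ringKrullDim ((f.fiber (f.base z)).presheaf.stalk (f.asFiber z)) = 0 := by
  have h0 : Order.coheight (f.asFiber z) = 0 := Order.coheight_eq_zero.2 ((isMax_asFiber_iff f z).2 h)
  have h1 : ringKrullDim ((f.fiber (f.base z)).presheaf.stalk (f.asFiber z)) = 0 := by
    rw [ringKrullDim_stalk_eq_coheight, h0]; rfl
  refine ⟨?_, h1⟩
  rw [fibreDimAt_eq_height_add, h1, add_zero]

/-- The dimensions of the irreducible components of a fibre are the fibre dimensions at their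
generic points. -/
theorem component_dims_eq (y : Y) :
    (fun Z : Set ↥(f.fiber y) => topologicalKrullDim ↥Z) '' irreducibleComponents ↥(f.fiber y) =
      FlatMor.fibreDimAt f '' {z | f.base z = y ∧ ∀ z', f.base z' = y → z' ⤳ z → z' = z} := by
  haveI : LocallyOfFiniteType (f.fiberToSpecResidueField y) :=
    inferInstanceAs (LocallyOfFiniteType (pullback.snd f (Y.fromSpecResidueField y)))
  ext d
  constructor
  · rintro ⟨T, hT, rfl⟩
    have hg := hT.1.isGenericPoint_genericPoint (isClosed_of_mem_irreducibleComponents T hT)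
    set η := hT.1.genericPoint
    have hmax : IsMax η := isMax_of_mem_genericPoints (by rw [hg.def]; exact hT)
    have hz : f.base ((f.fiberι y).base η) = y := apply_fiberι f y η
    refine ⟨(f.fiberι y).base η, ⟨hz, fun z' hz' hsp => ?_⟩, ?_⟩
    · obtain ⟨w, rfl⟩ : z' ∈ Set.range (f.fiberι y).base := by rw [f.range_fiberι]; exact hz'
      have hle : η ≤ w := (le_iff_of_isEmbedding _ (f.fiberι _).isEmbedding _ _).1 hsp
      exact congrArg _ ((Specializes.antisymm (show w ⤳ η from hle) (hmax hle)).eq)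
    · rw [fibreDimAt_fiberι, localDim_eq_height_of_isMax (k := Y.residueField y) (f.fiberToSpecResidueField y) hmax]
      show _ = topologicalKrullDim T
      rw [← hg.def, Groth.Variety2.Dim.dim_closure_singleton]
  · rintro ⟨z, ⟨hzy, hmax⟩, rfl⟩
    obtain ⟨η, rfl⟩ : z ∈ Set.range (f.fiberι y).base := by rw [f.range_fiberι]; exact hzy
    have hηmax : IsMax η := fun w hw => by
      have h1 := hmax _ (apply_fiberι f y w) ((le_iff_of_isEmbedding _ (f.fiberι _).isEmbedding _ _).2 hw)
      exact le_of_eq ((f.fiberι _).isEmbedding.injective h1)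
    refine ⟨closure {η}, ?_, ?_⟩
    · rw [Groth.PropsBasic2.closure_mem_irreducibleComponents_iff]
      exact fun w hw => (Specializes.antisymm hw (hηmax hw)).eq
    · rw [fibreDimAt_fiberι, localDim_eq_height_of_isMax (k := Y.residueField y) (f.fiberToSpecResidueField y) hηmax]
      exact Groth.Variety2.Dim.dim_closure_singleton η

/-- If `dim O_z = dim O_y` at the generic point `z` of a component of a fibre, some component of `X`
through `z` dominates a component of `Y` with the same dimension of generic fibre. -/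
theorem exists_component_of_dim_eq [IsLocallyNoetherian Y] {z : X}
    (hz : ∀ z', f.base z' = f.base z → z' ⤳ z → z' = z)
    (hdim : ringKrullDim (X.presheaf.stalk z) = ringKrullDim (Y.presheaf.stalk (f.base z))) :
    ∃ ξ : X, IsMax ξ ∧ ξ ⤳ z ∧ IsMax (f.base ξ) ∧
      FlatMor.fibreDimAt f ξ = FlatMor.fibreDimAt f z := by
  haveI : IsLocallyNoetherian X := LocallyOfFiniteType.isLocallyNoetherian f
  obtain ⟨hfd, he⟩ := fibreDimAt_eq_height_of_max f hz
  obtain ⟨s, hs, hslen, hsmax⟩ := exists_series_maximal z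
  have hξz : s.last ⤳ z := by
    have : s.head ≤ s.last := s.head_le_last
    rwa [hs] at this
  obtain ⟨t, t₀, a, b, ht, ht₀, hle, -, -, hchain, hb, hbmax, -, ht₀le, -, -⟩ :=
    exists_dim_formula_along f hξz
  have ha := hchain s hs.ge le_rfl
  obtain ⟨B, hB⟩ := exists_coheight_eq_natCast (f.base z)
  rw [ringKrullDim_stalk_eq_coheight, ringKrullDim_stalk_eq_coheight, ← hslen, hB] at hdim
  have hlen : s.length = B := by exact_mod_cast hdim
  rw [hB, Nat.cast_le] at hb
  have he' : Order.coheight (f.asFiber z) = 0 := Order.coheight_eq_zero.2 ((isMax_asFiber_iff f z).2 hz)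
  rw [he', add_zero, Nat.cast_le] at ht₀le
  have hmaxf : IsMax (f.base s.last) := by
    by_contra hc
    have h2 := hbmax hc
    rw [hB, Nat.cast_le] at h2
    omega
  refine ⟨s.last, hsmax, hξz, hmaxf, ?_⟩
  rw [hfd, (fibreDimAt_eq_height_of_max f fun z' _ hz' =>
    (hz'.antisymm (hsmax hz')).eq).1, ht, ht₀]
  norm_cast
  omega

/-- If `f` is open at the generic point `z` of a component of a fibre, some component of `X` through
`z` dominates a component of `Y` with the same dimension of generic fibre. -/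
theorem exists_component_of_isOpenAt [IsLocallyNoetherian Y] {z : X}
    (hz : ∀ z', f.base z' = f.base z → z' ⤳ z → z' = z) (hopen : EGA43.IsOpenAt f.base z) :
    ∃ ξ : X, IsMax ξ ∧ ξ ⤳ z ∧ IsMax (f.base ξ) ∧
      FlatMor.fibreDimAt f ξ = FlatMor.fibreDimAt f z := by
  haveI : IsLocallyNoetherian X := LocallyOfFiniteType.isLocallyNoetherian f
  refine exists_component_of_dim_eq f hz ?_
  rw [ringKrullDim_stalk_eq_add f z fun w hw hwmax => ?_, (fibreDimAt_eq_height_of_max f hz).2, add_zero]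
  suffices hwz : (f.fiberι (f.base z)).base w = z by rw [hwz]; exact hopen
  refine hz _ (apply_fiberι f _ w) ?_
  have := (specializes_iff_mem_closure.2 hw).map (f.fiberι (f.base z)).continuous
  rwa [f.fiberι_asFiber] at this

/-- Openness at a point is preserved by restriction over a subset of the base. -/
lemma isOpenAt_of_isEmbedding {X' Y' : Scheme.{u}} (i : X' ⟶ X) (j : Y' ⟶ Y) (g : X' ⟶ Y')
    (hg : g ≫ j = i ≫ f) (hi : IsEmbedding i.base) (hj : IsEmbedding j.base)
    (hr : Set.range i.base = f.base ⁻¹' Set.range j.base) {z : X'}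
    (h : EGA43.IsOpenAt f.base (i.base z)) : EGA43.IsOpenAt g.base z := by
  intro U hU
  obtain ⟨U', hU', hsub⟩ := (hi.toIsInducing.nhds_eq_comap z ▸ hU :)
  have hcomm : ∀ w : X', f.base (i.base w) = j.base (g.base w) := fun w => by
    rw [← Scheme.Hom.comp_apply, ← hg, Scheme.Hom.comp_apply]
  rw [hj.toIsInducing.nhds_eq_comap]
  refine ⟨f.base '' U', hcomm z ▸ h U' hU', ?_⟩
  rintro w ⟨v, hv, hvw⟩
  obtain ⟨v', rfl⟩ : v ∈ Set.range i.base := hr.ge (show f.base v ∈ Set.range j.base from hvw ▸ ⟨w, rfl⟩)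
  exact ⟨v', hsub hv, hj.injective (by rw [← hcomm, hvw])⟩

/-- **EGA IV 14.2.2**: generic points of fibre components where `f` is open generize with the same
dimension over any generization of the image. -/
theorem exists_generization_of_isOpenAt [IsLocallyNoetherian Y] {z : X}
    (hz : ∀ z', f.base z' = f.base z → z' ⤳ z → z' = z) (hopen : EGA43.IsOpenAt f.base z)
    {y' : Y} (hy' : y' ⤳ f.base z) :
    ∃ ξ : X, f.base ξ = y' ∧ ξ ⤳ z ∧ (∀ w, f.base w = y' → w ⤳ ξ → w = ξ) ∧
      FlatMor.fibreDimAt f ξ = FlatMor.fibreDimAt f z := by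
  let T : Closeds Y := ⟨closure {y'}, isClosed_closure⟩
  let j := (Scheme.IdealSheafData.vanishingIdeal T).subschemeι
  have hj : Set.range j.base = closure {y'} := Groth.PropsBasic2.range_vanishingIdeal_subschemeι T
  haveI := LocallyOfFiniteType.isLocallyNoetherian j
  let g := pullback.snd f j
  let i := pullback.fst f j
  have hc : IsPullback i g f j := IsPullback.of_hasPullback _ _
  haveI : LocallyOfFiniteType g := inferInstanceAs (LocallyOfFiniteType (pullback.snd f j))
  have hr : Set.range i.base = f.base ⁻¹' Set.range j.base := Scheme.Pullback.range_fst ..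
  have hcomm : ∀ w, f.base (i.base w) = j.base (g.base w) := fun w => by
    rw [← Scheme.Hom.comp_apply, pullback.condition, Scheme.Hom.comp_apply]
  obtain ⟨z₀, rfl⟩ : z ∈ Set.range i.base := by
    rw [hr, Set.mem_preimage, hj]
    exact specializes_iff_mem_closure.1 hy'
  obtain ⟨ξ, hξmax, hξz, hfmax, hdim⟩ := exists_component_of_isOpenAt g
    (z := z₀) (fun w hw hsp => i.isEmbedding.injective (hz _ (by rw [hcomm, hw, ← hcomm])
      (hsp.map i.continuous)))
    (isOpenAt_of_isEmbedding f i j g pullback.condition.symm i.isEmbedding j.isEmbedding hr hopen)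
  obtain ⟨η, hη⟩ : y' ∈ Set.range j.base := hj.ge (subset_closure rfl)
  have hgξ : j.base (g.base ξ) = y' := by
    rw [← hη]
    have hle : g.base ξ ≤ η := by
      rw [← le_iff_of_isEmbedding j j.isEmbedding, hη]
      exact specializes_iff_mem_closure.2 (hj.le ⟨_, rfl⟩)
    exact congrArg _ ((Specializes.antisymm (show η ⤳ g.base ξ from hle) (hfmax hle)).eq.symm)
  refine ⟨i.base ξ, by rw [hcomm, hgξ], hξz.map i.continuous, fun w hw hsp => ?_, ?_⟩
  · obtain ⟨w₀, rfl⟩ : w ∈ Set.range i.base := by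
      rw [hr, Set.mem_preimage, hw, ← hgξ]; exact ⟨_, rfl⟩
    have hle : ξ ≤ w₀ := (le_iff_of_isEmbedding i i.isEmbedding _ _).1 hsp
    exact congrArg _ ((Specializes.antisymm (show w₀ ⤳ ξ from hle) (hξmax hle)).eq)
  · rw [← fibreDimAt_baseChange f j g i hc, ← fibreDimAt_baseChange f j g i hc, hdim]

theorem component_dims_subset_of_specializes [IsLocallyNoetherian Y] {y y' : Y} (hy' : y' ⤳ y)
    (h : ∀ x : X, f.base x = y → EGA43.IsOpenAt f.base x) :
    (fun Z : Set ↥(f.fiber y) => topologicalKrullDim ↥Z) '' irreducibleComponents ↥(f.fiber y) ⊆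
      (fun Z : Set ↥(f.fiber y') => topologicalKrullDim ↥Z) '' irreducibleComponents ↥(f.fiber y') := by
  rw [component_dims_eq, component_dims_eq]
  rintro _ ⟨z, ⟨hzy, hmax⟩, rfl⟩
  subst hzy
  obtain ⟨ξ, hξ, -, hξmax, hd⟩ := exists_generization_of_isOpenAt f hmax (h z rfl) hy'
  exact ⟨ξ, ⟨hξ, hξmax⟩, hd⟩

theorem dim_fiber_eq_iSup_max (y : Y) : topologicalKrullDim ↥(f.fiber y) =
    ⨆ z ∈ {z | f.base z = y ∧ ∀ z', f.base z' = y → z' ⤳ z → z' = z}, FlatMor.fibreDimAt f z := by
  refine le_antisymm ?_ (iSup₂_le fun z hz => ?_)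
  · rw [dim_fiber_eq_iSup]
    refine iSup_le fun w => ?_
    obtain ⟨z, hz, hzw, hz0, hzd⟩ := exists_maximal_fibre_point f ((f.fiberι y).base w)
    rw [apply_fiberι] at hz
    have hmax : ∀ z', f.base z' = f.base z → z' ⤳ z → z' = z :=
      (isMax_asFiber_iff f z).1 (Order.coheight_eq_zero.1 hz0)
    refine le_trans ?_ (le_iSup₂ z ⟨hz, fun z' hz' => hmax z' (hz'.trans hz.symm)⟩)
    rw [← fibreDimAt_fiberι f y w, ← hzd, (fibreDimAt_eq_height_of_max f hmax).1]
  · obtain ⟨hzy, -⟩ := hz
    subst hzy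
    exact Groth.SpectralTopology.localDim_le_dim _

theorem dim_fiber_le_of_isOpenAt [IsLocallyNoetherian Y] {y y' : Y} (hy' : y' ⤳ y)
    (h : ∀ x : X, f.base x = y → EGA43.IsOpenAt f.base x) :
    topologicalKrullDim ↥(f.fiber y) ≤ topologicalKrullDim ↥(f.fiber y') := by
  rw [dim_fiber_eq_iSup_max, dim_fiber_eq_iSup_max]
  refine iSup₂_le fun z hz => ?_
  obtain ⟨hzy, hmax⟩ := hz
  subst hzy
  obtain ⟨ξ, hξ, -, hξmax, hd⟩ := exists_generization_of_isOpenAt f hmax (h z rfl) hy'
  exact hd ▸ le_iSup₂ (f := fun z _ => FlatMor.fibreDimAt f z) ξ ⟨hξ, hξmax⟩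

end Groth.FibreDim

namespace Groth.FibreDim

theorem mem_nhds_of_isLocallyConstructible {Y : Scheme.{u}} {E : Set Y} (hE : IsLocallyConstructible E)
    {y : Y} (h : ∀ y' : Y, y' ⤳ y → y' ∈ E) : E ∈ 𝓝 y := by
  obtain ⟨W, hW, hyW, -⟩ := exists_isAffineOpen_mem_and_subset (U := ⊤) (Set.mem_univ y)
  obtain ⟨p, rfl⟩ : y ∈ Set.range hW.fromSpec.base := hW.range_fromSpec.ge hyW
  have hc : IsConstructible (X := PrimeSpectrum Γ(Y, W)) (hW.fromSpec.base ⁻¹' E) :=
    (hE.preimage_of_isOpenEmbedding hW.fromSpec.isOpenEmbedding).isConstructible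
  exact Filter.mem_of_superset (hW.fromSpec.isOpenEmbedding.isOpenMap.image_mem_nhds
    (Groth.EGA43Topo.mem_nhds_of_isConstructible hc (p := p) fun q hq =>
      h _ (hq.map hW.fromSpec.continuous))) (Set.image_preimage_subset _ _)

end Groth.FibreDim

namespace Groth.FibreDim

variable {X Y : Scheme.{u}} (f : X ⟶ Y)

theorem dim_closure_inter_fibre [LocallyOfFiniteType f] (ξ : X) :
    topologicalKrullDim ↥(closure ({ξ} : Set X) ∩ f.base ⁻¹' {f.base ξ}) =
      (Order.height (f.asFiber ξ) : ℕ∞) := by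
  haveI : LocallyOfFiniteType (f.fiberToSpecResidueField (f.base ξ)) :=
    inferInstanceAs (LocallyOfFiniteType (pullback.snd f (Y.fromSpecResidueField (f.base ξ))))
  have he := (f.fiberι (f.base ξ)).isEmbedding
  have hr : Set.range ((f.fiberι (f.base ξ)).base ∘ (Subtype.val : ↥(closure {f.asFiber ξ}) → _)) =
      closure ({ξ} : Set X) ∩ f.base ⁻¹' {f.base ξ} := by
    rw [Set.range_comp, Subtype.range_coe, he.closure_eq_preimage_closure_image,
      Set.image_preimage_eq_inter_range, Set.image_singleton, f.fiberι_asFiber, f.range_fiberι]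
  rw [← Groth.Variety2.Dim.dim_closure_singleton]
  exact ((he.comp IsEmbedding.subtypeVal).toHomeomorph.trans
    (Homeomorph.setCongr hr)).isHomeomorph.topologicalKrullDim_eq.symm

theorem dense_image_of_isMax [IrreducibleSpace Y] {ξ : X} (h : IsMax (f.base ξ)) :
    Dense (f.base '' closure {ξ}) := by
  have h1 := eq_genericPoint_of_isMax h
  intro w
  exact closure_mono (Set.singleton_subset_iff.2 (Set.mem_image_of_mem f.base (subset_closure rfl) : f.base ξ ∈ f.base '' closure {ξ}))
    (specializes_iff_mem_closure.1 (h1 ▸ genericPoint_specializes w))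

lemma mem_irreducibleComponents_of_isMax {Z : Scheme.{u}} {ξ : Z} (h : IsMax ξ) :
    closure {ξ} ∈ irreducibleComponents (Z : Type u) := by
  rw [Groth.PropsBasic2.closure_mem_irreducibleComponents_iff]
  exact fun z hz => (hz.antisymm (h hz)).eq

/-- Local dimension of `closure {ξ}` inside a fibre at a maximal point. -/
theorem localDim_closure_inter_fibre [LocallyOfFiniteType f] {ξ ζ : X} (hξ : ξ ⤳ ζ)
    (hζ : ∀ z', f.base z' = f.base ζ → z' ⤳ ζ → z' = ζ)
    (h : ζ ∈ closure ({ξ} : Set X) ∩ f.base ⁻¹' {f.base ζ}) :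
    FlatMor.localDim ↥(closure ({ξ} : Set X) ∩ f.base ⁻¹' {f.base ζ}) ⟨ζ, h⟩ =
      (Order.height (f.asFiber ζ) : ℕ∞) := by
  obtain ⟨X', Y', i, j, g, _, _, _, _, _, _, hg, _, _, hi, hj⟩ := exists_restrict f ξ
  obtain ⟨ζ', hζ'⟩ : ζ ∈ Set.range i.base := hi.ge (specializes_iff_mem_closure.1 hξ)
  have hcomm : ∀ w : X', f.base (i.base w) = j.base (g.base w) := fun w => by
    rw [← Scheme.Hom.comp_apply, ← hg, Scheme.Hom.comp_apply]
  subst hζ'
  have hr : Set.range (i.base ∘ (g.fiberι (g.base ζ')).base) =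
      closure ({ξ} : Set X) ∩ f.base ⁻¹' {f.base (i.base ζ')} := by
    rw [Set.range_comp, g.range_fiberι]
    ext w
    constructor
    · rintro ⟨v, hv, rfl⟩
      exact ⟨hi.le ⟨v, rfl⟩, by
        rw [Set.mem_preimage, Set.mem_singleton_iff, hcomm, hcomm]; exact congrArg _ hv⟩
    · rintro ⟨hw, hwy⟩
      obtain ⟨v, rfl⟩ := hi.ge hw
      exact ⟨v, j.isEmbedding.injective (by rw [← hcomm, ← hcomm]; exact hwy), rfl⟩
  rw [← localDim_eq_of_range (i.isEmbedding.comp (g.fiberι _).isEmbedding) IsEmbedding.subtypeVal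
    (hr.trans Subtype.range_coe.symm) (a := g.asFiber ζ') (by
      show i.base ((g.fiberι _).base (g.asFiber ζ')) = _
      rw [g.fiberι_asFiber])]
  show FlatMor.fibreDimAt g ζ' = _
  obtain ⟨h1, h2⟩ := height_asFiber_restrict f i j g hg ζ'
  have h0 : Order.coheight (f.asFiber (i.base ζ')) = 0 :=
    Order.coheight_eq_zero.2 ((isMax_asFiber_iff f _).2 hζ)
  rw [h0, nonpos_iff_eq_zero] at h2
  rw [fibreDimAt_eq_height_add, ringKrullDim_stalk_eq_coheight, h1, h2]
  simp

end Groth.FibreDim
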