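import Groth.Agent.FibreDim.Component
import Groth.Agent.FibreDim.BaseChange
import Groth.Agent.PropsBasic2.SchTop

/-!
# Corollaries of the dimension formula along components
-/

universe u

open CategoryTheory CategoryTheory.Limits AlgebraicGeometry TopologicalSpace Topology

namespace Groth.FibreDim

variable {X Y : Scheme.{u}} (f : X ⟶ Y) [LocallyOfFiniteType f]

lemma exists_fibre_quantities (x : X) : ∃ t e : ℕ,
    Order.height (f.asFiber x) = t ∧ Order.coheight (f.asFiber x) = e ∧
      ringKrullDim ((f.fiber (f.base x)).presheaf.stalk (f.asFiber x)) = e ∧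
      FlatMor.fibreDimAt f x = (t + e : ℕ) := by
  haveI : LocallyOfFiniteType (f.fiberToSpecResidueField (f.base x)) :=
    inferInstanceAs (LocallyOfFiniteType (pullback.snd f (Y.fromSpecResidueField (f.base x))))
  haveI : IsLocallyNoetherian (f.fiber (f.base x)) :=
    LocallyOfFiniteType.isLocallyNoetherian (f.fiberToSpecResidueField (f.base x))
  obtain ⟨t, -, ht⟩ := exists_relTrdeg_eq_height f x
  obtain ⟨e, he⟩ := exists_coheight_eq_natCast (f.asFiber x)
  refine ⟨t, e, ht, he, by rw [ringKrullDim_stalk_eq_coheight, he]; rfl, ?_⟩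
  rw [fibreDimAt_eq_height_add, ringKrullDim_stalk_eq_coheight, ht, he]
  push_cast
  rfl

/-- A generic point of a component of the fibre through `x` of maximal dimension. -/
theorem exists_maximal_fibre_point (x : X) : ∃ z : X, f.base z = f.base x ∧ z ⤳ x ∧
    Order.coheight (f.asFiber z) = 0 ∧
      ((Order.height (f.asFiber z) : ℕ∞) : WithBot ℕ∞) = FlatMor.fibreDimAt f x := by
  haveI : LocallyOfFiniteType (f.fiberToSpecResidueField (f.base x)) :=
    inferInstanceAs (LocallyOfFiniteType (pullback.snd f (Y.fromSpecResidueField (f.base x))))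
  obtain ⟨η, hη, hηd⟩ := exists_height_eq_localDim (k := Y.residueField (f.base x))
    (f.fiberToSpecResidueField (f.base x)) (f.asFiber x)
  have hmax : Order.coheight η = 0 := by
    rw [Order.coheight_eq_zero]
    intro w hw
    by_contra hc
    have h1 := Order.height_add_one_le (lt_of_le_not_ge hw hc)
    have h2 : ((Order.height w : ℕ∞) : WithBot ℕ∞) ≤ FlatMor.localDim _ (f.asFiber x) :=
      (height_le_localDim (k := Y.residueField (f.base x)) (f.fiberToSpecResidueField (f.base x)) w).trans (by
        refine le_iInf fun U => ?_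
        exact Groth.SpectralTopology.localDim_le_of_mem
          ((Specializes.trans (show w ⤳ η from hw) hη).mem_open U.1.isOpen U.2))
    rw [← hηd, WithBot.coe_le_coe] at h2
    obtain ⟨n, -, hn⟩ := exists_relTrdeg_eq_height (f.fiberToSpecResidueField (f.base x)) η
    have h3 := (h1.trans h2)
    have hne : Order.height η ≠ ⊤ := fun htop => by
      obtain ⟨t, e, -, -, -, hfd⟩ := exists_fibre_quantities f x
      rw [htop, show FlatMor.localDim _ (f.asFiber x) = FlatMor.fibreDimAt f x from rfl, hfd] at hηd
      exact absurd (WithBot.coe_inj.1 hηd).symm (ENat.coe_ne_top _)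
    exact absurd ((ENat.add_one_le_iff hne).1 h3) (lt_irrefl _)
  refine ⟨(f.fiberι _).base η, apply_fiberι f _ η, ?_, ?_⟩
  · have := hη.map (f.fiberι (f.base x)).continuous
    rwa [f.fiberι_asFiber] at this
  · suffices key : ∀ (y : Y) (_ : f.base ((f.fiberι (f.base x)).base η) = y) (w : f.fiber y),
        (f.fiberι y).base w = (f.fiberι (f.base x)).base η →
          Order.coheight w = Order.coheight (f.asFiber ((f.fiberι (f.base x)).base η)) ∧
            Order.height w = Order.height (f.asFiber ((f.fiberι (f.base x)).base η)) by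
      obtain ⟨h1, h2⟩ := key _ (apply_fiberι f _ η) η rfl
      exact ⟨h1.symm.trans hmax, by rw [← h2]; exact hηd⟩
    rintro _ rfl w hw
    rw [(f.fiberι _).isEmbedding.injective (hw.trans (f.fiberι_asFiber _).symm)]
    exact ⟨rfl, rfl⟩

lemma eq_genericPoint_of_isMax [IrreducibleSpace Y] {y : Y} (h : IsMax y) : y = genericPoint Y :=
  ((genericPoint_specializes y).antisymm (h (genericPoint_specializes y))).eq.symm

/-- The dimension formula propagates from the generic points of a fibre. -/
theorem stalk_dim_eq_add_of_forall_generic [IrreducibleSpace Y] [IsLocallyNoetherian Y] (x : X)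
    (hcat : CAlg.IsUniversallyCatenary (Y.presheaf.stalk (f.base x)))
    (hgen : ∀ z : X, f.base z = f.base x → Order.coheight (f.asFiber z) = 0 →
      Order.coheight z = Order.coheight (f.base z)) :
    Order.coheight (f.base x) + Order.coheight (f.asFiber x) ≤ Order.coheight x := by
  haveI : IsLocallyNoetherian X := LocallyOfFiniteType.isLocallyNoetherian f
  obtain ⟨z, hzy, hzx, hz0, hzd⟩ := exists_maximal_fibre_point f x
  obtain ⟨s, hs, hslen, hsmax⟩ := exists_series_maximal z
  have hξz : s.last ⤳ z := by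
    have : s.head ≤ s.last := s.head_le_last
    rwa [hs] at this
  obtain ⟨tz, t₀, a, b, htz, ht₀, hle, heq, -, hchain, hb, hbmax, hball, ht₀le, -, -⟩ :=
    exists_dim_formula_along f hξz
  obtain ⟨B, hB⟩ := exists_coheight_eq_natCast (f.base z)
  have haB : B ≤ a := by
    have h1 := hgen z hzy hz0
    rw [hB, ← hslen, Nat.cast_inj] at h1
    exact h1 ▸ hchain s hs.ge le_rfl
  rw [hz0, add_zero, Nat.cast_le] at ht₀le
  rw [hB, Nat.cast_le] at hb
  have hmax : IsMax (f.base s.last) := by
    by_contra hc
    have h2 := hbmax hc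
    rw [hB, Nat.cast_le] at h2
    omega
  have hη := eq_genericPoint_of_isMax hmax
  have hallw : ∀ w : Y, w ≤ f.base s.last := fun w => hη ▸ genericPoint_specializes w
  obtain ⟨tx, t₁, a', b', htx, ht₁, -, heq', ha', -, -, -, hball', -, -, -⟩ :=
    exists_dim_formula_along f (hξz.trans hzx)
  rw [ht₀, Nat.cast_inj] at ht₁
  have hbB : (b' : ℕ∞) = Order.coheight (f.base x) := hball' fun w _ => hallw w
  obtain ⟨t, e, ht, he, -, hfd⟩ := exists_fibre_quantities f x
  rw [ht, Nat.cast_inj] at htx
  rw [hfd, htz] at hzd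
  have hte : tz = t + e := by exact_mod_cast hzd
  rw [hzy] at hB
  rw [hB, Nat.cast_inj] at hbB
  have h3 := heq' hcat
  have h4 := heq (hzy ▸ hcat)
  rw [hB, he]
  refine le_trans ?_ ha'
  norm_cast
  omega

/-- Bound on the fibre through `x` by the generic fibres of the components through `x`. -/
theorem exists_component_fibreDimAt_le [IsLocallyNoetherian Y] (x : X) :
    ∃ (ξ : X) (t t₀ B : ℕ), IsMax ξ ∧ ξ ⤳ x ∧ FlatMor.fibreDimAt f x = t ∧
      FlatMor.fibreDimAt f ξ ≥ t₀ ∧ Order.coheight (f.base x) = B ∧
      ((f.base ξ = f.base x ∧ t ≤ t₀) ∨ (f.base ξ ≠ f.base x ∧ t + 1 ≤ B + t₀)) := by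
  haveI : IsLocallyNoetherian X := LocallyOfFiniteType.isLocallyNoetherian f
  obtain ⟨z, hzy, hzx, hz0, hzd⟩ := exists_maximal_fibre_point f x
  obtain ⟨s, hs, hslen, hsmax⟩ := exists_series_maximal z
  have hξz : s.last ⤳ z := by
    have : s.head ≤ s.last := s.head_le_last
    rwa [hs] at this
  obtain ⟨tz, t₀, a, b, htz, ht₀, hle, -, -, hchain, hb, -, -, -, -, -⟩ := exists_dim_formula_along f hξz
  obtain ⟨B, hB⟩ := exists_coheight_eq_natCast (f.base x)
  obtain ⟨t', e', ht', -, -, hfd'⟩ := exists_fibre_quantities f s.last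
  rw [hzy, hB, Nat.cast_le] at hb
  refine ⟨s.last, tz, t₀, B, hsmax, hξz.trans hzx, by rw [← hzd, htz]; rfl, ?_, hB, ?_⟩
  · rw [ht₀, Nat.cast_inj] at ht'
    rw [hfd', ht']
    exact_mod_cast Nat.le_add_right t' e'
  · by_cases hc : f.base s.last = f.base x
    · refine Or.inl ⟨hc, ?_⟩
      suffices hz : z = s.last by
        subst hz
        rw [htz, Nat.cast_inj] at ht₀
        omega
      by_contra hne
      obtain ⟨v, hv⟩ : s.last ∈ Set.range (f.fiberι (f.base z)).base := by
        rw [f.range_fiberι]; exact hc.trans hzy.symm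
      have hlt : f.asFiber z < v := by
        refine lt_of_le_not_ge ?_ fun h' => hne ?_
        · rw [← le_iff_of_isEmbedding _ (f.fiberι _).isEmbedding, hv, f.fiberι_asFiber]; exact hξz
        · rw [← le_iff_of_isEmbedding _ (f.fiberι _).isEmbedding, hv, f.fiberι_asFiber] at h'
          exact (Specializes.antisymm (show z ⤳ s.last from h') hξz).eq
      exact absurd hlt (Order.coheight_eq_zero.1 hz0).not_lt
    · refine Or.inr ⟨hc, ?_⟩
      have hne : z < s.last := lt_of_le_not_ge hξz fun h' => hc (by
        rw [← (Specializes.antisymm (show z ⤳ s.last from h') hξz).eq, hzy])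
      have := hchain ((RelSeries.singleton _ z).snoc s.last hne) (by simp) (by simp)
      simp at this
      omega

end Groth.FibreDim

namespace Groth.FibreDim

/-- The same bound, needing only that the local ring at the image be Noetherian. -/
theorem exists_component_fibreDimAt_le_stalk {X Y : Scheme.{u}} (f : X ⟶ Y) [LocallyOfFiniteType f]
    (x : X) [IsNoetherianRing (Y.presheaf.stalk (f.base x))] :
    ∃ (Z : Set X) (η : X) (t t₀ B : ℕ), Z ∈ irreducibleComponents (X : Type u) ∧ x ∈ Z ∧
      IsGenericPoint η Z ∧ FlatMor.fibreDimAt f x = t ∧ FlatMor.fibreDimAt f η ≥ t₀ ∧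
      ringKrullDim (Y.presheaf.stalk (f.base x)) = B ∧
      ((f.base η = f.base x ∧ t ≤ t₀) ∨ (f.base η ≠ f.base x ∧ t + 1 ≤ B + t₀)) := by
  let c := Y.fromSpecStalk (f.base x)
  let g := pullback.snd f c
  let φ := pullback.fst f c
  have hc : IsPullback φ g f c := IsPullback.of_hasPullback _ _
  haveI : LocallyOfFiniteType g := inferInstanceAs (LocallyOfFiniteType (pullback.snd f c))
  obtain ⟨x₀, hx₀⟩ : x ∈ Set.range φ.base := by
    rw [Scheme.Pullback.range_fst]
    show f.base x ∈ Set.range c.base
    rw [Scheme.range_fromSpecStalk]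
    exact specializes_rfl
  obtain ⟨ξ, t, t₀, B, hmax, hξx, ht, ht₀, hB, hcases⟩ := exists_component_fibreDimAt_le g x₀
  have hcomm : ∀ w, f.base (φ.base w) = c.base (g.base w) := fun w => by
    rw [← Scheme.Hom.comp_apply, pullback.condition, Scheme.Hom.comp_apply]
  rw [fibreDimAt_baseChange f c g φ hc, hx₀] at ht
  rw [fibreDimAt_baseChange f c g φ hc] at ht₀
  have hmaxX : IsMax (φ.base ξ) := fun w hw => by
    have hle : φ.base ξ ≤ w := hw
    obtain ⟨w₀, rfl⟩ : w ∈ Set.range φ.base := by
      rw [Scheme.Pullback.range_fst]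
      show f.base w ∈ Set.range c.base
      rw [Scheme.range_fromSpecStalk]
      exact ((show w ⤳ φ.base ξ from hw).trans ((hξx.map φ.continuous).trans (specializes_of_eq hx₀) : φ.base ξ ⤳ x)).map f.continuous
    exact (le_iff_of_isEmbedding φ φ.isEmbedding _ _).2
      (hmax ((le_iff_of_isEmbedding φ φ.isEmbedding _ _).1 hle))
  refine ⟨closure {φ.base ξ}, φ.base ξ, t, t₀, B, ?_, ?_, isGenericPoint_closure, ht, ht₀, ?_, ?_⟩
  · rw [Groth.PropsBasic2.closure_mem_irreducibleComponents_iff]
    exact fun z hz => (hz.antisymm (hmaxX hz)).eq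
  · exact specializes_iff_mem_closure.1 ((hξx.map φ.continuous).trans (specializes_of_eq hx₀) : φ.base ξ ⤳ x)
  · have hy : c.base (g.base x₀) = f.base x := by rw [← hcomm, hx₀]
    have e := (le_antisymm
      (Order.coheight_le_coheight_apply_of_strictMono c.base (strictMono_of_isEmbedding c c.isEmbedding)
        (g.base x₀))
      (Order.coheight_le fun s hs => by
        have hr : ∀ k, s.toFun k ∈ Set.range c.base := fun k => by
          rw [Scheme.range_fromSpecStalk]
          have h1 : c.base (g.base x₀) ≤ s.toFun k := hs.ge.trans (s.monotone (Fin.zero_le k))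
          rw [hy] at h1
          exact h1
        choose q hq using hr
        let s' : LTSeries (Spec (Y.presheaf.stalk (f.base x))) := LTSeries.mk s.length q fun k l hkl => by
          have hkl := s.strictMono hkl
          rw [← hq k, ← hq l] at hkl
          exact lt_of_le_not_ge ((le_iff_of_isEmbedding c c.isEmbedding _ _).1 hkl.le)
            fun h' => hkl.not_ge ((le_iff_of_isEmbedding c c.isEmbedding _ _).2 h')
        refine Order.length_le_coheight (p := s') ?_
        show g.base x₀ ≤ q 0
        rw [← le_iff_of_isEmbedding c c.isEmbedding, hq]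
        exact hs.ge))
    rw [ringKrullDim_stalk_eq_coheight, ← hy, ← e, hB]
    rfl
  · rcases hcases with ⟨h1, h2⟩ | ⟨h1, h2⟩
    · exact Or.inl ⟨by rw [hcomm, h1, ← hcomm, hx₀], h2⟩
    · refine Or.inr ⟨fun h' => h1 (c.isEmbedding.injective ?_), h2⟩
      rw [← hcomm, h', ← hcomm, hx₀]

end Groth.FibreDim
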