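import Groth.Agent.FibreDim.DimensionFormulaScheme
import Groth.Agent.FibreDim.DimStalk

/-!
# Consequences of the dimension formula
-/

universe u

open CategoryTheory CategoryTheory.Limits AlgebraicGeometry TopologicalSpace Topology

namespace Groth.FibreDim

lemma exists_ringKrullDim_eq_natCast (R : Type u) [CommRing R] [IsLocalRing R] [IsNoetherianRing R] :
    ∃ n : ℕ, ringKrullDim R = n := by
  obtain ⟨n, hn⟩ := (IsLocalRing.maximalIdeal R).height_ne_top_of_isPrime |> ENat.ne_top_iff_exists.1
  exact ⟨n, by rw [← IsLocalRing.maximalIdeal_height_eq_ringKrullDim, ← hn]; rfl⟩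

variable {X Y : Scheme.{u}} (f : X ⟶ Y) [LocallyOfFiniteType f]

theorem fibreDimAt_eq_height_add (x : X) :
    FlatMor.fibreDimAt f x = (Order.height (f.asFiber x) : ℕ∞) +
      ringKrullDim ((f.fiber (f.base x)).presheaf.stalk (f.asFiber x)) := by
  letI : (f.fiber (f.base x)).Over (Spec (CommRingCat.of (Y.residueField (f.base x)))) :=
    ⟨f.fiberToSpecResidueField _⟩
  haveI : LocallyOfFiniteType ((f.fiber (f.base x)) ↘ Spec (CommRingCat.of (Y.residueField (f.base x)))) :=
    inferInstanceAs (LocallyOfFiniteType (pullback.snd f (Y.fromSpecResidueField (f.base x))))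
  exact Groth.VarietyBC.localDim_eq_height_add (Y.residueField (f.base x)) (f.asFiber x)

/-- The dimension formula with all the quantities natural numbers. -/
theorem exists_dim_formula_nat [IrreducibleSpace X] [IrreducibleSpace Y] [IsLocallyNoetherian Y]
    [IsDominant f] (x : X) :
    ∃ a b e t t₀ : ℕ, ringKrullDim (X.presheaf.stalk x) = a ∧
      ringKrullDim (Y.presheaf.stalk (f.base x)) = b ∧
      ringKrullDim ((f.fiber (f.base x)).presheaf.stalk (f.asFiber x)) = e ∧
      FlatMor.fibreDimAt f x = (t + e : ℕ) ∧ topologicalKrullDim ↥(f.fiber (genericPoint Y)) = t₀ ∧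
      t₀ ≤ t + e ∧ a + t ≤ b + t₀ ∧
      (CAlg.IsUniversallyCatenary (Y.presheaf.stalk (f.base x)) → a + t = b + t₀) := by
  haveI : IsLocallyNoetherian X := LocallyOfFiniteType.isLocallyNoetherian f
  haveI : LocallyOfFiniteType (f.fiberToSpecResidueField (f.base x)) :=
    inferInstanceAs (LocallyOfFiniteType (pullback.snd f (Y.fromSpecResidueField (f.base x))))
  haveI : IsLocallyNoetherian (f.fiber (f.base x)) :=
    LocallyOfFiniteType.isLocallyNoetherian (f.fiberToSpecResidueField (f.base x))
  obtain ⟨t, t₀, -, ht, -, ht₀, hle, heq⟩ := exists_dim_formula f x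
  obtain ⟨a, ha⟩ := exists_ringKrullDim_eq_natCast (X.presheaf.stalk x)
  obtain ⟨b, hb⟩ := exists_ringKrullDim_eq_natCast (Y.presheaf.stalk (f.base x))
  obtain ⟨e, he⟩ := exists_ringKrullDim_eq_natCast ((f.fiber (f.base x)).presheaf.stalk (f.asFiber x))
  have hfd : FlatMor.fibreDimAt f x = (t + e : ℕ) := by
    rw [fibreDimAt_eq_height_add, ht, he]
    push_cast
    rfl
  refine ⟨a, b, e, t, t₀, ha, hb, he, hfd, ht₀, ?_, ?_, fun hc => ?_⟩
  · have := dim_generic_fiber_le f x
    rw [ht₀, hfd] at this
    exact_mod_cast this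
  · rw [ha, hb] at hle
    exact_mod_cast hle
  · have := heq hc
    rw [ha, hb] at this
    exact_mod_cast this

end Groth.FibreDim
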