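import Groth.Agent.FibreDim.TrdegValuation
import Groth.Agent.FibreDim.Retrocompact
import Mathlib.AlgebraicGeometry.Morphisms.Flat

/-!
# Fibre dimension of flat morphisms does not drop under generalization
-/

universe u

open CategoryTheory CategoryTheory.Limits AlgebraicGeometry TopologicalSpace Topology

namespace Groth.FibreDim

variable {X S : Scheme.{u}} (f : X ⟶ S) [LocallyOfFiniteType f]

/-- The height of a point in its fibre is the transcendence degree of its residue field. -/
theorem exists_relTrdeg_eq_height (x : X) : ∃ n : ℕ,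
    Groth.Variety2.Dim.relTrdeg f x = n ∧ Order.height (f.asFiber x) = n := by
  suffices key : ∀ (y : S) (z : f.fiber y), ∃ n : ℕ,
      Groth.Variety2.Dim.relTrdeg f ((f.fiberι y).base z) = n ∧ Order.height z = n by
    have := key _ (f.asFiber x)
    rwa [f.fiberι_asFiber] at this
  intro y z
  set x := (f.fiberι y).base z with hx
  have hy : y = f.base x := (apply_fiberι f y z).symm
  let q := f.fiberToSpecResidueField y
  obtain ⟨n, hn, hn'⟩ := Groth.Variety2.Dim.exists_trdegAt_eq_height (k := S.residueField y) q z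
  refine ⟨n, ?_, hn'⟩
  let ι := (f.fiberι y).residueFieldMap z
  have hbij : Function.Bijective ι.hom :=
    ⟨ι.hom.injective, Groth.Variety2.Dim.residueFieldMap_surjective (f.fiberι y) z⟩
  let σ := (S.residueFieldCongr hy).hom
  have hσ : Function.Bijective σ.hom := (ConcreteCategory.bijective_of_isIso σ)
  have h : CommRingCat.ofHom (Groth.Variety2.Dim.resHom (k := S.residueField y) q z) =
      σ ≫ f.residueFieldMap x ≫ ι := by
    apply Spec.map_injective
    rw [Spec.map_comp, Spec.map_comp, Groth.Variety2.Dim.resHom_spec, ← cancel_mono (S.fromSpecResidueField y)]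
    simp only [Category.assoc, σ, Scheme.residueFieldCongr_fromSpecResidueField]
    rw [Scheme.Hom.SpecMap_residueFieldMap_fromSpecResidueField,
      reassoc_of% ((f.fiberι y).SpecMap_residueFieldMap_fromSpecResidueField z), fiberι_comp f y]
  let := (Groth.Variety2.Dim.resHom (k := S.residueField y) q z).toAlgebra
  let := (f.residueFieldMap x).hom.toAlgebra
  let := (ι.hom.comp (f.residueFieldMap x).hom).toAlgebra
  let := σ.hom.toAlgebra
  have : IsScalarTower (S.residueField y) (S.residueField (f.base x)) ((f.fiber y).residueField z) :=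
    IsScalarTower.of_algebraMap_eq fun c => congr($(congrArg CommRingCat.Hom.hom h) c)
  have : Algebra.IsAlgebraic (S.residueField y) (S.residueField (f.base x)) :=
    ⟨fun c => by
      obtain ⟨d, rfl⟩ := hσ.2 c
      exact isAlgebraic_algebraMap (R := S.residueField y) (A := S.residueField (f.base x)) d⟩
  let e : X.residueField x ≃ₐ[S.residueField (f.base x)] (f.fiber y).residueField z :=
    AlgEquiv.ofBijective ⟨ι.hom, fun _ => rfl⟩ hbij
  have h0 := trdeg_add_eq (S.residueField y) (S.residueField (f.base x)) (A := (f.fiber y).residueField z)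
  rw [trdeg_eq_zero, zero_add, ← e.trdeg_eq] at h0
  exact h0.trans hn

omit [LocallyOfFiniteType f] in
/-- Along a specialization from the generic to the closed fibre over a valuation ring the relative
transcendence degree does not increase. -/
theorem relTrdeg_le_of_valuation {V : Type u} [CommRing V] [IsDomain V] [ValuationRing V]
    {Z : Scheme.{u}} (h : Z ⟶ Spec (CommRingCat.of V)) {x' x : Z} (hsp : x' ⤳ x)
    (hgen : h.base x' = (⟨⊥, Ideal.isPrime_bot⟩ : PrimeSpectrum V))
    (hcl : h.base x = IsLocalRing.closedPoint V) :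
    Groth.Variety2.Dim.relTrdeg h x ≤ Groth.Variety2.Dim.relTrdeg h x' := by
  obtain ⟨W, hW, hxW, -⟩ := exists_isAffineOpen_mem_and_subset (U := ⊤) (Set.mem_univ x)
  have hx'W : x' ∈ W := hsp.mem_open W.isOpen hxW
  let S := Spec (CommRingCat.of V)
  have hT : W ≤ h ⁻¹ᵁ ⊤ := le_top
  let γ := (Scheme.ΓSpecIso (CommRingCat.of V)).inv
  let χ : CommRingCat.of V ⟶ S.residueField (h.base x') := γ ≫ S.evaluation ⊤ _ trivial
  let ρ : CommRingCat.of V ⟶ S.residueField (h.base x) := γ ≫ S.evaluation ⊤ _ trivial
  have hγ : Function.Surjective γ.hom := (ConcreteCategory.bijective_of_isIso γ).2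
  have hmem : ∀ (p : S) (v : V), S.evaluation ⊤ p trivial (γ v) = 0 ↔ v ∈ PrimeSpectrum.asIdeal p := fun p v => by
    rw [Scheme.evaluation_eq_zero_iff_notMem_basicOpen]
    rw [show S.basicOpen (γ v) = PrimeSpectrum.basicOpen v from basicOpen_eq_of_affine (R := CommRingCat.of V) v]
    exact not_not
  have hχ : Function.Injective χ.hom := (injective_iff_map_eq_zero _).2 fun v hv => by
    have := (hmem _ v).1 hv
    rw [hgen] at this
    exact this
  have hfrac : ∀ (p : S) (w : S.residueField p), ∃ a b : V,
      S.evaluation ⊤ p trivial (γ b) ≠ 0 ∧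
        w = S.evaluation ⊤ p trivial (γ a) / S.evaluation ⊤ p trivial (γ b) := fun p w => by
    obtain ⟨a, b, hb, rfl⟩ :=
      Groth.Variety2.Dim.exists_evaluation_eq_div (isAffineOpen_top S) (x := p) trivial w
    obtain ⟨a, rfl⟩ := hγ a
    obtain ⟨b, rfl⟩ := hγ b
    exact ⟨a, b, hb, rfl⟩
  have hρ : Function.Surjective ρ.hom := fun w => by
    obtain ⟨a, b, hb, rfl⟩ := hfrac _ w
    have hu : IsUnit b := by
      by_contra hb'
      refine hb ((hmem _ b).2 ?_)
      rw [hcl]
      exact hb'
    obtain ⟨c, rfl⟩ := hu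
    refine ⟨a * (↑c⁻¹ : V), ?_⟩
    change ρ.hom _ = ρ.hom a / ρ.hom (c : V)
    rw [map_mul, map_units_inv, div_eq_mul_inv]
  let j : CommRingCat.of V ⟶ Γ(Z, W) := γ ≫ h.appLE ⊤ W hT
  let := χ.hom.toAlgebra
  have : FaithfulSMul V (S.residueField (h.base x')) :=
    (faithfulSMul_iff_algebraMap_injective _ _).2 hχ
  have : IsFractionRing V (S.residueField (h.base x')) := IsFractionRing.of_field _ _ fun w => by
    obtain ⟨a, b, -, rfl⟩ := hfrac _ w
    exact ⟨a, b, rfl⟩
  let := (h.residueFieldMap x').hom.toAlgebra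
  let := (h.residueFieldMap x).hom.toAlgebra
  have hsq : ∀ (z : Z) (hz : z ∈ W), S.evaluation ⊤ (h.base z) trivial ≫ h.residueFieldMap z =
      h.appLE ⊤ W hT ≫ Z.evaluation W z hz := fun z hz => by
    apply Spec.map_injective
    rw [← cancel_mono (isAffineOpen_top S).fromSpec]
    simp only [Spec.map_comp, Category.assoc, SpecMap_evaluation (isAffineOpen_top S) _ trivial,
      Scheme.Hom.SpecMap_residueFieldMap_fromSpecResidueField,
      (isAffineOpen_top S).SpecMap_appLE_fromSpec h hW hT, reassoc_of% (SpecMap_evaluation hW z hz)]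
  refine trdeg_le_of_valuation (K := S.residueField (h.base x')) (k := S.residueField (h.base x))
    (L := Z.residueField x') (l := Z.residueField x) ρ.hom hρ j.hom (Z.evaluation W x' hx'W).hom
    (Z.evaluation W x hxW).hom (fun v => congr($(congrArg CommRingCat.Hom.hom (hsq x' hx'W)) (γ v)))
    (fun v => congr($(congrArg CommRingCat.Hom.hom (hsq x hxW)) (γ v))) ?_
    (Groth.Variety2.Dim.exists_evaluation_eq_div hW hxW)
  intro c hc
  rw [RingHom.mem_ker] at hc ⊢
  exact (Z.evaluation_eq_zero_iff_notMem_basicOpen x hxW c).2 fun hx =>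
    (Z.evaluation_eq_zero_iff_notMem_basicOpen x' hx'W c).1 hc (hsp.mem_open (Z.basicOpen c).isOpen hx)

omit [LocallyOfFiniteType f] in
/-- A specialization is the image of a valuation ring. -/
theorem exists_valuation_lift {s' s : S} (hsp : s' ⤳ s) :
    ∃ (V : Type u) (_ : CommRing V) (_ : IsDomain V) (_ : ValuationRing V)
      (g : Spec (CommRingCat.of V) ⟶ S), g.base (IsLocalRing.closedPoint V) = s ∧
        g.base (⟨⊥, Ideal.isPrime_bot⟩ : PrimeSpectrum V) = s' := by
  let θ : S.presheaf.stalk s ⟶ S.residueField s' := S.presheaf.stalkSpecializes hsp ≫ S.residue s'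
  obtain ⟨A, hA, hloc⟩ := IsLocalRing.exists_factor_valuationRing θ.hom
  let φ : S.presheaf.stalk s ⟶ CommRingCat.of A := CommRingCat.ofHom (θ.hom.codRestrict _ hA)
  haveI : IsLocalHom φ.hom := hloc
  refine ⟨A, inferInstance, inferInstance, inferInstance, Spec.map φ ≫ S.fromSpecStalk s, ?_, ?_⟩
  · rw [Scheme.Hom.comp_apply]
    have : (Spec.map φ).base (IsLocalRing.closedPoint A) = IsLocalRing.closedPoint _ :=
      IsLocalRing.comap_closedPoint φ.hom
    rw [this]
    exact Scheme.fromSpecStalk_closedPoint
  · have hcomp : Spec.map (CommRingCat.ofHom A.subtype) ≫ Spec.map φ ≫ S.fromSpecStalk s =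
        S.fromSpecResidueField s' := by
      rw [← Spec.map_comp_assoc, show φ ≫ CommRingCat.ofHom A.subtype = θ from rfl, Spec.map_comp,
        Category.assoc, Scheme.SpecMap_stalkSpecializes_fromSpecStalk]
      rfl
    have hbot : (Spec.map (CommRingCat.ofHom A.subtype)).base (IsLocalRing.closedPoint (S.residueField s')) =
        (⟨⊥, Ideal.isPrime_bot⟩ : PrimeSpectrum A) := by
      refine PrimeSpectrum.ext ?_
      show (IsLocalRing.maximalIdeal (S.residueField s')).comap A.subtype = ⊥
      rw [IsLocalRing.maximalIdeal_eq_bot, ← RingHom.ker_eq_comap_bot]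
      exact (RingHom.injective_iff_ker_eq_bot _).1 Subtype.val_injective
    rw [← hbot, ← Scheme.Hom.comp_apply, hcomp]
    exact Scheme.fromSpecResidueField_apply _ _

/-- **Lower semicontinuity along generalizations.** -/
theorem dim_fiber_le_of_specializes [Flat f] {s' s : S} (hsp : s' ⤳ s) :
    topologicalKrullDim ↥(f.fiber s) ≤ topologicalKrullDim ↥(f.fiber s') := by
  obtain ⟨V, _, _, _, g, hg, hg'⟩ := exists_valuation_lift hsp
  let h := pullback.snd f g
  haveI : LocallyOfFiniteType h := inferInstanceAs (LocallyOfFiniteType (pullback.snd f g))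
  haveI : Flat h := inferInstanceAs (Flat (pullback.snd f g))
  have hc := IsPullback.of_hasPullback f g
  rw [← hg, ← hg', ← dim_fiber_baseChange f g h (pullback.fst f g) hc,
    ← dim_fiber_baseChange f g h (pullback.fst f g) hc, Groth.Variety2.Dim.dim_eq_iSup_height]
  refine iSup_le fun z => ?_
  let x := (h.fiberι _).base z
  have hx : h.base x = IsLocalRing.closedPoint V := apply_fiberι h _ z
  have hbot : (⟨⊥, Ideal.isPrime_bot⟩ : PrimeSpectrum V) ⤳ h.base x := by
    rw [hx]
    exact IsLocalRing.specializes_closedPoint _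
  obtain ⟨x', hx', hx'e⟩ := Flat.generalizingMap h hbot
  obtain ⟨n, hn, hn'⟩ := exists_relTrdeg_eq_height h x
  obtain ⟨m, hm, hm'⟩ := exists_relTrdeg_eq_height h x'
  have hle := relTrdeg_le_of_valuation h hx' hx'e hx
  rw [hn, hm, Nat.cast_le] at hle
  obtain ⟨a, ha, ha'⟩ := Groth.Variety2.Dim.exists_trdegAt_eq_height
    (k := (Spec (CommRingCat.of V)).residueField _) (h.fiberToSpecResidueField _) z
  have hz : Order.height z = n := by
    have hkey : ∀ (y : Spec (CommRingCat.of V)) (_ : h.base x = y) (w : h.fiber y),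
        (h.fiberι y).base w = x → Order.height w = n := by
      rintro _ rfl w hw
      rw [show w = h.asFiber x from
        (h.fiberι _).isEmbedding.injective (hw.trans (h.fiberι_asFiber x).symm)]
      exact hn'
    exact hkey _ hx z rfl
  rw [hz]
  refine le_trans (WithBot.coe_le_coe.2 (Nat.cast_le.2 hle)) ?_
  rw [← hx'e, Groth.Variety2.Dim.dim_eq_iSup_height, ← hm']
  exact le_iSup (fun w => ((Order.height w : ℕ∞) : WithBot ℕ∞)) (h.asFiber x')

end Groth.FibreDim
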