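import Groth.Agent.FibreDim.DimensionFormula
import Groth.Agent.FibreDim.LowerSemicont
import Groth.Agent.Calg1.CatenaryLocal
import Groth.Agent.S9126

/-!
# The dimension formula for morphisms of schemes (EGA IV 5.6.5)
-/

universe u

open CategoryTheory CategoryTheory.Limits AlgebraicGeometry TopologicalSpace Topology
open Groth.SitesTopoi (chainCodim)

namespace Groth.FibreDim

/-- Additivity of heights needs only the localization to be catenary. -/
theorem height_quotient_add_local {P B : Type u} [CommRing P] [IsDomain P] [CommRing B] [IsDomain B]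
    (g : P →+* B) (hg : Function.Surjective g) (q : Ideal B) [q.IsPrime]
    (hcat : CAlg.IsCatenary (Localization.AtPrime (q.comap g))) :
    q.height + (RingHom.ker g).height = (q.comap g).height := by
  let M := (q.comap g).primeCompl
  let L := Localization.AtPrime (q.comap g)
  haveI : IsDomain L := IsLocalization.isDomain_of_atPrime L (q.comap g)
  haveI : (RingHom.ker g).IsPrime := RingHom.ker_isPrime g
  let eL := Groth.Calg1.localizationEmbedding M L
  have hord := Groth.Calg1.ordConnected_localizationEmbedding M L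
  let e : PrimeSpectrum B ↪o PrimeSpectrum P :=
    OrderEmbedding.ofMapLEIff (PrimeSpectrum.comap g) fun a b =>
      ⟨fun h => (Ideal.comap_le_comap_iff_of_surjective g hg _ _).1 h, fun h => Ideal.comap_mono h⟩
  have he : (Set.range e).OrdConnected := by
    show (Set.range (PrimeSpectrum.comap g)).OrdConnected
    rw [range_comap_of_surjective _ _ hg]
    exact ⟨fun a ha b _ c hc x hx => hc.1 (ha hx)⟩
  let q' : PrimeSpectrum P := ⟨q.comap g, inferInstance⟩
  let Q : PrimeSpectrum P := ⟨RingHom.ker g, inferInstance⟩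
  have hQ : Q = e ⊥ := PrimeSpectrum.ext (RingHom.ker_eq_comap_bot g)
  have hle : Q ≤ q' := Ideal.ker_le_comap g
  have hrange : ∀ a : PrimeSpectrum P, a ≤ q' → a ∈ Set.range eL := fun a ha => by
    rw [Groth.Calg1.range_localizationEmbedding]
    exact Set.disjoint_left.2 fun x hx hxa => hx (ha hxa)
  obtain ⟨a₀, ha₀⟩ := hrange ⊥ bot_le
  obtain ⟨a₁, ha₁⟩ := hrange Q hle
  obtain ⟨a₂, ha₂⟩ := hrange q' le_rfl
  have h01 : a₀ ≤ a₁ := eL.le_iff_le.1 (by rw [ha₀]; exact bot_le)
  have h12 : a₁ ≤ a₂ := eL.le_iff_le.1 (by rw [ha₁, ha₂]; exact hle)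
  have h := (Groth.SitesTopoi.catenary_iff_additive.1
    (Groth.PropsBasic.Cat.catAt_iff_catOrd.2 hcat)).2 a₀ a₁ a₂ h01 h12
  rw [← chainCodim_map eL hord, ← chainCodim_map eL hord a₀ a₁, ← chainCodim_map eL hord a₁ a₂,
    ha₀, ha₁, ha₂] at h
  have h1 : q.height = chainCodim Q q' := by
    rw [hQ]
    exact (height_eq_chainCodim (⟨q, inferInstance⟩ : PrimeSpectrum B)).trans
      (chainCodim_map e he ⊥ ⟨q, inferInstance⟩).symm
  rw [h1, show (RingHom.ker g).height = chainCodim ⊥ Q from height_eq_chainCodim Q,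
    show (q.comap g).height = chainCodim ⊥ q' from height_eq_chainCodim q', h, add_comm]

/-- Universal catenarity passes to essentially finite type local algebras. -/
theorem isUniversallyCatenary_atPrime {R S : Type u} [CommRing R] [CommRing S] [Algebra R S]
    [Algebra.EssFiniteType R S] (p : Ideal R) [p.IsPrime] (q : Ideal S) [q.IsPrime] [q.LiesOver p]
    (h : CAlg.IsUniversallyCatenary (Localization.AtPrime p)) :
    CAlg.IsUniversallyCatenary (Localization.AtPrime q) := by
  let φ := Localization.localRingHom p q (algebraMap R S) (q.over_def p)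
  letI := φ.toAlgebra
  haveI : IsScalarTower R (Localization.AtPrime p) (Localization.AtPrime q) :=
    IsScalarTower.of_algebraMap_eq fun r => by
      show algebraMap R (Localization.AtPrime q) r = φ (algebraMap R (Localization.AtPrime p) r)
      rw [Localization.localRingHom_to_map, ← IsScalarTower.algebraMap_apply]
  haveI : Algebra.EssFiniteType S (Localization.AtPrime q) :=
    Algebra.EssFiniteType.of_isLocalization (Localization.AtPrime q) q.primeCompl
  haveI : Algebra.EssFiniteType R (Localization.AtPrime q) := Algebra.EssFiniteType.comp R S _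
  haveI : Algebra.EssFiniteType (Localization.AtPrime p) (Localization.AtPrime q) :=
    Algebra.EssFiniteType.of_comp R _ _
  exact Groth.Agent.S9126.result (Localization.AtPrime p) (Localization.AtPrime q) h

theorem isUniversallyCatenary_of_ringEquiv {A B : Type u} [CommRing A] [CommRing B] (e : A ≃+* B)
    (h : CAlg.IsUniversallyCatenary A) : CAlg.IsUniversallyCatenary B := by
  letI := e.toRingHom.toAlgebra
  haveI : Algebra.FiniteType A B :=
    RingHom.finiteType_algebraMap.mp (RingHom.FiniteType.of_surjective _ e.surjective)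
  exact Groth.Agent.S9126.result A B h

/-- The dimension formula, assuming only the local ring universally catenary for equality. -/
theorem exists_trdeg_add_height_local {R : Type u} [CommRing R] [IsDomain R] [IsNoetherianRing R]
    {S : Type u} [CommRing S] [IsDomain S] [Algebra R S] [FaithfulSMul R S] [Algebra.FiniteType R S]
    (p : Ideal R) [p.IsPrime] (q : Ideal S) [q.IsPrime] [q.LiesOver p] :
    ∃ t t₀ : ℕ, Algebra.trdeg (R ⧸ p) (S ⧸ q) = t ∧ Algebra.trdeg R S = t₀ ∧
      q.height + t ≤ p.height + t₀ ∧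
      (CAlg.IsUniversallyCatenary (Localization.AtPrime p) → q.height + t = p.height + t₀) := by
  obtain ⟨t, t₀, ht, ht₀, hle, -⟩ := exists_trdeg_add_height p q
  refine ⟨t, t₀, ht, ht₀, hle, fun hcat => ?_⟩
  obtain ⟨n, g, hg⟩ := Algebra.FiniteType.iff_quotient_mvPolynomial''.mp ‹Algebra.FiniteType R S›
  haveI : (RingHom.ker g).IsPrime := RingHom.ker_isPrime g
  haveI : (q.comap g.toRingHom).LiesOver p := ⟨by
    rw [q.over_def p]; ext r
    show algebraMap R S r ∈ q ↔ g (algebraMap R (MvPolynomial (Fin n) R) r) ∈ q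
    rw [g.commutes]⟩
  have hker : ∀ r : R, MvPolynomial.C r ∈ RingHom.ker g → r = 0 := fun r hr => by
    have h : g (algebraMap R (MvPolynomial (Fin n) R) r) = 0 := hr
    rwa [g.commutes, map_eq_zero_iff _ (FaithfulSMul.algebraMap_injective R S)] at h
  obtain ⟨t', ht', hteq⟩ := exists_trdeg_mvPolynomial n p (q.comap g.toRingHom)
  obtain ⟨t₀', ht₀', ht₀eq⟩ := exists_trdeg_mvPolynomial_zero n (RingHom.ker g) hker
  let e : (MvPolynomial (Fin n) R ⧸ q.comap g.toRingHom) →ₐ[R ⧸ p] (S ⧸ q) :=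
    ⟨Ideal.quotientMap q g.toRingHom le_rfl, fun x => by
      obtain ⟨r, rfl⟩ := Ideal.Quotient.mk_surjective x
      exact congrArg (Ideal.Quotient.mk q) (g.commutes r)⟩
  rw [(AlgEquiv.ofBijective e ⟨Ideal.quotientMap_injective,
    Ideal.quotientMap_surjective (H := le_rfl) hg⟩).trdeg_eq, ht, Nat.cast_inj] at ht'
  rw [(Ideal.quotientKerAlgEquivOfSurjective hg).trdeg_eq, ht₀, Nat.cast_inj] at ht₀'
  subst ht' ht₀'
  have heq := height_quotient_add_local g.toRingHom hg q
    (isUniversallyCatenary_atPrime p (q.comap g.toRingHom) hcat |>.2 _ inferInstance)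
  obtain ⟨hp, hhp⟩ := ENat.ne_top_iff_exists.1 (Ideal.height_ne_top_of_isPrime (I := p))
  obtain ⟨hq, hhq⟩ := ENat.ne_top_iff_exists.1 (Ideal.height_ne_top_of_isPrime (I := q.comap g.toRingHom))
  obtain ⟨hK, hhK⟩ := ENat.ne_top_iff_exists.1 (Ideal.height_ne_top_of_isPrime (I := RingHom.ker g))
  haveI : IsNoetherianRing S := Algebra.FiniteType.isNoetherianRing R S
  obtain ⟨hs, hhs⟩ := ENat.ne_top_iff_exists.1 (Ideal.height_ne_top_of_isPrime (I := q))
  rw [← hhp, ← hhq] at hteq
  rw [← hhK] at ht₀eq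
  have hkk : (RingHom.ker g.toRingHom).height = (hK : ℕ∞) := hhK.symm
  rw [← hhs, hkk, ← hhq] at heq
  rw [← hhs, ← hhp]
  norm_cast at hteq ht₀eq heq ⊢
  omega

lemma height_map_mk_of_forall_le {R : Type u} [CommRing R] (η : Ideal R)
    (hη : ∀ p : PrimeSpectrum R, η ≤ p.asIdeal) (p : Ideal R) [p.IsPrime] :
    (p.map (Ideal.Quotient.mk η)).height = p.height := by
  let e : PrimeSpectrum (R ⧸ η) ≃o PrimeSpectrum R :=
    (Ideal.primeSpectrumQuotientOrderIsoZeroLocus η).trans
      ((OrderIso.setCongr (PrimeSpectrum.zeroLocus (η : Set R)) Set.univ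
        (Set.eq_univ_of_forall hη)).trans OrderIso.Set.univ)
  haveI : (p.map (Ideal.Quotient.mk η)).IsPrime :=
    Ideal.map_isPrime_of_surjective Ideal.Quotient.mk_surjective (by rw [Ideal.mk_ker]; exact hη ⟨p, inferInstance⟩)
  have he : e ⟨p.map (Ideal.Quotient.mk η), inferInstance⟩ = ⟨p, inferInstance⟩ := PrimeSpectrum.ext (by
    show (p.map (Ideal.Quotient.mk η)).comap (Ideal.Quotient.mk η) = p
    rw [Ideal.comap_map_of_surjective _ Ideal.Quotient.mk_surjective, ← RingHom.ker_eq_comap_bot, Ideal.mk_ker]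
    exact sup_of_le_left (hη ⟨p, inferInstance⟩))
  show (⟨p.map (Ideal.Quotient.mk η), inferInstance⟩ : PrimeSpectrum (R ⧸ η)).asIdeal.height =
    (⟨p, inferInstance⟩ : PrimeSpectrum R).asIdeal.height
  rw [PrimeSpectrum.height_eq_orderHeight, PrimeSpectrum.height_eq_orderHeight, ← he, Order.height_orderIso]

lemma quotient_algebraMap_injective {R S : Type u} [CommRing R] [CommRing S] [Algebra R S] (p : Ideal R)
    (q : Ideal S) [q.LiesOver p] : Function.Injective (algebraMap (R ⧸ p) (S ⧸ q)) := by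
  rw [injective_iff_map_eq_zero]
  intro a ha
  obtain ⟨a, rfl⟩ := Ideal.Quotient.mk_surjective a
  rw [Ideal.Quotient.eq_zero_iff_mem, q.over_def p]
  show algebraMap R S a ∈ q
  exact Ideal.Quotient.eq_zero_iff_mem.1 ha

/-- Transcendence degree of `S ⧸ q` over `R ⧸ p` computed in fields generated by them. -/
theorem trdeg_quotient_eq_of_eval {R S K L : Type u} [CommRing R] [CommRing S] [Algebra R S]
    [Field K] [Field L] [Algebra K L] (χ : R →+* K) (ψ : S →+* L)
    (hsq : ∀ r, algebraMap K L (χ r) = ψ (algebraMap R S r))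
    (p : Ideal R) (q : Ideal S) [p.IsPrime] [q.IsPrime] [q.LiesOver p]
    (hp : RingHom.ker χ = p) (hq : RingHom.ker ψ = q)
    (hχ : ∀ w, ∃ a b, χ b ≠ 0 ∧ w = χ a / χ b) (hψ : ∀ w, ∃ a b, ψ b ≠ 0 ∧ w = ψ a / ψ b) :
    Algebra.trdeg (R ⧸ p) (S ⧸ q) = Algebra.trdeg K L := by
  let χ' : R ⧸ p →+* K := Ideal.Quotient.lift p χ fun a ha => by rwa [← RingHom.mem_ker, hp]
  let ψ' : S ⧸ q →+* L := Ideal.Quotient.lift q ψ fun a ha => by rwa [← RingHom.mem_ker, hq]
  letI := χ'.toAlgebra
  letI := ψ'.toAlgebra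
  letI : Algebra (R ⧸ p) L := ((algebraMap K L).comp χ').toAlgebra
  haveI : IsScalarTower (R ⧸ p) K L := IsScalarTower.of_algebraMap_eq fun _ => rfl
  haveI : IsScalarTower (R ⧸ p) (S ⧸ q) L := IsScalarTower.of_algebraMap_eq fun a => by
    obtain ⟨a, rfl⟩ := Ideal.Quotient.mk_surjective a
    exact hsq a
  haveI : FaithfulSMul (R ⧸ p) K :=
    (faithfulSMul_iff_algebraMap_injective _ _).2 (RingHom.lift_injective_of_ker_le_ideal _ _ hp.le)
  haveI : IsFractionRing (R ⧸ p) K := IsFractionRing.of_field _ _ fun w => by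
    obtain ⟨a, b, -, rfl⟩ := hχ w
    exact ⟨Ideal.Quotient.mk p a, Ideal.Quotient.mk p b, rfl⟩
  refine trdeg_eq_of_fractions (D := R ⧸ p) (A := S ⧸ q) (K := K)
    (quotient_algebraMap_injective p q)
    (RingHom.lift_injective_of_ker_le_ideal _ _ hq.le) fun w => ?_
  obtain ⟨a, b, hb, rfl⟩ := hψ w
  refine ⟨Ideal.Quotient.mk q a, Ideal.Quotient.mk q b, fun h0 => hb ?_, ?_⟩
  · have : ψ' (Ideal.Quotient.mk q b) = 0 := by rw [h0, map_zero]
    exact this
  · exact div_mul_cancel₀ _ hb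

/-- The dimension formula for rings with irreducible spectra. -/
theorem exists_dim_formula_ring {R S : Type u} [CommRing R] [CommRing S] [Algebra R S]
    [IsNoetherianRing R] [Algebra.FiniteType R S] (η : Ideal R) [η.IsPrime] (ξ : Ideal S) [ξ.IsPrime]
    [ξ.LiesOver η] (hη : ∀ P : PrimeSpectrum R, η ≤ P.asIdeal)
    (hξ : ∀ P : PrimeSpectrum S, ξ ≤ P.asIdeal)
    (p : Ideal R) [p.IsPrime] (q : Ideal S) [q.IsPrime] [q.LiesOver p] :
    ∃ t t₀ : ℕ, Algebra.trdeg (R ⧸ p) (S ⧸ q) = t ∧ Algebra.trdeg (R ⧸ η) (S ⧸ ξ) = t₀ ∧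
      q.height + t ≤ p.height + t₀ ∧
      (CAlg.IsUniversallyCatenary (Localization.AtPrime p) → q.height + t = p.height + t₀) := by
  have hηp : η ≤ p := hη ⟨p, inferInstance⟩
  have hξq : ξ ≤ q := hξ ⟨q, inferInstance⟩
  haveI : (p.map (Ideal.Quotient.mk η)).IsPrime :=
    Ideal.map_isPrime_of_surjective Ideal.Quotient.mk_surjective (by rwa [Ideal.mk_ker])
  haveI : (q.map (Ideal.Quotient.mk ξ)).IsPrime :=
    Ideal.map_isPrime_of_surjective Ideal.Quotient.mk_surjective (by rwa [Ideal.mk_ker])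
  haveI : FaithfulSMul (R ⧸ η) (S ⧸ ξ) :=
    (faithfulSMul_iff_algebraMap_injective _ _).2 (quotient_algebraMap_injective η ξ)
  haveI : Algebra.FiniteType (R ⧸ η) (S ⧸ ξ) :=
    haveI : Algebra.FiniteType R (S ⧸ ξ) :=
      Algebra.FiniteType.of_surjective (Ideal.Quotient.mkₐ R ξ) Ideal.Quotient.mk_surjective
    Algebra.FiniteType.of_restrictScalars_finiteType R _ _
  have hqback : (q.map (Ideal.Quotient.mk ξ)).comap (Ideal.Quotient.mk ξ) = q := by
    rw [Ideal.comap_map_of_surjective _ Ideal.Quotient.mk_surjective, ← RingHom.ker_eq_comap_bot, Ideal.mk_ker]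
    exact sup_of_le_left hξq
  have hpback : (p.map (Ideal.Quotient.mk η)).comap (Ideal.Quotient.mk η) = p := by
    rw [Ideal.comap_map_of_surjective _ Ideal.Quotient.mk_surjective, ← RingHom.ker_eq_comap_bot, Ideal.mk_ker]
    exact sup_of_le_left hηp
  haveI : (q.map (Ideal.Quotient.mk ξ)).LiesOver (p.map (Ideal.Quotient.mk η)) := ⟨by
    apply Ideal.comap_injective_of_surjective _ Ideal.Quotient.mk_surjective
    rw [hpback]
    refine ((q.over_def p).trans ?_)
    conv_lhs => rw [← hqback]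
    rfl⟩
  obtain ⟨a, b, ha, hb, hle, heq⟩ := exists_trdeg_add_height_local (p.map (Ideal.Quotient.mk η))
    (q.map (Ideal.Quotient.mk ξ))
  refine ⟨a, b, ?_, hb, ?_, fun hcat => ?_⟩
  · rw [← ha]
    let ψ : (R ⧸ η) ⧸ p.map (Ideal.Quotient.mk η) ≃+* R ⧸ p := DoubleQuot.quotQuotEquivQuotOfLE hηp
    let R₁ := (R ⧸ η) ⧸ p.map (Ideal.Quotient.mk η)
    let ψ' : (S ⧸ ξ) ⧸ q.map (Ideal.Quotient.mk ξ) ≃+* S ⧸ q := DoubleQuot.quotQuotEquivQuotOfLE hξq
    letI : Algebra R₁ (R ⧸ p) := ψ.toRingHom.toAlgebra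
    letI : Algebra R₁ (S ⧸ q) := ((algebraMap (R ⧸ p) (S ⧸ q)).comp ψ.toRingHom).toAlgebra
    haveI : IsScalarTower R₁ (R ⧸ p) (S ⧸ q) := IsScalarTower.of_algebraMap_eq fun _ => rfl
    let eA : ((S ⧸ ξ) ⧸ q.map (Ideal.Quotient.mk ξ)) ≃ₐ[R₁] (S ⧸ q) :=
      AlgEquiv.ofRingEquiv (f := ψ') fun r => by
        obtain ⟨r, rfl⟩ := Ideal.Quotient.mk_surjective r
        obtain ⟨r, rfl⟩ := Ideal.Quotient.mk_surjective r
        rfl
    rw [eA.trdeg_eq]
    haveI : FaithfulSMul R₁ (R ⧸ p) := (faithfulSMul_iff_algebraMap_injective _ _).2 ψ.injective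
    haveI : FaithfulSMul (R ⧸ p) (S ⧸ q) :=
      (faithfulSMul_iff_algebraMap_injective _ _).2 (quotient_algebraMap_injective p q)
    haveI : Algebra.IsAlgebraic R₁ (R ⧸ p) := ⟨fun w => by
      obtain ⟨w', rfl⟩ := ψ.surjective w
      exact isAlgebraic_algebraMap (R := R₁) (A := R ⧸ p) w'⟩
    rw [← trdeg_add_eq R₁ (R ⧸ p) (A := S ⧸ q), trdeg_eq_zero (R := R₁) (A := R ⧸ p), zero_add]
  · rwa [← height_map_mk_of_forall_le η hη p, ← height_map_mk_of_forall_le ξ hξ q]
  · rw [← height_map_mk_of_forall_le η hη p, ← height_map_mk_of_forall_le ξ hξ q]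
    haveI : (p.map (Ideal.Quotient.mk η)).LiesOver p := ⟨hpback.symm⟩
    exact heq (isUniversallyCatenary_atPrime p (p.map (Ideal.Quotient.mk η)) hcat)

section Scheme

variable {X Y : Scheme.{u}} (f : X ⟶ Y)

lemma ker_evaluation {U : X.Opens} (hU : IsAffineOpen U) {x : X} (hx : x ∈ U) :
    RingHom.ker (X.evaluation U x hx).hom = (hU.primeIdealOf ⟨x, hx⟩).asIdeal := by
  ext a
  letI := X.presheaf.algebra_section_stalk ⟨_, hx⟩
  haveI := hU.isLocalization_stalk ⟨_, hx⟩
  rw [RingHom.mem_ker, ← IsLocalization.AtPrime.to_map_mem_maximal_iff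
    (X.presheaf.stalk x) (hU.primeIdealOf ⟨_, hx⟩).asIdeal a]
  exact Ideal.Quotient.eq_zero_iff_mem

/-- The relative transcendence degree computed on affine charts. -/
theorem relTrdeg_eq_trdeg_quotient {U : Y.Opens} (hU : IsAffineOpen U) {V : X.Opens} (hV : IsAffineOpen V)
    (e : V ≤ f ⁻¹ᵁ U) {x : X} (hx : x ∈ V) :
    letI := (f.appLE U V e).hom.toAlgebra
    ∀ [(hV.primeIdealOf ⟨x, hx⟩).asIdeal.LiesOver (hU.primeIdealOf ⟨f.base x, e hx⟩).asIdeal],
      Algebra.trdeg (Γ(Y, U) ⧸ (hU.primeIdealOf ⟨f.base x, e hx⟩).asIdeal)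
        (Γ(X, V) ⧸ (hV.primeIdealOf ⟨x, hx⟩).asIdeal) = Groth.Variety2.Dim.relTrdeg f x := by
  letI := (f.appLE U V e).hom.toAlgebra
  intro _
  letI := (f.residueFieldMap x).hom.toAlgebra
  have hsq : Y.evaluation U (f.base x) (e hx) ≫ f.residueFieldMap x =
      f.appLE U V e ≫ X.evaluation V x hx := by
    apply Spec.map_injective
    rw [← cancel_mono hU.fromSpec]
    simp only [Spec.map_comp, Category.assoc, SpecMap_evaluation hU _ (e hx),
      Scheme.Hom.SpecMap_residueFieldMap_fromSpecResidueField, hU.SpecMap_appLE_fromSpec f hV e,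
      reassoc_of% (SpecMap_evaluation hV x hx)]
  exact trdeg_quotient_eq_of_eval (Y.evaluation U (f.base x) (e hx)).hom (X.evaluation V x hx).hom
    (fun r => congr($(congrArg CommRingCat.Hom.hom hsq) r)) _ _ (ker_evaluation hU (e hx))
    (ker_evaluation hV hx) (Groth.Variety2.Dim.exists_evaluation_eq_div hU (e hx))
    (Groth.Variety2.Dim.exists_evaluation_eq_div hV hx)

/-- **The dimension formula** for a dominant morphism of irreducible schemes. -/
theorem exists_dim_formula [IrreducibleSpace X] [IrreducibleSpace Y] [IsLocallyNoetherian Y]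
    [LocallyOfFiniteType f] [IsDominant f] (x : X) :
    ∃ t t₀ : ℕ, Groth.Variety2.Dim.relTrdeg f x = t ∧ Order.height (f.asFiber x) = t ∧
      Groth.Variety2.Dim.relTrdeg f (genericPoint X) = t₀ ∧
      topologicalKrullDim ↥(f.fiber (genericPoint Y)) = t₀ ∧
      ringKrullDim (X.presheaf.stalk x) + t ≤ ringKrullDim (Y.presheaf.stalk (f.base x)) + t₀ ∧
      (CAlg.IsUniversallyCatenary (Y.presheaf.stalk (f.base x)) →
        ringKrullDim (X.presheaf.stalk x) + t = ringKrullDim (Y.presheaf.stalk (f.base x)) + t₀) := by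
  have hξ : f.base (genericPoint X) = genericPoint Y := by
    have h1 : IsGenericPoint (f.base (genericPoint X)) (closure (f.base '' Set.univ)) :=
      (genericPoint_spec X).image f.continuous
    rw [Set.image_univ, f.denseRange.closure_range] at h1
    exact h1.eq (genericPoint_spec Y)
  obtain ⟨t, ht, hht⟩ := exists_relTrdeg_eq_height f x
  obtain ⟨t₀, ht₀, hht₀⟩ := exists_relTrdeg_eq_height f (genericPoint X)
  have hdim : topologicalKrullDim ↥(f.fiber (genericPoint Y)) = t₀ := by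
    suffices key : ∀ y : Y, f.base (genericPoint X) = y → topologicalKrullDim ↥(f.fiber y) = t₀ from key _ hξ
    rintro _ rfl
    rw [Groth.Variety2.Dim.dim_eq_iSup_height]
    refine le_antisymm (iSup_le fun z => ?_) ?_
    · have hz : z ≤ f.asFiber (genericPoint X) :=
        (f.fiberι _).isEmbedding.toIsInducing.specializes_iff.1
          (by rw [f.fiberι_asFiber]; exact genericPoint_specializes _)
      exact le_trans (WithBot.coe_le_coe.2 (Order.height_mono hz)) (WithBot.coe_le_coe.2 hht₀.le)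
    · refine le_trans ?_ (le_iSup (fun z => ((Order.height z : ℕ∞) : WithBot ℕ∞)) (f.asFiber (genericPoint X)))
      rw [hht₀]; rfl
  refine ⟨t, t₀, ht, hht, ht₀, hdim, ?_⟩
  obtain ⟨U, hU, hxU, -⟩ := exists_isAffineOpen_mem_and_subset (U := ⊤) (Set.mem_univ (f.base x))
  obtain ⟨V, hV, hxV, hVU⟩ := exists_isAffineOpen_mem_and_subset (U := f ⁻¹ᵁ U) hxU
  have e : V ≤ f ⁻¹ᵁ U := hVU
  have hξV : genericPoint X ∈ V := (genericPoint_specializes x).mem_open V.isOpen hxV
  letI := (f.appLE U V e).hom.toAlgebra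
  haveI : Algebra.FiniteType Γ(Y, U) Γ(X, V) := f.finiteType_appLE hU hV e
  haveI : IsNoetherianRing Γ(Y, U) := IsLocallyNoetherian.component_noetherian ⟨U, hU⟩
  have hover : ∀ (z : X) (hz : z ∈ V),
      (hV.primeIdealOf ⟨z, hz⟩).asIdeal.LiesOver (hU.primeIdealOf ⟨f.base z, e hz⟩).asIdeal := fun z hz => by
    refine ⟨congrArg PrimeSpectrum.asIdeal (hU.fromSpec.isEmbedding.injective (a₂ := PrimeSpectrum.comap (f.appLE U V e).hom (hV.primeIdealOf ⟨z, hz⟩)) ?_)⟩
    rw [hU.fromSpec_primeIdealOf]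
    have h := hV.fromSpec_primeIdealOf ⟨z, hz⟩
    exact (congrArg f.base h).symm.trans (by
      rw [← Scheme.Hom.comp_apply, ← hU.SpecMap_appLE_fromSpec f hV e]; rfl)
  set q := (hV.primeIdealOf ⟨x, hxV⟩).asIdeal with hq
  set p := (hU.primeIdealOf ⟨f.base x, e hxV⟩).asIdeal with hp
  set ξ := (hV.primeIdealOf ⟨genericPoint X, hξV⟩).asIdeal with hξ'
  set η := (hU.primeIdealOf ⟨f.base (genericPoint X), e hξV⟩).asIdeal with hη'
  haveI := hover x hxV
  haveI : ξ.LiesOver η := hover _ hξV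
  have hξmin : ∀ P : PrimeSpectrum Γ(X, V), ξ ≤ P.asIdeal := fun P =>
    (PrimeSpectrum.le_iff_specializes (hV.primeIdealOf ⟨genericPoint X, hξV⟩) P).2
      (hV.fromSpec.isEmbedding.toIsInducing.specializes_iff.1 (by
        rw [hV.fromSpec_primeIdealOf]; exact genericPoint_specializes _))
  have hηmin : ∀ P : PrimeSpectrum Γ(Y, U), η ≤ P.asIdeal := fun P =>
    (PrimeSpectrum.le_iff_specializes (hU.primeIdealOf ⟨f.base (genericPoint X), e hξV⟩) P).2
      (hU.fromSpec.isEmbedding.toIsInducing.specializes_iff.1 (by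
        rw [hU.fromSpec_primeIdealOf]
        show f.base (genericPoint X) ⤳ _
        rw [hξ]; exact genericPoint_specializes _))
  obtain ⟨a, b, ha, hb, hle, heq⟩ := exists_dim_formula_ring η ξ hηmin hξmin p q
  have hat : a = t := by
    rw [← Nat.cast_inj (R := Cardinal.{u}), ← ha, ← ht, ← relTrdeg_eq_trdeg_quotient f hU hV e hxV]
  have hbt : b = t₀ := by
    rw [← Nat.cast_inj (R := Cardinal.{u}), ← hb, ← ht₀, ← relTrdeg_eq_trdeg_quotient f hU hV e hξV]
  subst hat hbt
  letI := Y.presheaf.algebra_section_stalk ⟨f.base x, e hxV⟩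
  haveI := hU.isLocalization_stalk ⟨f.base x, e hxV⟩
  letI := X.presheaf.algebra_section_stalk ⟨x, hxV⟩
  haveI := hV.isLocalization_stalk ⟨x, hxV⟩
  rw [IsLocalization.AtPrime.ringKrullDim_eq_height p (Y.presheaf.stalk (f.base x)),
    IsLocalization.AtPrime.ringKrullDim_eq_height q (X.presheaf.stalk x)]
  refine ⟨?_, fun hcat => ?_⟩
  · exact_mod_cast hle
  · exact_mod_cast heq (isUniversallyCatenary_of_ringEquiv
      (IsLocalization.algEquiv p.primeCompl (Y.presheaf.stalk (f.base x)) (Localization.AtPrime p)).toRingEquiv hcat)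

end Scheme

end Groth.FibreDim
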