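import Mathlib
import Groth.Prelude.Def_Found
import Groth.Agent.Variety2.DimAffine
import Groth.Agent.SitesTopoi.Catenary
import Groth.Agent.PropsBasic.Catenary

/-!
# The dimension formula (EGA IV 5.5.8, 5.6.1)
-/

universe u

open scoped Polynomial

namespace Groth.FibreDim

open Groth.SitesTopoi in
theorem height_eq_chainCodim {A : Type u} [CommRing A] [IsDomain A] (q : PrimeSpectrum A) :
    q.asIdeal.height = chainCodim ⊥ q := by
  rw [q.height_eq_orderHeight]
  refine le_antisymm (Order.height_le_iff.2 fun s hs => ?_) (chainCodim_le fun s _ hs => Order.length_le_height hs)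
  rcases (bot_le : ⊥ ≤ s.head).eq_or_lt with h | h
  · exact length_le_chainCodim s h.symm hs
  · refine le_trans ?_ (length_le_chainCodim (s.cons ⊥ h) (b := q) (by simp) (by simpa using hs))
    simp

open Groth.SitesTopoi in
theorem chainCodim_map {P Q : Type u} [PartialOrder P] [PartialOrder Q] (e : P ↪o Q)
    (he : (Set.range e).OrdConnected) (a b : P) : chainCodim (e a) (e b) = chainCodim a b := by
  refine le_antisymm (chainCodim_le fun s h₁ h₂ => ?_) (chainCodim_le fun s h₁ h₂ => ?_)
  · obtain ⟨t, rfl⟩ := exists_chain_of_le_range e he a b s h₁ h₂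
    exact length_le_chainCodim t (e.injective h₁) (e.le_iff_le.1 h₂)
  · exact length_le_chainCodim (s.map e e.strictMono) (by simp [h₁]) (by simp [h₂])

open Groth.SitesTopoi in
/-- `ht(q/Q) + ht(Q) ≤ ht(q)` with equality in a catenary ring. -/
theorem height_quotient_add {P B : Type u} [CommRing P] [IsDomain P] [CommRing B] [IsDomain B]
    (g : P →+* B) (hg : Function.Surjective g) (q : Ideal B) [q.IsPrime] :
    q.height + (RingHom.ker g).height ≤ (q.comap g).height ∧
      (CAlg.IsCatenary P → q.height + (RingHom.ker g).height = (q.comap g).height) := by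
  haveI : (RingHom.ker g).IsPrime := RingHom.ker_isPrime g
  let e : PrimeSpectrum B ↪o PrimeSpectrum P :=
    OrderEmbedding.ofMapLEIff (PrimeSpectrum.comap g) fun a b =>
      ⟨fun h => (Ideal.comap_le_comap_iff_of_surjective g hg _ _).1 h, fun h => Ideal.comap_mono h⟩
  have he : (Set.range e).OrdConnected := by
    show (Set.range (PrimeSpectrum.comap g)).OrdConnected
    rw [range_comap_of_surjective _ _ hg]
    exact ⟨fun a ha b _ c hc x hx => hc.1 (ha hx)⟩
  let Q : PrimeSpectrum P := ⟨RingHom.ker g, inferInstance⟩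
  have hQ : Q = e ⊥ := PrimeSpectrum.ext (RingHom.ker_eq_comap_bot g)
  let q' : PrimeSpectrum B := ⟨q, inferInstance⟩
  have h1 : q.height = chainCodim Q (e q') := by
    rw [hQ, chainCodim_map e he, ← height_eq_chainCodim q']
  have h2 : (RingHom.ker g).height = chainCodim ⊥ Q := height_eq_chainCodim Q
  have h3 : (q.comap g).height = chainCodim ⊥ (e q') := height_eq_chainCodim (e q')
  have hle : Q ≤ e q' := by rw [hQ]; exact e.monotone bot_le
  rw [h1, h2, h3, add_comm]
  refine ⟨chainCodim_add_le bot_le hle, fun hcat => ?_⟩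
  exact ((catenary_iff_additive.1 (Groth.PropsBasic.Cat.catAt_iff_catOrd.2 hcat)).2 _ _ _ bot_le hle).symm

/-- Transcendence degrees do not change under passing to fractions. -/
theorem trdeg_eq_of_fractions {D A K B : Type u} [CommRing D] [IsDomain D] [CommRing A] [IsDomain A]
    [Algebra D A] [Field K] [Algebra D K] [IsFractionRing D K] [CommRing B] [IsDomain B] [Algebra K B]
    [Algebra D B] [IsScalarTower D K B] [Algebra A B] [IsScalarTower D A B]
    (hA : Function.Injective (algebraMap D A)) (hinj : Function.Injective (algebraMap A B))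
    (hgen : ∀ b : B, ∃ a s : A, s ≠ 0 ∧ b * algebraMap A B s = algebraMap A B a) :
    Algebra.trdeg D A = Algebra.trdeg K B := by
  haveI : FaithfulSMul D A := (faithfulSMul_iff_algebraMap_injective _ _).2 hA
  haveI : FaithfulSMul A B := (faithfulSMul_iff_algebraMap_injective _ _).2 hinj
  haveI : Algebra.IsAlgebraic A B := ⟨fun b => by
    obtain ⟨a, s, hs, h⟩ := hgen b
    refine ⟨Polynomial.C s * Polynomial.X - Polynomial.C a, fun h0 => hs ?_, ?_⟩
    · simpa using congrArg (fun p => p.coeff 1) h0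
    · rw [map_sub, map_mul, Polynomial.aeval_C, Polynomial.aeval_C, Polynomial.aeval_X, mul_comm, h, sub_self]⟩
  haveI : FaithfulSMul D K := (faithfulSMul_iff_algebraMap_injective _ _).2 (IsFractionRing.injective D K)
  haveI : FaithfulSMul K B := (faithfulSMul_iff_algebraMap_injective _ _).2 (algebraMap K B).injective
  haveI : Algebra.IsAlgebraic D K := IsLocalization.isAlgebraic K (nonZeroDivisors D)
  have h1 := trdeg_add_eq D A (A := B)
  have h2 := trdeg_add_eq D K (A := B)
  rw [trdeg_eq_zero (R := A) (A := B), add_zero] at h1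
  rw [trdeg_eq_zero (R := D) (A := K), zero_add] at h2
  exact h1.trans h2.symm

theorem exists_trdeg_quotient_field {k : Type u} [Field k] (n : ℕ) (q : Ideal (MvPolynomial (Fin n) k))
    [q.IsPrime] : ∃ t : ℕ, Algebra.trdeg k (MvPolynomial (Fin n) k ⧸ q) = t ∧ q.height + t = n := by
  let A := MvPolynomial (Fin n) k
  obtain ⟨t, ht, hd, -⟩ := Groth.Variety2.Dim.exists_dim k (A ⧸ q)
  refine ⟨t, ?_, ?_⟩
  · haveI : Algebra.IsAlgebraic (A ⧸ q) (FractionRing (A ⧸ q)) :=
      IsLocalization.isAlgebraic _ (nonZeroDivisors (A ⧸ q))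
    rw [← ht, ← trdeg_add_eq k (A ⧸ q) (A := FractionRing (A ⧸ q)),
      trdeg_eq_zero (R := A ⧸ q) (A := FractionRing (A ⧸ q)), add_zero]
  · let q' : PrimeSpectrum A := ⟨q, inferInstance⟩
    have hq : q.height = Groth.SitesTopoi.chainCodim ⊥ q' := height_eq_chainCodim q'
    have hfin : Groth.SitesTopoi.chainCodim ⊥ q' ≠ ⊤ := hq ▸ Ideal.height_ne_top_of_isPrime
    obtain ⟨s, hs1, hs2, hsat, hsl⟩ := Groth.SitesTopoi.exists_saturated_chain (bot_le : ⊥ ≤ q') hfin
    have h := Groth.Variety2.Dim.ringKrullDim_quotient_add_length k A s hsat (Fin.last _)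
    have hbot : s.head.asIdeal = ⊥ := by rw [hs1]; rfl
    rw [show s (Fin.last _) = q' from hs2, hd,
      ringKrullDim_eq_of_ringEquiv ((Ideal.quotEquivOfEq hbot).trans (RingEquiv.quotientBot A)),
      MvPolynomial.ringKrullDim_of_isNoetherianRing, ringKrullDim_eq_zero_of_field, zero_add,
      Fin.val_last] at h
    rw [hq, ← hsl]
    simp only [Nat.card_fin] at h
    norm_cast at h ⊢
    omega

/-- Residual transcendence degree along a localization of the base domain. -/
theorem trdeg_quotient_eq_of_isLocalization {D K A B : Type u} [CommRing D] [IsDomain D] [Field K]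
    [Algebra D K] [IsFractionRing D K] [CommRing A] [Algebra D A] [CommRing B] [Algebra K B] [Algebra D B]
    [IsScalarTower D K B] [Algebra A B] [IsScalarTower D A B] (M : Submonoid A) [IsLocalization M B]
    (q : Ideal A) [q.IsPrime] (Q : Ideal B) [Q.IsPrime] (hQ : Q.comap (algebraMap A B) = q)
    (hdisj : Disjoint (M : Set A) q) (hq : ∀ d : D, algebraMap D A d ∈ q → d = 0) :
    Algebra.trdeg D (A ⧸ q) = Algebra.trdeg K (B ⧸ Q) := by
  let ψ : A ⧸ q →+* B ⧸ Q := Ideal.quotientMap Q (algebraMap A B) hQ.ge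
  letI := ψ.toAlgebra
  haveI : IsScalarTower D (A ⧸ q) (B ⧸ Q) := IsScalarTower.of_algebraMap_eq fun d => by
    show Ideal.Quotient.mk Q (algebraMap D B d) = Ideal.Quotient.mk Q (algebraMap A B (algebraMap D A d))
    rw [← IsScalarTower.algebraMap_apply]
  refine trdeg_eq_of_fractions (D := D) (A := A ⧸ q) (K := K) ?_ ?_ fun b => ?_
  · rw [injective_iff_map_eq_zero]
    exact fun d hd => hq d (Ideal.Quotient.eq_zero_iff_mem.1 hd)
  · exact Ideal.quotientMap_injective' hQ.le
  · obtain ⟨b, rfl⟩ := Ideal.Quotient.mk_surjective b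
    obtain ⟨⟨a, s⟩, has⟩ := IsLocalization.surj M b
    refine ⟨Ideal.Quotient.mk q a, Ideal.Quotient.mk q s, fun h0 => ?_, ?_⟩
    · exact Set.disjoint_left.1 hdisj s.2 (Ideal.Quotient.eq_zero_iff_mem.1 h0)
    · show Ideal.Quotient.mk Q b * Ideal.Quotient.mk Q (algebraMap A B s) = Ideal.Quotient.mk Q (algebraMap A B a)
      rw [← map_mul]
      exact congrArg _ has

/-- The dimension formula over a domain for primes over the zero ideal. -/
theorem exists_trdeg_mvPolynomial_zero {D : Type u} [CommRing D] [IsDomain D] (n : ℕ)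
    (q : Ideal (MvPolynomial (Fin n) D)) [q.IsPrime] (hq : ∀ d : D, MvPolynomial.C d ∈ q → d = 0) :
    ∃ t : ℕ, Algebra.trdeg D (MvPolynomial (Fin n) D ⧸ q) = t ∧ q.height + t = n := by
  let φ : MvPolynomial (Fin n) D →+* MvPolynomial (Fin n) (FractionRing D) :=
    MvPolynomial.map (algebraMap D (FractionRing D))
  letI : Algebra (MvPolynomial (Fin n) D) (MvPolynomial (Fin n) (FractionRing D)) := φ.toAlgebra
  haveI hloc : IsLocalization ((nonZeroDivisors D).map (MvPolynomial.C (σ := Fin n)))
      (MvPolynomial (Fin n) (FractionRing D)) :=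
    MvPolynomial.isLocalization (nonZeroDivisors D) (FractionRing D)
  have hdisj : Disjoint (((nonZeroDivisors D).map (MvPolynomial.C (σ := Fin n))) : Set (MvPolynomial (Fin n) D))
      (q : Set (MvPolynomial (Fin n) D)) := by
    rw [Set.disjoint_left]
    rintro _ ⟨d, hd, rfl⟩ hdq
    exact nonZeroDivisors.ne_zero hd (hq d hdq)
  haveI hQ : (q.map φ).IsPrime :=
    IsLocalization.isPrime_of_isPrime_disjoint _ (MvPolynomial (Fin n) (FractionRing D)) _ ‹q.IsPrime› hdisj
  have hQback : (q.map φ).comap φ = q :=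
    IsLocalization.comap_map_of_isPrime_disjoint _ (MvPolynomial (Fin n) (FractionRing D)) ‹q.IsPrime› hdisj
  obtain ⟨t, ht, hht⟩ := exists_trdeg_quotient_field n (q.map φ)
  refine ⟨t, ?_, ?_⟩
  · haveI : IsScalarTower D (MvPolynomial (Fin n) D) (MvPolynomial (Fin n) (FractionRing D)) :=
      IsScalarTower.of_algebraMap_eq fun d => by
        show algebraMap D (MvPolynomial (Fin n) (FractionRing D)) d = φ (MvPolynomial.C d)
        simp [φ, IsScalarTower.algebraMap_apply D (FractionRing D) (MvPolynomial (Fin n) (FractionRing D)),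
          MvPolynomial.algebraMap_eq]
    rw [← ht]
    exact trdeg_quotient_eq_of_isLocalization (D := D) (K := FractionRing D) (A := MvPolynomial (Fin n) D)
      (B := MvPolynomial (Fin n) (FractionRing D))
      ((nonZeroDivisors D).map (MvPolynomial.C (σ := Fin n))) q (q.map φ) hQback hdisj hq
  · rw [← hht]
    congr 1
    exact (IsLocalization.height_map_of_disjoint ((nonZeroDivisors D).map (MvPolynomial.C (σ := Fin n))) q hdisj).symm

/-- The dimension formula for polynomial rings. -/
theorem exists_trdeg_mvPolynomial {R : Type u} [CommRing R] [IsNoetherianRing R] (n : ℕ) (p : Ideal R)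
    [p.IsPrime] (q : Ideal (MvPolynomial (Fin n) R)) [q.IsPrime] [q.LiesOver p] :
    ∃ t : ℕ, Algebra.trdeg (R ⧸ p) (MvPolynomial (Fin n) R ⧸ q) = t ∧ q.height + t = p.height + n := by
  let π : MvPolynomial (Fin n) R →+* MvPolynomial (Fin n) (R ⧸ p) := MvPolynomial.map (Ideal.Quotient.mk p)
  have hπ : Function.Surjective π := MvPolynomial.map_surjective _ Ideal.Quotient.mk_surjective
  have hkerπ : RingHom.ker π = p.map (algebraMap R (MvPolynomial (Fin n) R)) := by
    rw [MvPolynomial.ker_map, Ideal.mk_ker]; rfl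
  have hkerle : RingHom.ker π ≤ q := by
    rw [hkerπ, Ideal.map_le_iff_le_comap]
    exact (q.over_def p).le
  haveI : (q.map π).IsPrime := Ideal.map_isPrime_of_surjective hπ hkerle
  have hqback : (q.map π).comap π = q := by
    rw [Ideal.comap_map_of_surjective _ hπ, ← RingHom.ker_eq_comap_bot]
    exact sup_of_le_left hkerle
  obtain ⟨t, ht, hht⟩ := exists_trdeg_mvPolynomial_zero n (q.map π) fun d hd => by
    obtain ⟨r, rfl⟩ := Ideal.Quotient.mk_surjective d
    rw [Ideal.Quotient.eq_zero_iff_mem, q.over_def p]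
    show algebraMap R (MvPolynomial (Fin n) R) r ∈ q
    rw [← hqback, Ideal.mem_comap]
    simpa [π, MvPolynomial.algebraMap_eq] using hd
  refine ⟨t, ?_, ?_⟩
  · rw [← ht]
    let e : (MvPolynomial (Fin n) R ⧸ q) →ₐ[R ⧸ p] (MvPolynomial (Fin n) (R ⧸ p) ⧸ q.map π) :=
      ⟨Ideal.quotientMap (q.map π) π hqback.ge, fun x => by
        obtain ⟨r, rfl⟩ := Ideal.Quotient.mk_surjective x
        show Ideal.Quotient.mk _ (π (MvPolynomial.C r)) = Ideal.Quotient.mk _ (MvPolynomial.C (Ideal.Quotient.mk p r))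
        simp [π]⟩
    exact (AlgEquiv.ofBijective e ⟨Ideal.quotientMap_injective' (H := hqback.ge) hqback.le,
      Ideal.quotientMap_surjective (H := hqback.ge) hπ⟩).trdeg_eq
  · rw [Ideal.height_eq_height_add_of_liesOver_of_hasGoingDown p q, add_assoc, ← hht]
    congr 2
    let E := (Ideal.quotEquivOfEq hkerπ.symm).trans (RingHom.quotientKerEquivOfSurjective hπ)
    rw [← E.height_map]
    show ((q.map _).map E.toRingHom).height = _
    rw [Ideal.map_map]
    rfl

/-- **The dimension formula.** -/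
theorem exists_trdeg_add_height {R : Type u} [CommRing R] [IsDomain R] [IsNoetherianRing R]
    {S : Type u} [CommRing S] [IsDomain S] [Algebra R S] [FaithfulSMul R S] [Algebra.FiniteType R S]
    (p : Ideal R) [p.IsPrime] (q : Ideal S) [q.IsPrime] [q.LiesOver p] :
    ∃ t t₀ : ℕ, Algebra.trdeg (R ⧸ p) (S ⧸ q) = t ∧ Algebra.trdeg R S = t₀ ∧
      q.height + t ≤ p.height + t₀ ∧
      (CAlg.IsUniversallyCatenary R → q.height + t = p.height + t₀) := by
  obtain ⟨n, g, hg⟩ := Algebra.FiniteType.iff_quotient_mvPolynomial''.mp ‹Algebra.FiniteType R S›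
  haveI : (RingHom.ker g).IsPrime := RingHom.ker_isPrime g
  haveI : (q.comap g.toRingHom).LiesOver p := ⟨by
    rw [q.over_def p]; ext r
    show algebraMap R S r ∈ q ↔ g (algebraMap R (MvPolynomial (Fin n) R) r) ∈ q
    rw [g.commutes]⟩
  obtain ⟨t, ht, hteq⟩ := exists_trdeg_mvPolynomial n p (q.comap g.toRingHom)
  have hker : ∀ r : R, MvPolynomial.C r ∈ RingHom.ker g → r = 0 := fun r hr => by
    have h : g (algebraMap R (MvPolynomial (Fin n) R) r) = 0 := hr
    rwa [g.commutes, map_eq_zero_iff _ (FaithfulSMul.algebraMap_injective R S)] at h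
  obtain ⟨t₀, ht₀, ht₀eq⟩ := exists_trdeg_mvPolynomial_zero n (RingHom.ker g) hker
  refine ⟨t, t₀, ?_, ?_, ?_⟩
  · rw [← ht]
    let e : ((MvPolynomial (Fin n) R) ⧸ q.comap g.toRingHom) →ₐ[R ⧸ p] (S ⧸ q) :=
      ⟨Ideal.quotientMap q g.toRingHom le_rfl, fun x => by
        obtain ⟨r, rfl⟩ := Ideal.Quotient.mk_surjective x
        exact congrArg (Ideal.Quotient.mk q) (g.commutes r)⟩
    exact ((AlgEquiv.ofBijective e ⟨Ideal.quotientMap_injective, Ideal.quotientMap_surjective (H := le_rfl) hg⟩).trdeg_eq).symm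
  · rw [← ht₀]
    exact ((Ideal.quotientKerAlgEquivOfSurjective hg).trdeg_eq).symm
  · obtain ⟨hle, heq⟩ := height_quotient_add g.toRingHom hg q
    obtain ⟨hp, hhp⟩ := ENat.ne_top_iff_exists.1 (Ideal.height_ne_top_of_isPrime (I := p))
    obtain ⟨hq, hhq⟩ := ENat.ne_top_iff_exists.1 (Ideal.height_ne_top_of_isPrime (I := q.comap g.toRingHom))
    obtain ⟨hK, hhK⟩ := ENat.ne_top_iff_exists.1 (Ideal.height_ne_top_of_isPrime (I := RingHom.ker g))
    haveI : IsNoetherianRing S := Algebra.FiniteType.isNoetherianRing R S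
    obtain ⟨hs, hhs⟩ := ENat.ne_top_iff_exists.1 (Ideal.height_ne_top_of_isPrime (I := q))
    rw [← hhp, ← hhq] at hteq
    rw [← hhK] at ht₀eq
    have hkk : (RingHom.ker g.toRingHom).height = (hK : ℕ∞) := hhK.symm
    rw [← hhs, hkk, ← hhq] at hle heq
    rw [← hhs, ← hhp]
    norm_cast at hteq ht₀eq hle heq ⊢
    refine ⟨by omega, fun hcat => ?_⟩
    have := heq (hcat.2 (MvPolynomial (Fin n) R) inferInstance)
    omega

end Groth.FibreDim
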