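import Groth.Agent.FibreDim.ComponentCor
import Groth.Agent.FibreDim.DimStalk

/-!
# Dimensions of source and target
-/

universe u

open CategoryTheory CategoryTheory.Limits AlgebraicGeometry TopologicalSpace Topology

namespace Groth.FibreDim

variable {X Y : Scheme.{u}} (f : X ⟶ Y)

theorem exists_component_stalk_le [IsLocallyNoetherian Y] [LocallyOfFiniteType f] (x : X) :
    ∃ (ξ : X) (t t₀ : ℕ), closure {ξ} ∈ irreducibleComponents (X : Type u) ∧ ξ ⤳ x ∧
      Order.height (f.asFiber x) = t ∧ Groth.Variety2.Dim.relTrdeg f ξ = t₀ ∧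
      ringKrullDim (X.presheaf.stalk x) + t ≤ ringKrullDim (Y.presheaf.stalk (f.base x)) + t₀ := by
  haveI : IsLocallyNoetherian X := LocallyOfFiniteType.isLocallyNoetherian f
  obtain ⟨s, hs, hslen, hsmax⟩ := exists_series_maximal x
  have hξx : s.last ⤳ x := by
    have : s.head ≤ s.last := s.head_le_last
    rwa [hs] at this
  obtain ⟨t, t₀, a, b, ht, ht₀, hle, -, -, hchain, hb, -, -, -, -, -⟩ := exists_dim_formula_along f hξx
  obtain ⟨t₀', h1, h2⟩ := exists_relTrdeg_eq_height f s.last
  rw [ht₀, Nat.cast_inj] at h2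
  subst h2
  refine ⟨s.last, t, _, ?_, hξx, ht, h1, ?_⟩
  · rw [Groth.PropsBasic2.closure_mem_irreducibleComponents_iff]
    exact fun z hz => (hz.antisymm (hsmax hz)).eq
  · have ha := hchain s hs.ge le_rfl
    obtain ⟨B, hB⟩ := exists_coheight_eq_natCast (f.base x)
    rw [hB, Nat.cast_le] at hb
    rw [ringKrullDim_stalk_eq_coheight, ringKrullDim_stalk_eq_coheight, ← hslen, hB]
    norm_cast
    omega

theorem dim_add_le_of_isClosedMap [IrreducibleSpace Y] (hf : IsClosedMap f.base) {ξ : X}
    (hξ : f.base ξ = genericPoint Y) (n : ℕ) (hn : (n : ℕ∞) ≤ Order.height (f.asFiber ξ)) :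
    topologicalKrullDim ↥Y + n ≤ topologicalKrullDim ↥X := by
  obtain ⟨p, hp, hlen⟩ := Order.exists_series_of_le_height (f.asFiber ξ) hn
  let z := (f.fiberι (f.base ξ)).base p.head
  have hz : f.base z = genericPoint Y := by rw [apply_fiberι, hξ]
  have hzn : (n : ℕ∞) ≤ Order.coheight z := by
    let p' : LTSeries X := p.map (f.fiberι (f.base ξ)).base
      (strictMono_of_isEmbedding _ (f.fiberι _).isEmbedding)
    have h := Order.length_le_coheight (x := z) (p := p') (by simp [z, p'])
    rwa [show p'.length = n from hlen] at h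
  have key : ∀ (k : ℕ) (y : Y), (k : ℕ∞) ≤ Order.coheight y →
      ∃ x, f.base x = y ∧ ((k + n : ℕ) : ℕ∞) ≤ Order.coheight x := by
    intro k
    induction k with
    | zero =>
      intro y _
      obtain ⟨x, hx, hxy⟩ := hf.specializingMap (hz ▸ genericPoint_specializes y : f.base z ⤳ y)
      exact ⟨x, hxy, by simpa using hzn.trans (Order.coheight_anti hx)⟩
    | succ k ih =>
      intro y hy
      obtain ⟨s, hs, hslen⟩ := Order.exists_series_of_le_coheight y hy
      have hlt : y < s.toFun ⟨1, by omega⟩ := hs ▸ s.strictMono (by simp [Fin.lt_def])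
      obtain ⟨x', hx', hxn⟩ := ih (s.toFun ⟨1, by omega⟩) (by
        have := Order.length_le_coheight (x := s.toFun ⟨1, by omega⟩) (p := s.drop ⟨1, by omega⟩) (by simp)
        have hd : (s.drop ⟨1, by omega⟩).length = k := by simp [hslen]
        rwa [hd] at this)
      obtain ⟨x, hx, hxy⟩ := hf.specializingMap (hx'.symm ▸ hlt.le : f.base x' ⤳ y)
      refine ⟨x, hxy, ?_⟩
      have hxlt : x < x' := lt_of_le_not_ge hx fun h' => hlt.not_ge (by
        rw [← hx', ← hxy]; exact h'.map f.continuous)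
      have := Order.coheight_add_one_le hxlt
      calc ((k + 1 + n : ℕ) : ℕ∞) = ((k + n : ℕ) : ℕ∞) + 1 := by push_cast; ring
        _ ≤ Order.coheight x' + 1 := add_le_add hxn le_rfl
        _ ≤ _ := this
  rw [dim_eq_iSup_stalk Y, dim_eq_iSup_stalk X]
  simp only [ringKrullDim_stalk_eq_coheight]
  haveI : Nonempty Y := ⟨genericPoint Y⟩
  rw [← WithBot.coe_iSup (OrderTop.bddAbove _), show (n : WithBot ℕ∞) = ((n : ℕ∞) : WithBot ℕ∞) from rfl,
    ← WithBot.coe_add, ENat.iSup_add]
  haveI : Nonempty X := ⟨ξ⟩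
  rw [← WithBot.coe_iSup (OrderTop.bddAbove _), WithBot.coe_le_coe]
  refine iSup_le fun y => ?_
  by_cases htop : Order.coheight y = ⊤
  · rw [htop, top_add, top_le_iff]
    refine ENat.eq_top_iff_forall_ge.2 fun m => ?_
    obtain ⟨x, -, hx⟩ := key m y (by rw [htop]; exact le_top)
    exact (le_trans (by exact_mod_cast Nat.le_add_right m n) hx).trans (le_iSup (fun x : X => Order.coheight x) x)
  · obtain ⟨k, hk⟩ := ENat.ne_top_iff_exists.1 htop
    obtain ⟨x, -, hx⟩ := key k y hk.le
    rw [← hk, ← Nat.cast_add]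
    exact hx.trans (le_iSup (fun x : X => Order.coheight x) x)

end Groth.FibreDim
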