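import Groth.Agent.FibreDim.OpenFibre
import Groth.Agent.FibreDim.Constructible
import Groth.Agent.FibreDim.Retrocompact

/-!
# Local constancy of fibre dimensions of open morphisms
-/

universe u

open CategoryTheory CategoryTheory.Limits AlgebraicGeometry TopologicalSpace Topology

namespace Groth.FibreDim

variable {X Y : Scheme.{u}} (f : X ⟶ Y)

theorem eventually_dim_fiber_eq [IsLocallyNoetherian Y] [LocallyOfFiniteType f] [QuasiCompact f]
    (y : Y) (hopen : ∀ x, f.base x = y → EGA43.IsOpenAt f.base x)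
    (hle : ∀ y' : Y, y' ⤳ y → topologicalKrullDim ↥(f.fiber y') ≤ topologicalKrullDim ↥(f.fiber y)) :
    {z | topologicalKrullDim ↥(f.fiber z) = topologicalKrullDim ↥(f.fiber y)} ∈ 𝓝 y := by
  haveI : LocallyOfFinitePresentation f :=
    LocallyOfFinitePresentation.iff_locallyOfFiniteType.mpr inferInstance
  exact mem_nhds_of_isLocallyConstructible (isLocallyConstructible_dim_fiber_eq f _)
    fun y' hy' => le_antisymm (hle y' hy') (dim_fiber_le_of_isOpenAt f hy' hopen)

lemma exists_genericPoint_specializes' {Z : Type u} [TopologicalSpace Z] [QuasiSober Z] (z : Z) :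
    ∃ η : Z, η ⤳ z ∧ closure {η} ∈ irreducibleComponents Z := by
  have hT := irreducibleComponent_mem_irreducibleComponents z
  have hg := hT.1.isGenericPoint_genericPoint (isClosed_of_mem_irreducibleComponents _ hT)
  exact ⟨_, hg.specializes mem_irreducibleComponent, by rw [hg.def]; exact hT⟩

lemma dim_inter_preimage_eq (U : X.Opens) (z : Y) :
    topologicalKrullDim ↥((U : Set X) ∩ f.base ⁻¹' {z}) = topologicalKrullDim ↥((U.ι ≫ f).fiber z) := by
  have he : IsEmbedding (U.ι.base ∘ ((U.ι ≫ f).fiberι z).base) :=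
    U.ι.isEmbedding.comp ((U.ι ≫ f).fiberι z).isEmbedding
  have hr : Set.range (U.ι.base ∘ ((U.ι ≫ f).fiberι z).base) = (U : Set X) ∩ f.base ⁻¹' {z} := by
    rw [Set.range_comp, (U.ι ≫ f).range_fiberι]
    ext x
    constructor
    · rintro ⟨w, hw, rfl⟩
      exact ⟨w.2, hw⟩
    · rintro ⟨hxU, hx⟩
      exact ⟨⟨x, hxU⟩, hx, rfl⟩
  exact ((he.toHomeomorph.trans (Homeomorph.setCongr hr)).isHomeomorph.topologicalKrullDim_eq).symm

end Groth.FibreDim
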