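import Groth.Agent.Variety2.DimAffine
import Groth.Agent.GenericFree.Basic

/-!
# Dimension and field extensions (EGA IV 4.2.8)
-/

universe u

open scoped TensorProduct

namespace Groth.FibreDim

variable {k : Type u} [Field k] {A : Type u} [CommRing A] [Algebra k A]
  (K : Type u) [Field K] [Algebra k K]

/-- The base change of an integral map is integral. -/
lemma isIntegral_map_id {B : Type u} [CommRing B] [Algebra k B] (g : B →ₐ[k] A)
    (hg : g.toRingHom.IsIntegral) :
    (Algebra.TensorProduct.map (AlgHom.id k K) g).toRingHom.IsIntegral := by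
  intro x
  induction x with
  | zero => exact RingHom.isIntegralElem_zero _
  | tmul a b =>
    have hb : (Algebra.TensorProduct.map (AlgHom.id k K) g).toRingHom.IsIntegralElem ((1 : K) ⊗ₜ b) := by
      obtain ⟨p, hp, hp'⟩ := hg b
      refine ⟨p.map (Algebra.TensorProduct.includeRight (R := k) (A := K)).toRingHom, hp.map _, ?_⟩
      rw [Polynomial.eval₂_map,
        show (Algebra.TensorProduct.map (AlgHom.id k K) g).toRingHom.comp
            (Algebra.TensorProduct.includeRight (R := k) (A := K)).toRingHom =
          (Algebra.TensorProduct.includeRight (R := k) (A := K) (B := A)).toRingHom.comp g.toRingHom from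
          RingHom.ext fun y => by simp,
        show ((1 : K) ⊗ₜ[k] b : K ⊗[k] A) =
          (Algebra.TensorProduct.includeRight (R := k) (A := K)).toRingHom b from rfl,
        ← Polynomial.hom_eval₂, hp', map_zero]
    have ha : (Algebra.TensorProduct.map (AlgHom.id k K) g).toRingHom.IsIntegralElem (a ⊗ₜ (1 : A)) := by
      have : (Algebra.TensorProduct.map (AlgHom.id k K) g).toRingHom (a ⊗ₜ 1) = a ⊗ₜ (1 : A) := by simp
      rw [← this]
      exact RingHom.isIntegralElem_map _
    simpa using RingHom.IsIntegralElem.mul _ ha hb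
  | add x y hx hy => exact RingHom.IsIntegralElem.add _ hx hy

lemma ringKrullDim_tensor_mvPolynomial (s : ℕ) :
    ringKrullDim (K ⊗[k] MvPolynomial (Fin s) k) = s := by
  rw [ringKrullDim_eq_of_ringEquiv (MvPolynomial.algebraTensorAlgEquiv k K).toRingEquiv,
    MvPolynomial.ringKrullDim_of_isNoetherianRing, ringKrullDim_eq_zero_of_field]
  simp

variable [Algebra.FiniteType k A]

/-- A field extension does not increase the dimension. -/
theorem ringKrullDim_tensor_le : ringKrullDim (K ⊗[k] A) ≤ ringKrullDim A := by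
  cases subsingleton_or_nontrivial A
  · haveI : Subsingleton (K ⊗[k] A) := subsingleton_of_forall_eq 0 fun x => by
      induction x with
      | zero => rfl
      | tmul a b => rw [Subsingleton.elim b 0, TensorProduct.tmul_zero]
      | add x y hx hy => rw [hx, hy, add_zero]
    simp [ringKrullDim_eq_bot_of_subsingleton]
  obtain ⟨s, g, hinj, hint⟩ := exists_integral_inj_algHom_of_fg k A
  have hA : ringKrullDim A = s := by
    letI := g.toRingHom.toAlgebra
    haveI : Algebra.IsIntegral (MvPolynomial (Fin s) k) A := ⟨hint⟩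
    rw [Groth.Variety2.Dim.ringKrullDim_eq_of_isIntegral (MvPolynomial (Fin s) k) A hinj,
      MvPolynomial.ringKrullDim_of_isNoetherianRing, ringKrullDim_eq_zero_of_field]
    simp
  let G := Algebra.TensorProduct.map (AlgHom.id k K) g
  letI := G.toRingHom.toAlgebra
  haveI : Algebra.IsIntegral (K ⊗[k] MvPolynomial (Fin s) k) (K ⊗[k] A) :=
    ⟨isIntegral_map_id K g hint⟩
  rw [hA, ← ringKrullDim_tensor_mvPolynomial (k := k) K s]
  exact Order.krullDim_le_of_strictMono (PrimeSpectrum.comap
    (algebraMap (K ⊗[k] MvPolynomial (Fin s) k) (K ⊗[k] A))) fun a b hab =>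
      Ideal.IsIntegral.comap_lt_comap (I := a.asIdeal) (J := b.asIdeal) hab

/-- A finitely generated torsion-free module embeds into a free one. -/
lemma exists_injective_to_finsupp {B : Type u} [CommRing B] [IsDomain B] [Algebra B A] [IsDomain A]
    [Module.Finite B A] (hinj : Function.Injective (algebraMap B A)) :
    ∃ (ι : Type u) (ψ : A →ₗ[B] (ι →₀ B)), Function.Injective ψ := by
  classical
  obtain ⟨c, hc, ι, φ, hφ, hcov⟩ := Groth.GenericFree.gf_of_finiteType (R := B) A A
  obtain ⟨S, hS⟩ := (Module.finite_def.1 (inferInstance : Module.Finite B A))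
  choose e he using hcov
  let N := S.sup e
  have hN : ∀ a : A, c ^ N • a ∈ LinearMap.range φ := by
    intro a
    have ha : a ∈ Submodule.span B (S : Set A) := hS ▸ trivial
    induction ha using Submodule.span_induction with
    | mem x hx =>
      show c ^ S.sup e • x ∈ _
      rw [← Nat.sub_add_cancel (Finset.le_sup (f := e) hx), pow_add, mul_smul]
      exact Submodule.smul_mem _ _ (he x)
    | zero => simp
    | add x y _ _ hx hy => rw [smul_add]; exact Submodule.add_mem _ hx hy
    | smul r x _ hx => rw [smul_comm]; exact Submodule.smul_mem _ r hx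
  refine ⟨ι, (LinearEquiv.ofInjective φ hφ).symm.toLinearMap ∘ₗ
    LinearMap.codRestrict (LinearMap.range φ) (c ^ N • LinearMap.id) hN, fun a b hab => ?_⟩
  have h : c ^ N • a = c ^ N • b :=
    congrArg Subtype.val ((LinearEquiv.ofInjective φ hφ).symm.injective hab)
  rw [Algebra.smul_def, Algebra.smul_def] at h
  exact mul_left_cancel₀ (by rw [map_ne_zero_iff _ hinj]; exact pow_ne_zero _ hc) h

/-- Every component of a base change of a domain has the dimension of the domain. -/
theorem le_ringKrullDim_quotient [IsDomain A] (P : Ideal (K ⊗[k] A))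
    (hP : P ∈ minimalPrimes (K ⊗[k] A)) :
    ringKrullDim A ≤ ringKrullDim ((K ⊗[k] A) ⧸ P) := by
  haveI := Ideal.minimalPrimes_isPrime hP
  obtain ⟨s, g, hinj, hfin⟩ := exists_finite_inj_algHom_of_fg k A
  have hA : ringKrullDim A = s := by
    letI := g.toRingHom.toAlgebra
    haveI : Module.Finite (MvPolynomial (Fin s) k) A := hfin
    haveI : Algebra.IsIntegral (MvPolynomial (Fin s) k) A := Algebra.IsIntegral.of_finite _ _
    rw [Groth.Variety2.Dim.ringKrullDim_eq_of_isIntegral (MvPolynomial (Fin s) k) A hinj,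
      MvPolynomial.ringKrullDim_of_isNoetherianRing, ringKrullDim_eq_zero_of_field]
    simp
  let B := MvPolynomial (Fin s) k
  letI algBA : Algebra B A := g.toRingHom.toAlgebra
  haveI : IsScalarTower k B A := IsScalarTower.of_algebraMap_eq fun r => (g.commutes r).symm
  haveI : Module.Finite B A := hfin
  obtain ⟨ι, ψ, hψ⟩ := exists_injective_to_finsupp (A := A) (B := B) hinj
  classical
  let Ψ : K ⊗[k] A →ₗ[k] (ι →₀ K ⊗[k] B) :=
    (TensorProduct.finsuppRight k k K B ι).toLinearMap ∘ₗ (ψ.restrictScalars k).lTensor K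
  have hΨ : Function.Injective Ψ := (TensorProduct.finsuppRight k k K B ι).injective.comp
    (Module.Flat.lTensor_preserves_injective_linearMap (M := K) (ψ.restrictScalars k) hψ)
  let G := Algebra.TensorProduct.map (AlgHom.id k K) g
  have hlin : ∀ (r : K ⊗[k] B) (y : K ⊗[k] A) (i : ι), Ψ (G r * y) i = r * Ψ y i := by
    intro r y i
    induction r with
    | zero => simp
    | add r₁ r₂ h₁ h₂ => simp [add_mul, map_add, h₁, h₂]
    | tmul a b =>
      induction y with
      | zero => simp
      | add y₁ y₂ h₁ h₂ => simp [mul_add, map_add, h₁, h₂]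
      | tmul a' x =>
        have hb : g b * x = b • x := (Algebra.smul_def b x).symm
        simp [G, Ψ, TensorProduct.finsuppRight_apply_tmul_apply, hb]
  haveI : IsDomain (K ⊗[k] B) :=
    (MvPolynomial.algebraTensorAlgEquiv k K).toRingEquiv.toMulEquiv.isDomain _
  letI := G.toRingHom.toAlgebra
  haveI : Algebra.IsIntegral (K ⊗[k] B) (K ⊗[k] A) :=
    ⟨isIntegral_map_id K g (RingHom.IsIntegral.of_finite hfin)⟩
  haveI : Algebra.IsIntegral (K ⊗[k] B) ((K ⊗[k] A) ⧸ P) :=
    Algebra.IsIntegral.of_surjective (Ideal.Quotient.mkₐ (K ⊗[k] B) P) Ideal.Quotient.mk_surjective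
  rw [hA, ← ringKrullDim_tensor_mvPolynomial (k := k) K s]
  refine (Groth.Variety2.Dim.ringKrullDim_eq_of_isIntegral (K ⊗[k] B) ((K ⊗[k] A) ⧸ P) ?_).ge
  rw [injective_iff_map_eq_zero]
  intro r hr
  by_contra hr0
  have hnzd : G r ∈ nonZeroDivisors (K ⊗[k] A) := mem_nonZeroDivisors_iff_left.2
    fun y hy => by
      refine (map_eq_zero_iff Ψ hΨ).1 (Finsupp.ext fun i => mul_left_cancel₀ hr0 ?_)
      rw [← hlin, hy]
      simp
  exact Set.disjoint_left.1 (Ideal.disjoint_nonZeroDivisors_of_mem_minimalPrimes hP)
    (Ideal.Quotient.eq_zero_iff_mem.1 hr) hnzd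

end Groth.FibreDim
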