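import Groth.Agent.FibreDim.DimFormulaCor
import Groth.Agent.PropsBasic2.Reduced
import Mathlib.AlgebraicGeometry.Properties

/-!
# The dimension formula along an irreducible closed subset
-/

universe u

open CategoryTheory CategoryTheory.Limits AlgebraicGeometry TopologicalSpace Topology

namespace Groth.FibreDim

lemma le_iff_of_isEmbedding {X X' : Scheme.{u}} (i : X' ⟶ X) (hi : IsEmbedding i.base) (a b : X') :
    i.base a ≤ i.base b ↔ a ≤ b :=
  hi.toIsInducing.specializes_iff

lemma strictMono_of_isEmbedding {X X' : Scheme.{u}} (i : X' ⟶ X) (hi : IsEmbedding i.base) :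
    StrictMono i.base := fun a b h =>
  lt_of_le_not_ge ((le_iff_of_isEmbedding i hi a b).2 h.le)
    fun h' => h.not_ge ((le_iff_of_isEmbedding i hi b a).1 h')

/-- Heights and coheights in fibres of a morphism restricted to closed subschemes. -/
theorem height_asFiber_restrict {X X' Y Y' : Scheme.{u}} (f : X ⟶ Y) (i : X' ⟶ X) [IsClosedImmersion i]
    (j : Y' ⟶ Y) [IsClosedImmersion j] (g : X' ⟶ Y') (hg : g ≫ j = i ≫ f) (x' : X') :
    Order.height (g.asFiber x') = Order.height (f.asFiber (i.base x')) ∧
      Order.coheight (g.asFiber x') ≤ Order.coheight (f.asFiber (i.base x')) := by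
  have hcomm : ∀ w : X', f.base (i.base w) = j.base (g.base w) := fun w => by
    rw [← Scheme.Hom.comp_apply, ← hg, Scheme.Hom.comp_apply]
  have hmem : ∀ w : g.fiber (g.base x'),
      i.base ((g.fiberι _).base w) ∈ Set.range (f.fiberι (f.base (i.base x'))).base := fun w => by
    rw [f.range_fiberι]
    show f.base _ = _
    rw [hcomm, hcomm, apply_fiberι]
  choose φ hφ using hmem
  have hle : ∀ a b, φ a ≤ φ b ↔ a ≤ b := fun a b => by
    rw [← le_iff_of_isEmbedding _ (f.fiberι _).isEmbedding, hφ, hφ,
      le_iff_of_isEmbedding i i.isEmbedding, le_iff_of_isEmbedding _ (g.fiberι _).isEmbedding]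
  have hmono : StrictMono φ := fun a b h =>
    lt_of_le_not_ge ((hle a b).2 h.le) fun h' => h.not_ge ((hle b a).1 h')
  have hpt : φ (g.asFiber x') = f.asFiber (i.base x') := (f.fiberι _).isEmbedding.injective (by
    rw [hφ, g.fiberι_asFiber, f.fiberι_asFiber])
  rw [← hpt]
  refine ⟨le_antisymm (Order.height_le_height_apply_of_strictMono φ hmono _) ?_,
    Order.coheight_le_coheight_apply_of_strictMono φ hmono _⟩
  refine Order.height_le fun p hp => ?_
  have hr : ∀ k, p.toFun k ∈ Set.range φ := fun k => by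
    have h1 : p.toFun k ≤ φ (g.asFiber x') :=
      (p.monotone (Fin.le_last k)).trans hp.le
    have h2 : (f.fiberι _).base (p.toFun k) ≤ (f.fiberι _).base (φ (g.asFiber x')) :=
      (le_iff_of_isEmbedding _ (f.fiberι _).isEmbedding _ _).2 h1
    rw [hφ] at h2
    have h3 : (i.base ((g.fiberι _).base (g.asFiber x'))) ⤳ (f.fiberι _).base (p.toFun k) := h2
    obtain ⟨w, hw⟩ := h3.mem_closed i.isClosedEmbedding.isClosed_range ⟨_, rfl⟩
    have hgw : g.base w = g.base x' := j.isEmbedding.injective (by
      rw [← hcomm, ← hcomm, hw, apply_fiberι])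
    obtain ⟨v, hv⟩ : w ∈ Set.range (g.fiberι (g.base x')).base := by rw [g.range_fiberι]; exact hgw
    exact ⟨v, (f.fiberι _).isEmbedding.injective (by rw [hφ, hv, hw])⟩
  choose q hq using hr
  let p' : LTSeries (g.fiber (g.base x')) := LTSeries.mk p.length q fun a b hab => by
    have := p.strictMono hab
    rw [← hq a, ← hq b] at this
    exact lt_of_le_not_ge ((hle _ _).1 this.le) fun h' => this.not_ge ((hle _ _).2 h')
  show (p'.length : ℕ∞) ≤ _
  refine Order.length_le_height ?_
  show q (Fin.last p.length) ≤ g.asFiber x'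
  rw [← hle, hq]
  exact hp.le

variable {X Y : Scheme.{u}} (f : X ⟶ Y)

/-- The morphism induced between the reduced closures of `ξ` and `f ξ`. -/
theorem exists_restrict [LocallyOfFiniteType f] (ξ : X) :
    ∃ (X' Y' : Scheme.{u}) (i : X' ⟶ X) (j : Y' ⟶ Y) (g : X' ⟶ Y') (_ : IsClosedImmersion i)
      (_ : IsClosedImmersion j) (_ : IrreducibleSpace X') (_ : IrreducibleSpace Y')
      (_ : LocallyOfFiniteType g) (_ : IsDominant g), g ≫ j = i ≫ f ∧ IsReduced X' ∧ IsReduced Y' ∧
      Set.range i.base = closure {ξ} ∧ Set.range j.base = closure {f.base ξ} := by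
  let S : Closeds X := ⟨closure {ξ}, isClosed_closure⟩
  let T : Closeds Y := ⟨closure {f.base ξ}, isClosed_closure⟩
  let i := (Scheme.IdealSheafData.vanishingIdeal S).subschemeι
  let j := (Scheme.IdealSheafData.vanishingIdeal T).subschemeι
  have hi : Set.range i.base = closure {ξ} := Groth.PropsBasic2.range_vanishingIdeal_subschemeι S
  have hj : Set.range j.base = closure {f.base ξ} := Groth.PropsBasic2.range_vanishingIdeal_subschemeι T
  haveI := Groth.PropsBasic2.isReduced_vanishingIdeal_subscheme S
  have hsub : Set.range (i ≫ f).base ⊆ Set.range j.base := by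
    rintro _ ⟨w, rfl⟩
    rw [hj, ← Set.image_singleton, Scheme.Hom.comp_apply]
    exact image_closure_subset_closure_image f.continuous ⟨i.base w, hi.le ⟨w, rfl⟩, rfl⟩
  obtain ⟨g, hg⟩ := Groth.PropsBasic2.exists_lift_of_isReduced (i ≫ f) j hsub
  have hirr : ∀ {Z Z' : Scheme.{u}} (k : Z' ⟶ Z) [IsClosedImmersion k] (z : Z),
      Set.range k.base = closure {z} → IrreducibleSpace Z' := fun {Z Z'} k _ z hk => by
    obtain ⟨z', hz'⟩ : z ∈ Set.range k.base := hk.ge (subset_closure rfl)
    have : IsGenericPoint z' (Set.univ : Set Z') := by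
      rw [isGenericPoint_def, k.isEmbedding.closure_eq_preimage_closure_image, Set.image_singleton, hz',
        ← hk, Set.preimage_range]
    exact (irreducibleSpace_def _).2 this.isIrreducible
  haveI : LocallyOfFiniteType (g ≫ j) := by rw [hg]; infer_instance
  haveI : LocallyOfFiniteType g := locallyOfFiniteType_of_comp g j
  haveI : IsDominant g := by
    rw [isDominant_iff]
    intro w
    show w ∈ closure (Set.range g.base)
    obtain ⟨z', hz'⟩ : ξ ∈ Set.range i.base := hi.ge (subset_closure rfl)
    have h1 : j.base (g.base z') = f.base ξ := by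
      rw [← Scheme.Hom.comp_apply, hg, Scheme.Hom.comp_apply, hz']
    have h2 : w ∈ closure {g.base z'} := by
      rw [j.isEmbedding.closure_eq_preimage_closure_image, Set.image_singleton, h1, ← hj, Set.preimage_range]
      trivial
    exact closure_mono (Set.singleton_subset_iff.2 (Set.mem_range_self z')) h2
  exact ⟨_, _, i, j, g, inferInstance, inferInstance, hirr i ξ hi, hirr j _ hj, inferInstance, inferInstance, hg,
    Groth.PropsBasic2.isReduced_vanishingIdeal_subscheme S,
    Groth.PropsBasic2.isReduced_vanishingIdeal_subscheme T, hi, hj⟩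

lemma exists_coheight_eq_natCast [IsLocallyNoetherian X] (x : X) : ∃ n : ℕ, Order.coheight x = n := by
  obtain ⟨n, hn⟩ := exists_ringKrullDim_eq_natCast (X.presheaf.stalk x)
  rw [ringKrullDim_stalk_eq_coheight] at hn
  exact ⟨n, by exact_mod_cast hn⟩

lemma exists_series_maximal [IsLocallyNoetherian X] (x : X) :
    ∃ s : LTSeries X, s.head = x ∧ (s.length : ℕ∞) = Order.coheight x ∧ IsMax s.last := by
  obtain ⟨n, hn⟩ := exists_coheight_eq_natCast x
  obtain ⟨s, hs, hlen⟩ := Order.exists_series_of_le_coheight x hn.ge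
  refine ⟨s, hs, by rw [hlen, hn], fun w hw => ?_⟩
  by_contra hc
  let s' := s.snoc w (lt_of_le_not_ge hw hc)
  have h := Order.length_le_coheight (x := x) (p := s') (by simp [s', hs])
  rw [hn] at h
  have h' : s'.length ≤ n := by exact_mod_cast h
  simp [s', hlen] at h'

/-- **The dimension formula along `closure {ξ}`.**  `a` and `b` are the codimensions of `x` in
`closure {ξ}` and of `f x` in `closure {f ξ}`. -/
theorem exists_dim_formula_along [IsLocallyNoetherian Y] [LocallyOfFiniteType f] {ξ x : X} (h : ξ ⤳ x) :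
    ∃ t t₀ a b : ℕ, Order.height (f.asFiber x) = t ∧ Order.height (f.asFiber ξ) = t₀ ∧
      a + t ≤ b + t₀ ∧ (CAlg.IsUniversallyCatenary (Y.presheaf.stalk (f.base x)) → a + t = b + t₀) ∧
      (a : ℕ∞) ≤ Order.coheight x ∧
      (∀ s : LTSeries X, x ≤ s.head → s.last ≤ ξ → s.length ≤ a) ∧
      (b : ℕ∞) ≤ Order.coheight (f.base x) ∧
      (¬ IsMax (f.base ξ) → ((b + 1 : ℕ) : ℕ∞) ≤ Order.coheight (f.base x)) ∧
      ((∀ w, f.base x ≤ w → w ≤ f.base ξ) → (b : ℕ∞) = Order.coheight (f.base x)) ∧
      (t₀ : ℕ∞) ≤ t + Order.coheight (f.asFiber x) ∧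
      (∀ s : LTSeries Y, f.base x ≤ s.head → s.last ≤ f.base ξ → s.length ≤ b) ∧
      (∃ s : LTSeries Y, f.base x ≤ s.head ∧ s.last ≤ f.base ξ ∧ s.length = b) ∧
      (∃ s : LTSeries X, x ≤ s.head ∧ s.last ≤ ξ ∧ s.length = a) := by
  obtain ⟨X', Y', i, j, g, _, _, _, _, _, _, hg, _, _, hi, hj⟩ := exists_restrict f ξ
  haveI : IsLocallyNoetherian Y' := LocallyOfFiniteType.isLocallyNoetherian j
  obtain ⟨x', rfl⟩ : x ∈ Set.range i.base := hi.ge (specializes_iff_mem_closure.1 h)
  obtain ⟨ξ', hξ'⟩ : ξ ∈ Set.range i.base := hi.ge (subset_closure rfl)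
  have hcomm : ∀ w : X', f.base (i.base w) = j.base (g.base w) := fun w => by
    rw [← Scheme.Hom.comp_apply, ← hg, Scheme.Hom.comp_apply]
  have htop : ∀ w : Y', w ≤ g.base ξ' := fun w => by
    rw [← le_iff_of_isEmbedding j j.isEmbedding, ← hcomm, hξ']
    exact specializes_iff_mem_closure.2 (hj.le ⟨w, rfl⟩)
  have htop' : ∀ w : X', w ≤ ξ' := fun w => by
    rw [← le_iff_of_isEmbedding i i.isEmbedding, hξ']
    exact specializes_iff_mem_closure.2 (hi.le ⟨w, rfl⟩)
  have hgen : genericPoint X' = ξ' :=
    (genericPoint_specializes ξ').antisymm (htop' _) |>.eq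
  obtain ⟨t, t₀, -, ht, hrt₀, -, hle, heq⟩ := exists_dim_formula g x'
  obtain ⟨u, hu, hu'⟩ := exists_relTrdeg_eq_height g (genericPoint X')
  rw [hrt₀, Nat.cast_inj] at hu
  subst hu
  rw [hgen, (height_asFiber_restrict f i j g hg ξ').1, hξ'] at hu'
  have ht' := (height_asFiber_restrict f i j g hg x').1.symm.trans ht
  obtain ⟨a, ha⟩ := @exists_coheight_eq_natCast _ (LocallyOfFiniteType.isLocallyNoetherian g) x'
  obtain ⟨b, hb⟩ := exists_coheight_eq_natCast (g.base x')
  rw [ringKrullDim_stalk_eq_coheight, ringKrullDim_stalk_eq_coheight, ha, hb] at hle heq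
  have hb' : (b : ℕ∞) ≤ Order.coheight (f.base (i.base x')) := by
    rw [← hb, hcomm]
    exact Order.coheight_le_coheight_apply_of_strictMono _ (strictMono_of_isEmbedding j j.isEmbedding) _
  refine ⟨t, t₀, a, b, ht', hu', by exact_mod_cast hle, fun hc => ?_, ?_, ?_, hb', ?_, ?_, ?_, ?_, ?_, ?_⟩
  · have hc' : CAlg.IsUniversallyCatenary (Y'.presheaf.stalk (g.base x')) := by
      rw [hcomm] at hc
      letI := (j.stalkMap (g.base x')).hom.toAlgebra
      haveI : Algebra.FiniteType (Y.presheaf.stalk (j.base (g.base x'))) (Y'.presheaf.stalk (g.base x')) :=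
        RingHom.finiteType_algebraMap.mp
          (RingHom.FiniteType.of_surjective _ (j.stalkMap_surjective (g.base x')))
      exact Groth.Agent.S9126.result _ _ hc
    exact_mod_cast heq hc'
  · rw [← ha]
    exact Order.coheight_le_coheight_apply_of_strictMono _ (strictMono_of_isEmbedding i i.isEmbedding) _
  · intro s hs hsl
    have hr : ∀ k, s.toFun k ∈ Set.range i.base := fun k => by
      rw [hi]
      exact specializes_iff_mem_closure.1 ((s.monotone (Fin.le_last k)).trans hsl : s.toFun k ≤ ξ)
    choose q hq using hr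
    let s' : LTSeries X' := LTSeries.mk s.length q fun k l hkl => by
      have hkl := s.strictMono hkl
      rw [← hq k, ← hq l] at hkl
      exact lt_of_le_not_ge ((le_iff_of_isEmbedding i i.isEmbedding _ _).1 hkl.le)
        fun h' => hkl.not_ge ((le_iff_of_isEmbedding i i.isEmbedding _ _).2 h')
    have : (s.length : ℕ∞) ≤ Order.coheight x' := by
      refine Order.length_le_coheight (p := s') ?_
      show x' ≤ q 0
      rw [← le_iff_of_isEmbedding i i.isEmbedding, hq]
      exact hs
    rw [ha] at this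
    exact_mod_cast this
  · intro hmax
    obtain ⟨w, hw, hw'⟩ : ∃ w, f.base ξ ≤ w ∧ ¬ w ≤ f.base ξ := by
      by_contra hc
      exact hmax fun w hw => by_contra fun h' => hc ⟨w, hw, h'⟩
    obtain ⟨s, hs, hlen⟩ := Order.exists_series_of_le_coheight (g.base x') hb.ge
    let s' : LTSeries Y := s.map j.base (strictMono_of_isEmbedding j j.isEmbedding)
    have hlast : s'.last < w := by
      refine lt_of_le_of_lt ?_ (lt_of_le_not_ge hw hw')
      show j.base s.last ≤ _
      rw [← hξ', hcomm]
      exact (le_iff_of_isEmbedding j j.isEmbedding _ _).2 (htop _)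
    have := Order.length_le_coheight (x := f.base (i.base x')) (p := s'.snoc w hlast) (by
      simp [s', hs, hcomm])
    simpa [s', hlen] using this
  · intro hall
    refine le_antisymm hb' (Order.coheight_le fun s hs => ?_)
    have hr : ∀ k, s.toFun k ∈ Set.range j.base := fun k => by
      rw [hj]
      exact specializes_iff_mem_closure.1 (hall _ (hs.ge.trans (s.monotone (Fin.zero_le k))) :
        s.toFun k ≤ f.base ξ)
    choose q hq using hr
    let s' : LTSeries Y' := LTSeries.mk s.length q fun k l hkl => by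
      have hkl := s.strictMono hkl
      rw [← hq k, ← hq l] at hkl
      exact lt_of_le_not_ge ((le_iff_of_isEmbedding j j.isEmbedding _ _).1 hkl.le)
        fun h' => hkl.not_ge ((le_iff_of_isEmbedding j j.isEmbedding _ _).2 h')
    rw [← hb]
    refine Order.length_le_coheight (p := s') ?_
    show g.base x' ≤ q 0
    rw [← le_iff_of_isEmbedding j j.isEmbedding, hq, ← hcomm]
    exact hs.ge
  · obtain ⟨_, _, e, t', t₀', -, -, he, hfd, ht₀', h1, -, -⟩ := exists_dim_formula_nat g x'
    obtain ⟨t₁, u₁, -, ht₁, hu₁, hu₁', -, -⟩ := exists_dim_formula g x'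
    rw [ht, Nat.cast_inj] at ht₁
    rw [hrt₀, Nat.cast_inj] at hu₁
    rw [hu₁', ← hu₁] at ht₀'
    have ht₀'' : t₀' = t₀ := by exact_mod_cast ht₀'.symm
    have hfd' : FlatMor.fibreDimAt g x' = (t + e : ℕ) := by
      rw [fibreDimAt_eq_height_add, ht, he]; push_cast; rfl
    rw [hfd] at hfd'
    have hte : t' + e = t + e := by exact_mod_cast hfd'
    have he' : Order.coheight (g.asFiber x') = e := by
      rw [ringKrullDim_stalk_eq_coheight] at he
      exact_mod_cast he
    refine le_trans ?_ (add_le_add le_rfl (height_asFiber_restrict f i j g hg x').2)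
    rw [he']
    norm_cast
    omega
  · intro s hs hsl
    have hr : ∀ k, s.toFun k ∈ Set.range j.base := fun k => by
      rw [hj]
      exact specializes_iff_mem_closure.1 ((s.monotone (Fin.le_last k)).trans hsl : s.toFun k ≤ f.base ξ)
    choose q hq using hr
    let s' : LTSeries Y' := LTSeries.mk s.length q fun k l hkl => by
      have hkl := s.strictMono hkl
      rw [← hq k, ← hq l] at hkl
      exact lt_of_le_not_ge ((le_iff_of_isEmbedding j j.isEmbedding _ _).1 hkl.le)
        fun h' => hkl.not_ge ((le_iff_of_isEmbedding j j.isEmbedding _ _).2 h')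
    have : (s.length : ℕ∞) ≤ Order.coheight (g.base x') := by
      refine Order.length_le_coheight (p := s') ?_
      show g.base x' ≤ q 0
      rw [← le_iff_of_isEmbedding j j.isEmbedding, hq, ← hcomm]
      exact hs
    rw [hb] at this
    exact_mod_cast this
  · obtain ⟨s, hs, hlen⟩ := Order.exists_series_of_le_coheight (g.base x') hb.ge
    refine ⟨s.map j.base (strictMono_of_isEmbedding j j.isEmbedding), ?_, ?_, hlen⟩
    · show f.base (i.base x') ≤ j.base s.head
      rw [hcomm, hs]
    · show j.base s.last ≤ f.base ξ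
      rw [← hξ', hcomm]
      exact (le_iff_of_isEmbedding j j.isEmbedding _ _).2 (htop _)
  · obtain ⟨s, hs, hlen⟩ := Order.exists_series_of_le_coheight x' ha.ge
    refine ⟨s.map i.base (strictMono_of_isEmbedding i i.isEmbedding), ?_, ?_, hlen⟩
    · show i.base x' ≤ i.base s.head
      rw [hs]
    · show i.base s.last ≤ ξ
      rw [← hξ']
      exact (le_iff_of_isEmbedding i i.isEmbedding _ _).2 (htop' _)

end Groth.FibreDim
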