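import Groth.Agent.GenericFree.Basic
import Mathlib.RingTheory.Spectrum.Prime.RingHom
import Mathlib.AlgebraicGeometry.Morphisms.FiniteType

/-!
# The image of a dominant morphism of finite type contains a nonempty open
-/

universe u

open CategoryTheory AlgebraicGeometry TopologicalSpace

namespace Groth.FibreDim

/-- A finitely generated overring of a domain is surjective on spectra over a basic open. -/
theorem exists_basicOpen_subset_range {R B : Type u} [CommRing R] [IsDomain R] [CommRing B]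
    [Algebra R B] [Algebra.FiniteType R B] (hinj : Function.Injective (algebraMap R B)) :
    ∃ a : R, a ≠ 0 ∧ (PrimeSpectrum.basicOpen a : Set (PrimeSpectrum R)) ⊆
      Set.range (PrimeSpectrum.comap (algebraMap R B)) := by
  obtain ⟨a, ha, ι, φ, hφ, hcov⟩ := Groth.GenericFree.gf_of_finiteType (R := R) B B
  have hB : Nontrivial B := hinj.nontrivial
  obtain ⟨i⟩ : Nonempty ι := by
    by_contra hι
    rw [not_nonempty_iff] at hι
    obtain ⟨k, x, hx⟩ := hcov 1
    rw [Subsingleton.elim x 0, map_zero, ← Algebra.algebraMap_eq_smul_one, eq_comm,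
      map_eq_zero_iff _ hinj] at hx
    exact ha (pow_eq_zero_iff'.1 hx).1
  refine ⟨a, ha, fun p hp => (PrimeSpectrum.mem_range_comap_iff _).2
    (le_antisymm (fun r hr => ?_) Ideal.le_comap_map)⟩
  have key : ∀ y ∈ p.asIdeal.map (algebraMap R B),
      ∃ (k : ℕ) (v : ι →₀ R), (∀ j, v j ∈ p.asIdeal) ∧ φ v = a ^ k • y := by
    intro y hy
    rw [← Submodule.restrictScalars_mem R, ← Ideal.smul_top_eq_map] at hy
    refine Submodule.smul_induction_on hy (fun c hc m _ => ?_) ?_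
    · obtain ⟨k, v, hv⟩ := hcov m
      refine ⟨k, c • v, fun j => p.asIdeal.mul_mem_right _ hc, ?_⟩
      rw [map_smul, hv, smul_comm]
    · rintro y z ⟨k, v, hv, hve⟩ ⟨l, w, hw, hwe⟩
      refine ⟨k + l, a ^ l • v + a ^ k • w, fun j => p.asIdeal.add_mem
        (p.asIdeal.mul_mem_left _ (hv j)) (p.asIdeal.mul_mem_left _ (hw j)), ?_⟩
      rw [map_add, map_smul, map_smul, hve, hwe, smul_smul, smul_smul, smul_add, ← pow_add,
        ← pow_add, Nat.add_comm l k]
  obtain ⟨k, v, hv, hve⟩ := key (r • φ (Finsupp.single i 1)) (by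
    rw [Algebra.smul_def]; exact Ideal.mul_mem_right _ _ hr)
  rw [smul_smul, ← map_smul] at hve
  have h2 := hv i
  rw [hφ hve] at h2
  simp only [Finsupp.smul_apply, Finsupp.single_eq_same, smul_eq_mul, mul_one] at h2
  exact (p.isPrime.mem_or_mem h2).resolve_left fun h => hp (p.isPrime.mem_of_pow_mem k h)

/-- The image of a morphism locally of finite type hitting the generic point of an irreducible
scheme contains a nonempty open. -/
theorem exists_open_subset_range {X Y : Scheme.{u}} [IrreducibleSpace Y] (g : X ⟶ Y)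
    [LocallyOfFiniteType g] (h : genericPoint Y ∈ Set.range g.base) :
    ∃ O : Y.Opens, (O : Set Y).Nonempty ∧ (O : Set Y) ⊆ Set.range g.base := by
  obtain ⟨ξ, hξ⟩ := h
  obtain ⟨U, hU, hηU, -⟩ := exists_isAffineOpen_mem_and_subset (U := ⊤) (Set.mem_univ (g.base ξ))
  obtain ⟨V, hV, hξV, hVU'⟩ := exists_isAffineOpen_mem_and_subset (U := g ⁻¹ᵁ U) hηU
  have hVU : V ≤ g ⁻¹ᵁ U := hVU'
  let q := hU.primeIdealOf ⟨g.base ξ, hηU⟩
  have hq : hU.fromSpec.base q = g.base ξ := hU.fromSpec_primeIdealOf ⟨g.base ξ, hηU⟩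
  have hgen : ∀ p : PrimeSpectrum Γ(Y, U), q.asIdeal ≤ p.asIdeal := fun p =>
    (PrimeSpectrum.le_iff_specializes q p).2 (hU.fromSpec.isEmbedding.toIsInducing.specializes_iff.1
      (by rw [hq, hξ]; exact genericPoint_specializes _))
  let P := hV.primeIdealOf ⟨ξ, hξV⟩
  let m := (g.appLE U V hVU).hom
  have hcomm : ∀ Q : PrimeSpectrum Γ(X, V),
      g.base (hV.fromSpec.base Q) = hU.fromSpec.base (PrimeSpectrum.comap m Q) := fun Q => by
    rw [← Scheme.Hom.comp_apply, ← hU.SpecMap_appLE_fromSpec g hV hVU]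
    rfl
  have hPq : PrimeSpectrum.comap m P = q := hU.fromSpec.isEmbedding.injective
    ((hcomm P).symm.trans ((congrArg g.base (hV.fromSpec_primeIdealOf ⟨ξ, hξV⟩)).trans hq.symm))
  letI := m.toAlgebra
  haveI : Algebra.FiniteType Γ(Y, U) Γ(X, V) := g.finiteType_appLE hU hV hVU
  haveI : IsDomain (Γ(Y, U) ⧸ q.asIdeal) := Ideal.Quotient.isDomain _
  let J : Ideal Γ(X, V) := q.asIdeal.map m
  letI : Algebra (Γ(Y, U) ⧸ q.asIdeal) (Γ(X, V) ⧸ J) :=
    (Ideal.quotientMap J m Ideal.le_comap_map).toAlgebra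
  haveI : IsScalarTower Γ(Y, U) (Γ(Y, U) ⧸ q.asIdeal) (Γ(X, V) ⧸ J) :=
    IsScalarTower.of_algebraMap_eq fun r => rfl
  haveI : Algebra.FiniteType (Γ(Y, U) ⧸ q.asIdeal) (Γ(X, V) ⧸ J) :=
    haveI : Algebra.FiniteType Γ(Y, U) (Γ(X, V) ⧸ J) :=
      Algebra.FiniteType.of_surjective (Ideal.Quotient.mkₐ Γ(Y, U) J) Ideal.Quotient.mk_surjective
    Algebra.FiniteType.of_restrictScalars_finiteType Γ(Y, U) _ _
  obtain ⟨a, ha, hsub⟩ := exists_basicOpen_subset_range
    (R := Γ(Y, U) ⧸ q.asIdeal) (B := Γ(X, V) ⧸ J) (by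
      rw [injective_iff_map_eq_zero]
      intro x hx
      obtain ⟨r, rfl⟩ := Ideal.Quotient.mk_surjective x
      rw [Ideal.Quotient.eq_zero_iff_mem, ← hPq]
      have hJ : m r ∈ J := Ideal.Quotient.eq_zero_iff_mem.1 hx
      exact (Ideal.map_le_iff_le_comap.2 (congrArg PrimeSpectrum.asIdeal hPq).ge : J ≤ P.asIdeal) hJ)
  obtain ⟨a, rfl⟩ := Ideal.Quotient.mk_surjective a
  refine ⟨hU.fromSpec ''ᵁ PrimeSpectrum.basicOpen a, ⟨_, q, ?_, rfl⟩, ?_⟩
  · exact fun hmem => ha (Ideal.Quotient.eq_zero_iff_mem.2 hmem)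
  · rintro _ ⟨(p : PrimeSpectrum Γ(Y, U)), hp, rfl⟩
    haveI : (p.asIdeal.map (Ideal.Quotient.mk q.asIdeal)).IsPrime :=
      Ideal.map_isPrime_of_surjective Ideal.Quotient.mk_surjective (by rw [Ideal.mk_ker]; exact hgen p)
    have hback : (p.asIdeal.map (Ideal.Quotient.mk q.asIdeal)).comap (Ideal.Quotient.mk q.asIdeal) =
        p.asIdeal := by
      rw [Ideal.comap_map_of_surjective _ Ideal.Quotient.mk_surjective, ← RingHom.ker_eq_comap_bot,
        Ideal.mk_ker, sup_of_le_left (hgen p)]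
    obtain ⟨Q, hQ⟩ := hsub (a := ⟨p.asIdeal.map (Ideal.Quotient.mk q.asIdeal), inferInstance⟩)
      (fun hmem => hp (hback.le hmem))
    refine ⟨hV.fromSpec.base (PrimeSpectrum.comap (Ideal.Quotient.mk J) Q), ?_⟩
    rw [hcomm]
    refine congrArg _ (PrimeSpectrum.ext ?_)
    exact (congrArg (fun x => Ideal.comap (Ideal.Quotient.mk q.asIdeal) (PrimeSpectrum.asIdeal x)) hQ).trans
      hback

end Groth.FibreDim
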