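import Groth.Agent.FibreDim.Semicontinuity
import Groth.Agent.FibreDim.GenericImage
import Groth.Agent.DescentBase.ClosureRange

/-!
# The dimension of the fibres over a nonempty open of an irreducible base
-/

universe u

open CategoryTheory CategoryTheory.Limits AlgebraicGeometry TopologicalSpace Topology

namespace Groth.FibreDim

variable {X Y : Scheme.{u}} (f : X ⟶ Y) [IrreducibleSpace Y] [LocallyOfFiniteType f]

theorem exists_open_dim_fiber_le [QuasiCompact f] (n : ℕ)
    (h : topologicalKrullDim ↥(f.fiber (genericPoint Y)) ≤ n) :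
    ∃ V : Y.Opens, (V : Set Y).Nonempty ∧ ∀ y ∈ V, topologicalKrullDim ↥(f.fiber y) ≤ n := by
  have hloc : ∀ x : X, ∃ W : X.Opens, (f.base x = genericPoint Y → x ∈ W) ∧
      ∀ (y' : Y) (z : f.fiber y'), (f.fiberι y').base z ∈ W → Order.height z ≤ (n : ℕ∞) := by
    intro x
    obtain ⟨U, hU, hxU, -⟩ := exists_isAffineOpen_mem_and_subset (U := ⊤) (Set.mem_univ (f.base x))
    obtain ⟨V, hV, hxV, hVU⟩ := exists_isAffineOpen_mem_and_subset (U := f ⁻¹ᵁ U) hxU
    have hηU : genericPoint Y ∈ U := (genericPoint_specializes (f.base x)).mem_open U.isOpen hxU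
    obtain ⟨W, -, hW, hWh⟩ := exists_open_height_le f hU hV hVU hηU n
      ((topologicalKrullDim_subspace_le _ _).trans h)
    exact ⟨W, fun hx => hW x hxV hx, hWh⟩
  choose W hW hWh using hloc
  let O : X.Opens := iSup W
  let I := Scheme.IdealSheafData.vanishingIdeal ⟨(O : Set X)ᶜ, O.isOpen.isClosed_compl⟩
  let C : Set Y := closure (Set.range (I.subschemeι ≫ f).base)
  have hrange : ∀ x : X, x ∉ O → f.base x ∈ C := fun x hx => by
    obtain ⟨z, rfl⟩ : x ∈ Set.range I.subschemeι.base := by
      rw [I.range_subschemeι, Scheme.IdealSheafData.coe_support_vanishingIdeal]; exact hx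
    exact subset_closure ⟨z, rfl⟩
  refine ⟨⟨Cᶜ, isClosed_closure.isOpen_compl⟩, ⟨genericPoint Y, fun hη => ?_⟩, fun y hy => ?_⟩
  · obtain ⟨z, hz⟩ := Groth.DescentBase.exists_specializes_of_mem_closure_range (I.subschemeι ≫ f) hη
    have heq : (I.subschemeι ≫ f).base z = genericPoint Y :=
      (hz.antisymm (genericPoint_specializes _)).eq
    have hz' : I.subschemeι.base z ∈ (O : Set X)ᶜ := by
      have : I.subschemeι.base z ∈ (I.support : Set X) := I.range_subschemeι.le ⟨z, rfl⟩
      rwa [Scheme.IdealSheafData.coe_support_vanishingIdeal] at this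
    exact hz' (Opens.mem_iSup.2 ⟨_, hW _ heq⟩)
  · rw [Groth.Variety2.Dim.dim_eq_iSup_height]
    refine iSup_le fun z => ?_
    have hmem : (f.fiberι y).base z ∈ O := by_contra fun hh => hy (apply_fiberι f y z ▸ hrange _ hh)
    obtain ⟨i, hi⟩ := Opens.mem_iSup.1 hmem
    exact_mod_cast hWh i y z hi

theorem exists_open_le_dim_fiber (n : ℕ)
    (h : (n : WithBot ℕ∞) ≤ topologicalKrullDim ↥(f.fiber (genericPoint Y))) :
    ∃ V : Y.Opens, (V : Set Y).Nonempty ∧ ∀ y ∈ V, (n : WithBot ℕ∞) ≤ topologicalKrullDim ↥(f.fiber y) := by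
  obtain ⟨z₀, hz₀⟩ : ∃ z : f.fiber (genericPoint Y), (n : ℕ∞) ≤ Order.height z := by
    rw [Groth.Variety2.Dim.dim_eq_iSup_height] at h
    by_contra hne
    simp only [not_exists, not_le] at hne
    cases isEmpty_or_nonempty ↥(f.fiber (genericPoint Y))
    · simp at h
    cases n with
    | zero => exact absurd (hne (Classical.arbitrary _)) (by simp)
    | succ m =>
      have hle : (⨆ z : f.fiber (genericPoint Y), ((Order.height z : ℕ∞) : WithBot ℕ∞)) ≤ (m : WithBot ℕ∞) :=
        iSup_le fun z => by
          exact_mod_cast (ENat.lt_coe_add_one_iff).1 (by exact_mod_cast hne z : Order.height z < (m : ℕ∞) + 1)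
      have := h.trans hle
      norm_cast at this
      omega
  let ξ := (f.fiberι (genericPoint Y)).base z₀
  let I := Scheme.IdealSheafData.vanishingIdeal (X := X) ⟨closure {ξ}, isClosed_closure⟩
  let g := I.subschemeι ≫ f
  have hr : Set.range I.subschemeι.base = closure {ξ} := by
    rw [I.range_subschemeι, Scheme.IdealSheafData.coe_support_vanishingIdeal]; rfl
  obtain ⟨a₀, ha₀⟩ : ξ ∈ Set.range I.subschemeι.base := hr ▸ subset_closure rfl
  haveI : IrreducibleSpace I.subscheme := by
    have huniv : closure {a₀} = Set.univ := Set.eq_univ_of_forall fun a =>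
      specializes_iff_mem_closure.1 (I.subschemeι.isEmbedding.toIsInducing.specializes_iff.1
        (specializes_iff_mem_closure.2 (ha₀ ▸ hr.le ⟨a, rfl⟩)))
    have h := (isIrreducible_singleton (x := a₀)).closure
    rw [huniv] at h
    exact (irreducibleSpace_def _).2 h
  have hga₀ : g.base a₀ = genericPoint Y := by
    show f.base (I.subschemeι.base a₀) = _
    rw [ha₀]; exact apply_fiberι f _ z₀
  haveI : IsDominant g := ⟨fun y => (genericPoint_specializes y).mem_closed isClosed_closure
    (subset_closure (⟨a₀, hga₀⟩ : genericPoint Y ∈ Set.range g.base))⟩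
  obtain ⟨O, hO, hOsub⟩ := exists_open_subset_range g ⟨a₀, hga₀⟩
  refine ⟨O, hO, fun y hy => ?_⟩
  obtain ⟨a, rfl⟩ := hOsub hy
  calc (n : WithBot ℕ∞)
      ≤ topologicalKrullDim (closure ({z₀} : Set (f.fiber (genericPoint Y)))) := by
        rw [Groth.Variety2.Dim.dim_closure_singleton]; exact_mod_cast hz₀
    _ ≤ topologicalKrullDim ↥(g.fiber (genericPoint Y)) := by
        rw [← Groth.Variety2.Dim.dim_preimage_singleton g]
        have hmem : ∀ w ∈ closure ({z₀} : Set (f.fiber (genericPoint Y))),
            (f.fiberι (genericPoint Y)).base w ∈ closure {ξ} := fun w hw => by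
          have := image_closure_subset_closure_image (f.fiberι (genericPoint Y)).continuous
            (Set.mem_image_of_mem _ hw)
          simpa [ξ] using this
        choose e he using fun w : closure ({z₀} : Set (f.fiber (genericPoint Y))) =>
          hr.ge (hmem w.1 w.2)
        have hce : IsInducing e := by
          refine (I.subschemeι.isEmbedding.toIsInducing.of_comp_iff).1 ?_
          rw [show I.subschemeι.base ∘ e = (f.fiberι (genericPoint Y)).base ∘ Subtype.val from funext he]
          exact (f.fiberι (genericPoint Y)).isEmbedding.toIsInducing.comp IsInducing.subtypeVal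
        have heg : ∀ w, e w ∈ g.base ⁻¹' {genericPoint Y} := fun w => by
          show f.base (I.subschemeι.base (e w)) = _
          rw [he]; exact apply_fiberι f _ _
        exact IsInducing.topologicalKrullDim_le (hce.codRestrict heg)
    _ ≤ FlatMor.fibreDimAt g a := dim_generic_fiber_le g a
    _ ≤ topologicalKrullDim ↥(g.fiber (g.base a)) := Groth.SpectralTopology.localDim_le_dim _
    _ ≤ topologicalKrullDim ↥(f.fiber (g.base a)) := by
        rw [← Groth.Variety2.Dim.dim_preimage_singleton g, ← Groth.Variety2.Dim.dim_preimage_singleton f]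
        exact IsInducing.topologicalKrullDim_le (f := fun w : g.base ⁻¹' {g.base a} =>
          (⟨I.subschemeι.base w.1, w.2⟩ : f.base ⁻¹' {g.base a}))
          ((I.subschemeι.isEmbedding.toIsInducing.comp IsInducing.subtypeVal).codRestrict
            (s := f.base ⁻¹' {g.base a}) fun w => w.2)

theorem exists_open_dim_fiber_eq [QuasiCompact f] (n : ℕ)
    (h : topologicalKrullDim ↥(f.fiber (genericPoint Y)) = n) :
    ∃ V : Y.Opens, (V : Set Y).Nonempty ∧ ∀ y ∈ V, topologicalKrullDim ↥(f.fiber y) = n := by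
  obtain ⟨V₁, h₁, hV₁⟩ := exists_open_dim_fiber_le f n h.le
  obtain ⟨V₂, h₂, hV₂⟩ := exists_open_le_dim_fiber f n h.ge
  obtain ⟨y, -, hy⟩ := (PreirreducibleSpace.isPreirreducible_univ (X := Y)) _ _ V₁.isOpen V₂.isOpen
    (by simpa using h₁) (by simpa using h₂)
  exact ⟨V₁ ⊓ V₂, ⟨y, hy⟩, fun y hy => le_antisymm (hV₁ y hy.1) (hV₂ y hy.2)⟩

end Groth.FibreDim
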