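import Mathlib

/-!
# Transcendence degrees of residue fields over a valuation ring
-/

universe u

namespace Groth.FibreDim

/-- Finitely many nonzero elements of the fraction field of a valuation ring have one dividing all
the others. -/
lemma exists_dividing {V K : Type u} [CommRing V] [IsDomain V] [ValuationRing V] [Field K]
    [Algebra V K] [IsFractionRing V K] {ι : Type*} (s : Finset ι) (z : ι → K) (hs : s.Nonempty)
    (hz : ∀ i ∈ s, z i ≠ 0) : ∃ m ∈ s, ∀ i ∈ s, ∃ v : V, z i = z m * algebraMap V K v := by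
  classical
  induction hs using Finset.Nonempty.cons_induction with
  | singleton a => exact ⟨a, by simp, fun i hi => ⟨1, by simp_all⟩⟩
  | cons a s ha hs ih =>
    obtain ⟨m, hm, hall⟩ := ih fun i hi => hz i (Finset.mem_cons_of_mem hi)
    rcases ValuationRing.isInteger_or_isInteger V (z a / z m) with ⟨v, hv⟩ | ⟨v, hv⟩
    · refine ⟨m, Finset.mem_cons_of_mem hm, fun i hi => ?_⟩
      rcases Finset.mem_cons.1 hi with rfl | hi
      · exact ⟨v, by rw [hv, mul_div_cancel₀ _ (hz m (Finset.mem_cons_of_mem hm))]⟩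
      · exact hall i hi
    · refine ⟨a, Finset.mem_cons_self a s, fun i hi => ?_⟩
      rcases Finset.mem_cons.1 hi with rfl | hi
      · exact ⟨1, by simp⟩
      · obtain ⟨w, hw⟩ := hall i hi
        refine ⟨v * w, ?_⟩
        rw [map_mul, hv, hw, inv_div, ← mul_assoc, mul_div_cancel₀ _ (hz a (Finset.mem_cons_self a s))]

/-- Residue fields along a specialization over a valuation ring do not gain transcendence degree. -/
theorem trdeg_le_of_valuation {V K k L l C : Type u} [CommRing V] [IsDomain V] [ValuationRing V]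
    [Field K] [Algebra V K] [IsFractionRing V K] [Field k] [Field L] [Algebra K L] [Field l]
    [Algebra k l] [CommRing C] (ρ : V →+* k) (hρ : Function.Surjective ρ) (j : V →+* C)
    (ψ : C →+* L) (π : C →+* l) (hψ : ∀ v, algebraMap K L (algebraMap V K v) = ψ (j v))
    (hπ : ∀ v, algebraMap k l (ρ v) = π (j v)) (hker : RingHom.ker ψ ≤ RingHom.ker π)
    (hgen : ∀ w : l, ∃ a b, π b ≠ 0 ∧ w = π a / π b) :
    Algebra.trdeg k l ≤ Algebra.trdeg K L := by
  classical
  haveI : Algebra.IsAlgebraic (Algebra.adjoin k (Set.range π)) l := ⟨fun w => by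
    obtain ⟨a, b, -, rfl⟩ := hgen w
    rw [div_eq_mul_inv]
    exact (isAlgebraic_algebraMap (⟨π a, Algebra.subset_adjoin ⟨a, rfl⟩⟩ : Algebra.adjoin k (Set.range π))).mul
      (isAlgebraic_algebraMap (⟨π b, Algebra.subset_adjoin ⟨b, rfl⟩⟩ : Algebra.adjoin k (Set.range π))).inv⟩
  obtain ⟨t, htsub, ht⟩ := exists_isTranscendenceBasis_subset (R := k) (Set.range π)
  choose a ha using fun x : t => htsub x.2
  rw [← ht.cardinalMk_eq_trdeg]
  refine AlgebraicIndependent.cardinalMk_le_trdeg (x := fun x => ψ (a x)) ?_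
  rw [algebraicIndependent_iff]
  intro P hP
  by_contra hP0
  obtain ⟨m, hm, hall⟩ := exists_dividing (V := V) P.support (fun d => P.coeff d)
    (Finset.nonempty_iff_ne_empty.2 (by simpa using hP0)) (fun i hi => MvPolynomial.mem_support_iff.1 hi)
  have hc : P.coeff m ≠ 0 := MvPolynomial.mem_support_iff.1 hm
  obtain ⟨Q, hQ⟩ : ∃ Q : MvPolynomial t V, Q.map (algebraMap V K) = (P.coeff m)⁻¹ • P := by
    rw [← Set.mem_range, MvPolynomial.mem_range_map_iff_coeffs_subset]
    intro c hc'
    obtain ⟨d, hd, rfl⟩ := MvPolynomial.mem_coeffs_iff.1 hc'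
    have hd' : d ∈ P.support := MvPolynomial.support_smul hd
    obtain ⟨v, hv⟩ := hall d hd'
    exact ⟨v, by rw [MvPolynomial.coeff_smul, smul_eq_mul, hv, inv_mul_cancel_left₀ hc]⟩
  have hQ1 : Q.coeff m = 1 := by
    apply IsFractionRing.injective V K
    rw [← MvPolynomial.coeff_map, hQ, MvPolynomial.coeff_smul, smul_eq_mul, inv_mul_cancel₀ hc, map_one]
  have h1 : ψ (Q.eval₂ j a) = 0 := by
    rw [MvPolynomial.eval₂_comp_left,
      show ψ.comp j = (algebraMap K L).comp (algebraMap V K) from RingHom.ext fun v => (hψ v).symm,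
      ← MvPolynomial.eval₂_map, hQ, ← MvPolynomial.aeval_def, map_smul]
    simp [Function.comp_def, hP]
  have h2 : π (Q.eval₂ j a) = 0 := hker h1
  rw [MvPolynomial.eval₂_comp_left,
    show π.comp j = (algebraMap k l).comp ρ from RingHom.ext fun v => (hπ v).symm,
    ← MvPolynomial.eval₂_map, ← MvPolynomial.aeval_def,
    show π ∘ a = ((↑) : t → l) from funext fun x => ha x] at h2
  have h3 : Q.map ρ = 0 := ht.1.eq_zero_of_aeval_eq_zero _ h2
  have h4 : (Q.map ρ).coeff m = 1 := by rw [MvPolynomial.coeff_map, hQ1, map_one]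
  rw [h3, MvPolynomial.coeff_zero] at h4
  exact zero_ne_one h4

end Groth.FibreDim
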